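import Groth.Agent.Lib.CohFound.ModAb
import Mathlib.AlgebraicGeometry.Modules.Tilde
import Mathlib.CategoryTheory.Limits.Preserves.Shapes.Biproducts

/-!
# Quasi-coherent modules on affine schemes: affine Serre vanishing
-/

universe u

open CategoryTheory TopologicalSpace Opposite CategoryTheory.Limits AlgebraicGeometry

namespace Groth.Agent.CohFound

attribute [local instance] HasFiniteBiproducts.of_hasFiniteProducts

set_option maxHeartbeats 200000

variable {R : CommRingCat.{u}}

/-- `tilde`, as a functor to modules on `Spec R`. -/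
noncomputable def tildeF (R : CommRingCat.{u}) : ModuleCat.{u} R ⥤ (Spec R).Modules :=
  tilde.functor R

instance : (tildeF R).Full := inferInstanceAs (tilde.functor R).Full
instance : (tildeF R).Faithful := inferInstanceAs (tilde.functor R).Faithful
instance : (tildeF R).IsLeftAdjoint := inferInstanceAs (tilde.functor R).IsLeftAdjoint
instance : (tildeF R).Additive := inferInstanceAs (tilde.functor R).Additive

lemma exists_iso_tilde (M : (Spec R).Modules) [M.IsQuasicoherent] :
    ∃ N : ModuleCat.{u} R, Nonempty ((tildeF R).obj N ≅ M) :=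
  ⟨_, ⟨@asIso _ _ _ _ M.fromTildeΓ (Scheme.Modules.isIso_fromTildeΓ_of_isQuasicoherent M)⟩⟩

lemma isQuasicoherent_of_iso_tilde {M : (Spec R).Modules} {N : ModuleCat.{u} R}
    (e : (tildeF R).obj N ≅ M) : M.IsQuasicoherent :=
  (SheafOfModules.isQuasicoherent (Spec R).ringCatSheaf).prop_of_iso e
    (inferInstanceAs ((tilde.functor R).obj N).IsQuasicoherent)

/-- Cokernels of maps of quasi-coherent modules on `Spec R` are quasi-coherent, and global sections
surject onto them. -/
lemma isQuasicoherent_cokernel_and_surjective {M N : (Spec R).Modules} (φ : M ⟶ N)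
    [M.IsQuasicoherent] [N.IsQuasicoherent] :
    (cokernel φ).IsQuasicoherent ∧ Function.Surjective ((cokernel.π φ).app ⊤) := by
  obtain ⟨A, ⟨a⟩⟩ := exists_iso_tilde M
  obtain ⟨B, ⟨b⟩⟩ := exists_iso_tilde N
  let g : A ⟶ B := (tildeF R).preimage (a.hom ≫ φ ≫ b.inv)
  have hg : (tildeF R).map g = a.hom ≫ φ ≫ b.inv := Functor.map_preimage _ _
  let e : (tildeF R).obj (cokernel g) ≅ cokernel φ :=
    (asIso (cokernelComparison g (tildeF R))).symm ≪≫
      cokernel.mapIso ((tildeF R).map g) φ a b (by rw [hg]; simp)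
  refine ⟨isQuasicoherent_of_iso_tilde e, fun s => ?_⟩
  have h1 : (tildeF R).map (cokernel.π g) ≫ inv (cokernelComparison g (tildeF R)) =
      cokernel.π ((tildeF R).map g) := by
    rw [IsIso.comp_inv_eq, π_comp_cokernelComparison]
  have he : (tildeF R).map (cokernel.π g) ≫ e.hom = b.hom ≫ cokernel.π φ := by
    simp only [e, Iso.trans_hom, Iso.symm_hom, asIso_inv, cokernel.mapIso_hom]
    rw [reassoc_of% h1]
    exact cokernel.π_desc _ _ _
  have hsurj : Function.Surjective (((tildeF R).map (cokernel.π g)).app ⊤) := by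
    intro t
    obtain ⟨q, rfl⟩ := (ConcreteCategory.bijective_of_isIso (tilde.toOpen (cokernel g) ⊤)).2 t
    obtain ⟨y, rfl⟩ := (ModuleCat.epi_iff_surjective (cokernel.π g)).1 inferInstance q
    exact ⟨tilde.toOpen B ⊤ y, ConcreteCategory.congr_hom (tilde.toOpen_map_app (cokernel.π g) ⊤) y⟩
  obtain ⟨t, ht⟩ := (ConcreteCategory.bijective_of_isIso (e.hom.app ⊤)).2 s
  obtain ⟨y, hy⟩ := hsurj t
  refine ⟨b.hom.app ⊤ y, ?_⟩
  rw [← ht, ← hy]
  exact (congrArg (fun ψ : (tildeF R).obj B ⟶ cokernel φ => ψ.app ⊤ y) he).symm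

lemma isQuasicoherent_biproduct {k : ℕ} (P : Fin k → (Spec R).Modules)
    [∀ i, (P i).IsQuasicoherent] : (⨁ P).IsQuasicoherent := by
  choose N hN using fun i => exists_iso_tilde (P i)
  exact isQuasicoherent_of_iso_tilde
    ((tildeF R).mapBiproduct N ≪≫ biproduct.mapIso (fun i => (hN i).some))

/-- The localization morphism `Spec R_g ⟶ Spec R`. -/
noncomputable abbrev awayMap (R : CommRingCat.{u}) (g : R) :
    Spec (CommRingCat.of (Localization.Away g)) ⟶ Spec R :=
  Spec.map (CommRingCat.ofHom (algebraMap R (Localization.Away g)))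

lemma awayMap_image_le (R : CommRingCat.{u}) (g : R)
    (W : (Spec (CommRingCat.of (Localization.Away g))).Opens) :
    awayMap R g ''ᵁ W ≤ PrimeSpectrum.basicOpen g := by
  rintro _ ⟨y, -, rfl⟩
  have h := PrimeSpectrum.localization_away_comap_range (Localization.Away g) g
  exact (h ▸ ⟨y, rfl⟩ : (awayMap R g) y ∈ (PrimeSpectrum.basicOpen g : Set (PrimeSpectrum R)))

lemma awayMap_image_preimage (R : CommRingCat.{u}) (g : R) (V : (Spec R).Opens) :
    awayMap R g ''ᵁ (awayMap R g ⁻¹ᵁ V) = PrimeSpectrum.basicOpen g ⊓ V := by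
  apply le_antisymm
  · exact le_inf (awayMap_image_le R g _) ((awayMap R g).image_preimage_le V)
  · intro x hx
    have h := PrimeSpectrum.localization_away_comap_range (Localization.Away g) g
    obtain ⟨y, hy⟩ := (h.symm ▸ hx.1 : x ∈ Set.range (PrimeSpectrum.comap (algebraMap R (Localization.Away g))))
    exact ⟨y, show awayMap R g y ∈ V from (hy ▸ hx.2 :), hy⟩

/-- The pushforward of the restriction of a quasi-coherent module to a basic open. -/
noncomputable abbrev awayCut (M : (Spec R).Modules) (g : R) : (Spec R).Modules :=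
  (Scheme.Modules.pushforward (awayMap R g)).obj (M.restrict (awayMap R g))

lemma isQuasicoherent_awayCut (M : (Spec R).Modules) [M.IsQuasicoherent] (g : R) :
    (awayCut M g).IsQuasicoherent := by
  have h : (M.restrict (awayMap R g)).IsQuasicoherent :=
    Scheme.Modules.isQuasicoherent_restrictFunctor (awayMap R g) M
  have h' := @Scheme.Modules.isIso_fromTildeΓ_of_isQuasicoherent
    (CommRingCat.of (Localization.Away g)) (M.restrict (awayMap R g)) h
  have h'' := @isIso_fromTildeΓ_pushforward R (CommRingCat.of (Localization.Away g))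
    (CommRingCat.ofHom (algebraMap R (Localization.Away g))) (M.restrict (awayMap R g)) h'
  exact (isQuasicoherent_iff_isIso_fromTildeΓ (R := R) (awayCut M g)).2 h''

/-- The unit `M ⟶ awayCut M g`. -/
noncomputable abbrev toAwayCut (M : (Spec R).Modules) (g : R) : M ⟶ awayCut M g :=
  (Scheme.Modules.restrictAdjunction (awayMap R g)).unit.app M

/-- A map out of `cut U F` towards the direct image of the pullback along an open embedding
landing in `U`. -/
lemma exists_cut_factor {X Y : TopCat.{u}} {f : Y ⟶ X} (hf : Topology.IsOpenEmbedding f)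
    (U : Opens X) (hU : ∀ y, f y ∈ U) (F : CohTop.Ab X) :
    ∃ β : (cut U).obj F ⟶ (CohTop.push f).obj ((resEmb hf).obj F),
      ∀ (V : Opens X) (h : hf.isOpenMap.functor.obj ((Opens.map f).obj V) ≤ V),
        (toCut U F ≫ β).hom.app (op V) = F.obj.map (homOfLE h).op := by
  have hle : ∀ V : Opens X, hf.isOpenMap.functor.obj ((Opens.map f).obj V) ≤
      im U ((Opens.map (inclOpen U)).obj V) := by
    rintro V _ ⟨y, hy, rfl⟩
    exact (mem_im U).2 ⟨hU y, hy⟩
  refine ⟨⟨{ app := fun V => F.obj.map (homOfLE (hle V.unop)).op, naturality := ?_ }⟩, ?_⟩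
  · intro V V' i
    change F.obj.map _ ≫ F.obj.map _ = F.obj.map _ ≫ F.obj.map _
    refine (F.obj.map_comp _ _).symm.trans (Eq.trans ?_ (F.obj.map_comp _ _))
    exact congrArg F.obj.map (Quiver.Hom.unop_inj (Subsingleton.elim _ _))
  · intro V h
    change F.obj.map _ ≫ F.obj.map _ = F.obj.map _
    refine (F.obj.map_comp _ _).symm.trans ?_
    exact congrArg F.obj.map (Quiver.Hom.unop_inj (Subsingleton.elim _ _))

set_option maxHeartbeats 800000 in
/-- The unit factors through `toCut`, at the level of abelian sheaves. -/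
lemma exists_toCut_factor (M : (Spec R).Modules) (g : R) :
    ∃ β : (cut (PrimeSpectrum.basicOpen g : Opens (sp (Spec R)))).obj ((abF (Spec R)).obj M) ⟶
        (abF (Spec R)).obj (awayCut M g),
      toCut _ ((abF (Spec R)).obj M) ≫ β = (abF (Spec R)).map (toAwayCut M g) := by
  obtain ⟨β, hβ⟩ := exists_cut_factor (isOpenEmbedding_base (awayMap R g))
    (PrimeSpectrum.basicOpen g) (fun y => awayMap_image_le R g ⊤ ⟨y, trivial, rfl⟩)
    ((abF (Spec R)).obj M)
  refine ⟨β, ?_⟩
  apply CategoryTheory.Sheaf.hom_ext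
  apply NatTrans.ext
  funext V
  exact hβ V.unop ((awayMap R g).image_preimage_le V.unop)

lemma exists_finite_basicOpen_cover_rs_eq_zero (M : (Spec R).Modules) (q : ℕ)
    (ξ : Hc ((abF (Spec R)).obj M) (q + 1) ⊤) :
    ∃ (k : ℕ) (g : Fin k → R),
      (⨆ i, (PrimeSpectrum.basicOpen (g i) : Opens (sp (Spec R)))) = ⊤ ∧
      ∀ i, rs _ (q + 1) (le_top : (PrimeSpectrum.basicOpen (g i) : Opens (sp (Spec R))) ≤ ⊤) ξ = 0 := by
  have h : ∀ x : PrimeSpectrum R, ∃ g : R, x ∈ PrimeSpectrum.basicOpen g ∧
      rs _ (q + 1) (le_top : (PrimeSpectrum.basicOpen g : Opens (sp (Spec R))) ≤ ⊤) ξ = 0 := by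
    intro x
    obtain ⟨V, hV, hxV, h0⟩ := exists_cover_rs_eq_zero _ ⊤ q ξ x trivial
    obtain ⟨_, ⟨g, rfl⟩, hxg, hgV⟩ :=
      Opens.isBasis_iff_nbhd.1 PrimeSpectrum.isBasis_basic_opens hxV
    refine ⟨g, hxg, ?_⟩
    have e := rs_rs ((abF (Spec R)).obj M) (q + 1) hV hgV ξ
    rw [h0, map_zero] at e
    exact e.symm
  choose g hxg hg using h
  obtain ⟨t, ht⟩ := isCompact_univ.elim_finite_subcover
    (fun x => (PrimeSpectrum.basicOpen (g x) : Set (PrimeSpectrum R)))
    (fun x => (PrimeSpectrum.basicOpen (g x)).2) (fun x _ => Set.mem_iUnion.2 ⟨x, hxg x⟩)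
  refine ⟨t.card, fun i => g (t.equivFin.symm i), eq_top_iff.2 fun x _ => ?_, fun i => hg _⟩
  obtain ⟨y, hy, hxy⟩ := Set.mem_iUnion₂.1 (ht (Set.mem_univ x))
  exact Opens.mem_iSup.2 ⟨t.equivFin ⟨y, hy⟩, by simpa using hxy⟩

/-- Affine Serre vanishing on `Spec R`. -/
theorem subsingleton_hc_spec (q : ℕ) : ∀ (R : CommRingCat.{u}) (M : (Spec R).Modules)
    [M.IsQuasicoherent], Subsingleton (Hc ((abF (Spec R)).obj M) (q + 1) ⊤) := by
  induction q using Nat.strong_induction_on with
  | _ q IH =>
    intro R M _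
    refine subsingleton_of_forall_eq 0 fun ξ => ?_
    obtain ⟨k, g, hcov, hg⟩ := exists_finite_basicOpen_cover_rs_eq_zero M q ξ
    let B : Set (Opens (sp (Spec R))) := Set.range fun r : R => PrimeSpectrum.basicOpen r
    have hB : Opens.IsBasis B := PrimeSpectrum.isBasis_basic_opens
    have hF : ∀ i, CutAcyclicUpTo (PrimeSpectrum.basicOpen (g i) : Opens (sp (Spec R))) B q
        ((abF (Spec R)).obj M) := by
      rintro i p hp _ ⟨r, rfl⟩
      obtain ⟨e⟩ := nonempty_hc_abF_restrict (awayMap R (g i * r)) M (p + 1) ⊤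
      have := IH p hp _ (M.restrict (awayMap R (g i * r)))
      have e' : awayMap R (g i * r) ''ᵁ ⊤ =
          (PrimeSpectrum.basicOpen (g i) ⊓ PrimeSpectrum.basicOpen r : Opens (PrimeSpectrum R)) :=
        (awayMap_image_preimage R (g i * r) ⊤).trans ((inf_top_eq _).trans (PrimeSpectrum.basicOpen_mul _ _))
      rw [e'] at e
      exact e.toEquiv.symm.subsingleton
    have := fun i => isQuasicoherent_awayCut M (g i)
    let P : (Spec R).Modules := ⨁ fun i => awayCut M (g i)
    have : P.IsQuasicoherent := isQuasicoherent_biproduct _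
    let η : M ⟶ P := biproduct.lift fun i => toAwayCut M (g i)
    have hη : Mono η := by
      refine mono_of_injective_moduleApp η fun V => (injective_iff_map_eq_zero _).2 fun s hs => ?_
      refine TopCat.Sheaf.eq_of_locally_eq' ⟨_, M.isSheaf⟩
        (fun i => awayMap R (g i) ''ᵁ (awayMap R (g i) ⁻¹ᵁ V)) V
        (fun i => homOfLE ((awayMap R (g i)).image_preimage_le V)) ?_ s 0 fun i => ?_
      · intro x hx
        have : x ∈ (⨆ i, (PrimeSpectrum.basicOpen (g i) : Opens (sp (Spec R)))) := hcov ▸ trivial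
        obtain ⟨i, hi⟩ := Opens.mem_iSup.1 this
        exact Opens.mem_iSup.2 ⟨i, (awayMap_image_preimage R (g i) V).ge ⟨hi, hx⟩⟩
      · have hi := congrArg ((biproduct.π (fun i => awayCut M (g i)) i).app V) hs
        rw [map_zero, ← ConcreteCategory.comp_apply, ← Scheme.Modules.Hom.comp_app,
          biproduct.lift_π] at hi
        rw [map_zero]
        exact hi
    have hξη : mp ((abF (Spec R)).map η) (q + 1) ⊤ ξ = 0 := by
      have hη' : (abF (Spec R)).map η =
          ∑ i, (abF (Spec R)).map (toAwayCut M (g i) ≫ biproduct.ι (fun i => awayCut M (g i)) i) := by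
        rw [← Functor.map_sum]
        exact congrArg _ biproduct.lift_eq
      rw [hη', mp_apply, Abelian.Ext.mk₀_sum, Abelian.Ext.comp_sum]
      refine Finset.sum_eq_zero fun i _ => ?_
      obtain ⟨β, hβ⟩ := exists_toCut_factor M (g i)
      rw [← mp_apply, (abF (Spec R)).map_comp, mp_comp, ← hβ, mp_comp,
        mp_toCut_eq_zero _ hB q _ (hF i) ⊤ ξ ?_, map_zero, map_zero]
      have e := rs_rs ((abF (Spec R)).obj M) (q + 1)
        (le_top : (PrimeSpectrum.basicOpen (g i) : Opens (sp (Spec R))) ≤ ⊤)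
        (inf_le_left : (PrimeSpectrum.basicOpen (g i) : Opens (sp (Spec R))) ⊓ ⊤ ≤ _) ξ
      exact e.symm.trans ((congrArg _ (hg i)).trans (map_zero _))
    let S : ShortComplex (Spec R).Modules := ShortComplex.mk η (cokernel.π η) (cokernel.condition η)
    have hS : S.ShortExact :=
      { exact := ShortComplex.exact_of_g_is_cokernel _ (cokernelIsCokernel _) }
    obtain ⟨hC, hsurj⟩ := isQuasicoherent_cokernel_and_surjective η
    obtain ⟨c, rfl⟩ := exact₁ (shortExact_abF hS) q ⊤ ξ hξη
    cases q with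
    | zero => exact delta_eq_zero_of_surjective (shortExact_abF hS) ⊤ hsurj c
    | succ q =>
      have : Subsingleton (Hc (S.map (abF (Spec R))).X₃ (q + 1) ⊤) :=
        IH q (Nat.lt_succ_self q) R (cokernel η)
      rw [Subsingleton.elim c 0]
      exact map_zero _

/-- Affine Serre vanishing on an affine open. -/
theorem subsingleton_hc_isAffineOpen {X : Scheme.{u}} (M : X.Modules) [M.IsQuasicoherent]
    {U : X.Opens} (hU : IsAffineOpen U) (q : ℕ) :
    Subsingleton (Hc ((abF X).obj M) (q + 1) U) := by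
  have : (M.restrict hU.fromSpec).IsQuasicoherent :=
    Scheme.Modules.isQuasicoherent_restrictFunctor hU.fromSpec M
  have h := subsingleton_hc_spec q _ (M.restrict hU.fromSpec)
  obtain ⟨e⟩ := nonempty_hc_abF_restrict hU.fromSpec M (q + 1) ⊤
  rw [Scheme.Hom.image_top_eq_opensRange, hU.opensRange_fromSpec] at e
  exact e.toEquiv.symm.subsingleton

end Groth.Agent.CohFound
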