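import Groth.Agent.Lib.CohFound.PushRes
import Groth.Agent.Lib.CohFound.QcohAffine
import Mathlib.AlgebraicGeometry.Morphisms.Affine

/-!
# Affine morphisms have no higher direct images on quasi-coherent modules
-/

set_option maxHeartbeats 400000

universe u

open CategoryTheory TopologicalSpace Opposite CategoryTheory.Limits Abelian AlgebraicGeometry

namespace Groth.Agent.CohFound

/-- Transport of cohomology along an isomorphism of sheaves. -/
noncomputable def mpEquiv {Z : TopCat.{u}} {F G : CohTop.Ab Z} (e : F ≅ G) (n : ℕ) (V : Opens Z) :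
    Hc F n V ≃+ Hc G n V :=
  AddMonoidHom.toAddEquiv (mp e.hom n V) (mp e.inv n V)
    (by ext x; exact (mp_comp e.hom e.inv n V x).symm.trans (by rw [e.hom_inv_id, mp_id]; rfl))
    (by ext x; exact (mp_comp e.inv e.hom n V x).symm.trans (by rw [e.inv_hom_id, mp_id]; rfl))

/-- Isomorphic sheaves have isomorphic cohomology presheaves. -/
noncomputable def hcPreIso {Z : TopCat.{u}} {F G : CohTop.Ab Z} (e : F ≅ G) (n : ℕ) :
    hcPre F n ≅ hcPre G n :=
  NatIso.ofComponents (fun V => (mpEquiv e n V.unop).toAddCommGrpIso) fun {V V'} i => by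
    ext x
    exact mp_rs e.hom n (leOfHom i.unop) x

variable {X Y : Scheme.{u}} (f : X ⟶ Y)

lemma locKilled_of_isAffineHom [IsAffineHom f] (M : X.Modules) [M.IsQuasicoherent] (q : ℕ) :
    LocKilled (f.base : sp X ⟶ sp Y) (q + 1) ((abF X).obj M) := by
  intro V ξ y hy
  obtain ⟨_, ⟨W, hW, rfl⟩, hyW, hWV⟩ :=
    Y.isBasis_affineOpens.exists_subset_of_mem_open (SetLike.mem_coe.2 hy) V.2
  have := subsingleton_hc_isAffineOpen M (hW.preimage f) q
  exact ⟨W, hWV, hyW, @Subsingleton.elim (Hc ((abF X).obj M) (q + 1) (f ⁻¹ᵁ W)) this _ _⟩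

/-- The underlying sheaf of a direct image. -/
noncomputable def abFPushIso (M : X.Modules) :
    (abF Y).obj ((Scheme.Modules.pushforward f).obj M) ≅
      (CohTop.push (f.base : sp X ⟶ sp Y)).obj ((abF X).obj M) :=
  (fullyFaithfulSheafToPresheaf (Opens.grothendieckTopology (sp Y)) AddCommGrpCat.{u}).preimageIso
    (NatIso.ofComponents (fun _ => Iso.refl _) fun _ => rfl)

/-- Cohomology along an affine morphism, over every open. -/
theorem nonempty_hc_push_isAffineHom [IsAffineHom f] (M : X.Modules) [M.IsQuasicoherent] (n : ℕ)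
    (V : Y.Opens) :
    Nonempty (Hc ((abF Y).obj ((Scheme.Modules.pushforward f).obj M)) n V ≃+
      Hc ((abF X).obj M) n (f ⁻¹ᵁ V)) := by
  obtain ⟨e⟩ := nonempty_hc_push_of_locKilled (f.base : sp X ⟶ sp Y) n ((abF X).obj M)
    (fun q _ => locKilled_of_isAffineHom f M q) V
  exact ⟨(mpEquiv (abFPushIso f M) n V).trans e⟩

end Groth.Agent.CohFound
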