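import Groth.Agent.Lib.CohFound.Bridge
import Groth.Agent.Lib.CohFound.QcohAffine
import Groth.Prelude.Def_Coh

/-!
# `Coh.HH` as `Hc`
-/

universe u

open CategoryTheory TopologicalSpace Opposite CategoryTheory.Limits AlgebraicGeometry

namespace Groth.Agent.CohFound

variable {X : Scheme.{u}}

/-- `Coh.HH X M n` is `Hc` of the underlying abelian sheaf on the whole space. -/
noncomputable def hhExt (M : X.Modules) (n : ℕ) :
    Coh.HH X M n ≃+ Hc ((abF X).obj M) n ⊤ :=
  hExt ((abF X).obj M) n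

lemma subsingleton_HH_iff (M : X.Modules) (n : ℕ) :
    Subsingleton (Coh.HH X M n) ↔ Subsingleton (Hc ((abF X).obj M) n ⊤) :=
  (hhExt M n).toEquiv.subsingleton_congr

lemma nonempty_HHon_addEquiv (M : X.Modules) (U : X.Opens) (n : ℕ) :
    Nonempty (Coh.HHon X M U n ≃+ Hc ((abF X).obj M) n U) := by
  obtain ⟨e⟩ := nonempty_hc_abF_restrict U.ι M n ⊤
  rw [Scheme.Hom.image_top_eq_opensRange, Scheme.Opens.opensRange_ι] at e
  exact ⟨(hhExt (M.restrict U.ι) n).trans e⟩

/-- Affine Serre vanishing. -/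
theorem subsingleton_HH_affine [IsAffine X] (M : X.Modules) [M.IsQuasicoherent] (p : ℕ)
    (hp : 0 < p) : Subsingleton (Coh.HH X M p) := by
  obtain ⟨q, rfl⟩ : ∃ q, p = q + 1 := ⟨p - 1, by omega⟩
  rw [subsingleton_HH_iff]
  exact subsingleton_hc_isAffineOpen M (isAffineOpen_top X) q

end Groth.Agent.CohFound
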