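import Groth.Agent.Lib.CohFound.CechSite

/-!
# The Čech complex of a family of opens, elementwise
-/

set_option maxHeartbeats 400000

universe u

open CategoryTheory TopologicalSpace Opposite CategoryTheory.Limits AlgebraicTopology Simplicial

namespace Groth.Agent.CohFound

variable {X : TopCat.{u}} {ι : Type u} (U : ι → Opens X) (P : (Opens X)ᵒᵖ ⥤ AddCommGrpCat.{u})

/-- The intersection of a tuple. -/
noncomputable abbrev tupOpen {n : ℕ} (a : Fin (n + 1) → ι) : Opens X := ⨅ k, U (a k)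

lemma tupOpen_le {n : ℕ} (a : Fin (n + 2) → ι) (i : Fin (n + 2)) :
    tupOpen U a ≤ tupOpen U (a ∘ i.succAbove) :=
  le_iInf fun k => iInf_le (fun k => U (a k)) (i.succAbove k)

lemma tupOpen_le_pi {n : ℕ} (a : Fin (n + 1) → ι) : tupOpen U a ≤ ∏ᶜ (U ∘ a) :=
  (pi_opens_eq (U ∘ a)).ge

lemma pi_le_tupOpen {n : ℕ} (a : Fin (n + 1) → ι) : ∏ᶜ (U ∘ a) ≤ tupOpen U a :=
  (pi_opens_eq (U ∘ a)).le

/-- The Čech complex. -/
noncomputable abbrev cechCx : CochainComplex AddCommGrpCat.{u} ℕ := (cechComplexFunctor U).obj P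

/-- The component at a tuple, as a map out of the cochains. -/
noncomputable def cvalHom {n : ℕ} (a : Fin (n + 1) → ι) :
    (cechCx U P).X n ⟶ P.obj (op (tupOpen U a)) :=
  Pi.π (fun a : Fin (n + 1) → ι => P.obj (op (∏ᶜ (U ∘ a)))) a ≫ P.map (homOfLE (tupOpen_le_pi U a)).op

/-- The component at a tuple of a cochain. -/
noncomputable def cval {n : ℕ} (a : Fin (n + 1) → ι) (x : (cechCx U P).X n) :
    P.obj (op (tupOpen U a)) := cvalHom U P a x

lemma cval_map_inv {n : ℕ} (a : Fin (n + 1) → ι) (t : P.obj (op (∏ᶜ (U ∘ a)))) :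
    P.map (homOfLE (pi_le_tupOpen U a)).op (P.map (homOfLE (tupOpen_le_pi U a)).op t) = t := by
  rw [← CategoryTheory.Functor.map_comp_apply,
    Subsingleton.elim ((homOfLE (tupOpen_le_pi U a)).op ≫ (homOfLE (pi_le_tupOpen U a)).op) (𝟙 _),
    CategoryTheory.Functor.map_id]
  rfl

lemma cval_ext {n : ℕ} {x y : (cechCx U P).X n} (h : ∀ a, cval U P a x = cval U P a y) : x = y := by
  refine Groth.Agent.SiteCoh.pi_ext fun a => ?_
  have := congrArg (P.map (homOfLE (pi_le_tupOpen U a)).op) (h a)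
  exact (cval_map_inv U P a _).symm.trans (this.trans (cval_map_inv U P a _))

lemma exists_cval {n : ℕ} (f : ∀ a : Fin (n + 1) → ι, P.obj (op (tupOpen U a))) :
    ∃ x : (cechCx U P).X n, ∀ a, cval U P a x = f a := by
  obtain ⟨x, hx⟩ := Groth.Agent.SiteCoh.exists_pi
    (G := fun a : Fin (n + 1) → ι => P.obj (op (∏ᶜ (U ∘ a))))
    (fun a => P.map (homOfLE (pi_le_tupOpen U a)).op (f a))
  refine ⟨x, fun a => ?_⟩
  refine (congrArg (P.map (homOfLE (tupOpen_le_pi U a)).op) (hx a)).trans ?_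
  rw [← CategoryTheory.Functor.map_comp_apply,
    Subsingleton.elim ((homOfLE (pi_le_tupOpen U a)).op ≫ (homOfLE (tupOpen_le_pi U a)).op) (𝟙 _),
    CategoryTheory.Functor.map_id]
  rfl

/-- The coface maps of the Čech complex. -/
noncomputable abbrev cechδ (n : ℕ) (i : Fin (n + 2)) : (cechCx U P).X n ⟶ (cechCx U P).X (n + 1) :=
  CosimplicialObject.δ ((FormalCoproduct.cosimplicialObjectFunctor (FormalCoproduct.mk _ U).cech).obj P) i

lemma cechCx_d (n : ℕ) : (cechCx U P).d n (n + 1) = ∑ i : Fin (n + 2), (-1 : ℤ) ^ (i : ℕ) • cechδ U P n i :=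
  CochainComplex.of_d (fun m => (cechCx U P).X m) (AlternatingCofaceMapComplex.objD
    ((FormalCoproduct.cosimplicialObjectFunctor (FormalCoproduct.mk _ U).cech).obj P)) n

lemma le_pi_succAbove {n : ℕ} (a : Fin (n + 2) → ι) (i : Fin (n + 2)) :
    ∏ᶜ (U ∘ a) ≤ ∏ᶜ (U ∘ (a ∘ i.succAbove)) :=
  (pi_le_tupOpen U a).trans ((tupOpen_le U a i).trans (tupOpen_le_pi U _))

lemma cechδ_π (n : ℕ) (i : Fin (n + 2)) (a : Fin (n + 2) → ι) :
    cechδ U P n i ≫ Pi.π (fun a : Fin (n + 2) → ι => P.obj (op (∏ᶜ (U ∘ a)))) a =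
      Pi.π (fun a : Fin (n + 1) → ι => P.obj (op (∏ᶜ (U ∘ a)))) (a ∘ i.succAbove) ≫
        P.map (homOfLE (le_pi_succAbove U a i)).op :=
  (Pi.lift_π _ a).trans (congrArg (Pi.π (fun a : Fin (n + 1) → ι => P.obj (op (∏ᶜ (U ∘ a))))
    (a ∘ i.succAbove) ≫ ·) (congrArg P.map (Subsingleton.elim _ _)))

lemma sum_hom_apply {A B : AddCommGrpCat.{u}} {κ : Type*} (s : Finset κ) (f : κ → (A ⟶ B)) (x : A) :
    (∑ i ∈ s, f i) x = ∑ i ∈ s, f i x := by
  classical
  induction s using Finset.induction_on with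
  | empty => rfl
  | @insert a s h ih => rw [Finset.sum_insert h, Finset.sum_insert h, ← ih]; rfl

lemma cval_d {n : ℕ} (x : (cechCx U P).X n) (a : Fin (n + 2) → ι) :
    cval U P a ((cechCx U P).d n (n + 1) x) =
      ∑ i : Fin (n + 2), (-1 : ℤ) ^ (i : ℕ) •
        P.map (homOfLE (tupOpen_le U a i)).op (cval U P (a ∘ i.succAbove) x) := by
  rw [cechCx_d, sum_hom_apply, cval, map_sum]
  refine Finset.sum_congr rfl fun i _ => ?_
  change cvalHom U P a ((-1 : ℤ) ^ (i : ℕ) • cechδ U P n i x) = _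
  rw [map_zsmul]
  congr 1
  have e : cechδ U P n i ≫ cvalHom U P a =
      cvalHom U P (a ∘ i.succAbove) ≫ P.map (homOfLE (tupOpen_le U a i)).op := by
    refine (Category.assoc _ _ _).symm.trans ((congrArg (· ≫ _) (cechδ_π U P n i a)).trans ?_)
    refine (Category.assoc _ _ _).trans (Eq.trans ?_ (Category.assoc _ _ _).symm)
    refine congrArg (Pi.π _ (a ∘ i.succAbove) ≫ ·) ?_
    rw [← P.map_comp, ← P.map_comp]
    exact congrArg P.map (Subsingleton.elim _ _)
  exact ConcreteCategory.congr_hom e x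

/-- Vanishing of Čech cohomology, elementwise. -/
theorem isZero_cechH_of_exact {n : ℕ}
    (h : ∀ f : (∀ a : Fin (n + 2) → ι, P.obj (op (tupOpen U a))),
      (∀ a : Fin (n + 3) → ι, ∑ i : Fin (n + 3), (-1 : ℤ) ^ (i : ℕ) •
        P.map (homOfLE (tupOpen_le U a i)).op (f (a ∘ i.succAbove)) = 0) →
      ∃ g : (∀ a : Fin (n + 1) → ι, P.obj (op (tupOpen U a))), ∀ a,
        ∑ i : Fin (n + 2), (-1 : ℤ) ^ (i : ℕ) •
          P.map (homOfLE (tupOpen_le U a i)).op (g (a ∘ i.succAbove)) = f a) :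
    IsZero (CohTop.cechH P U (n + 1)) := by
  refine ((cechCx U P).exactAt_iff_isZero_homology (n + 1)).1 ?_
  rw [(cechCx U P).exactAt_iff' n (n + 1) (n + 2) (by simp) (by simp), ShortComplex.ab_exact_iff]
  intro x hx
  obtain ⟨g, hg⟩ := h (fun a => cval U P a x) (fun a => by
    rw [← cval_d]
    exact (congrArg (cval U P a) hx).trans (map_zero (cvalHom U P a).hom))
  obtain ⟨y, hy⟩ := exists_cval U P g
  refine ⟨y, cval_ext U P fun a => ?_⟩
  refine (cval_d U P y a).trans ?_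
  simp only [hy]
  exact hg a

end Groth.Agent.CohFound
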