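import Groth.Agent.Lib.CohFound.Push
import Mathlib.CategoryTheory.Abelian.RightDerived
import Mathlib.CategoryTheory.Abelian.Injective.Ext

/-!
# Vanishing of higher direct images

`R^{q+1} f_* F = 0` iff every class in `H^{q+1}(f⁻¹ V, F)` dies locally on the target.
-/

set_option maxHeartbeats 400000

universe u

open CategoryTheory TopologicalSpace Opposite CategoryTheory.Limits Abelian

namespace Groth.Agent.CohFound

variable {X Y : TopCat.{u}}

/-- In an exact sequence of sheaves, sections killed by the second map lift locally. -/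
lemma exists_local_lift_of_exact {S : ShortComplex (CohTop.Ab X)} (hS : S.Exact) {U : Opens X}
    (s : S.X₂.obj.obj (op U)) (hs : S.g.hom.app (op U) s = 0) {x : X} (hx : x ∈ U) :
    ∃ (V : Opens X) (hV : V ≤ U), x ∈ V ∧
      ∃ t, S.f.hom.app (op V) t = S.X₂.obj.map (homOfLE hV).op s := by
  have : Epi (kernel.lift S.g S.f S.zero) := (ShortComplex.exact_iff_epi_kernel_lift S).1 hS
  obtain ⟨k, hk⟩ := exact_app (S := ShortComplex.mk (kernel.ι S.g) S.g (kernel.condition _))
    (ShortComplex.exact_of_f_is_kernel _ (kernelIsKernel _)) s hs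
  obtain ⟨V, hV, hxV, t, ht⟩ := locally_lift_of_epi (kernel.lift S.g S.f S.zero) U k hx
  refine ⟨V, hV, hxV, t, ?_⟩
  have e : (kernel.ι S.g).hom.app (op V) ((kernel.lift S.g S.f S.zero).hom.app (op V) t) =
      S.f.hom.app (op V) t :=
    congrArg (fun φ : S.X₁ ⟶ S.X₂ => φ.hom.app (op V) t) (kernel.lift_ι S.g S.f S.zero)
  rw [← e, ht, ← hk]
  exact NatTrans.naturality_apply (kernel.ι S.g).hom (homOfLE hV).op k

/-- A criterion for exactness by local lifting of sections. -/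
lemma exact_of_local_lift {S : ShortComplex (CohTop.Ab X)}
    (hex : ∀ (U : Opens X) (s : S.X₂.obj.obj (op U)), S.g.hom.app (op U) s = 0 → ∀ x ∈ U,
      ∃ (V : Opens X) (hV : V ≤ U), x ∈ V ∧
        ∃ t, S.f.hom.app (op V) t = S.X₂.obj.map (homOfLE hV).op s) : S.Exact := by
  rw [ShortComplex.exact_iff_epi_kernel_lift]
  refine epi_of_locally_lift _ fun U s x hx => ?_
  obtain ⟨V, hV, hxV, t, ht⟩ := hex U ((kernel.ι S.g).hom.app (op U) s) (by
    exact congrArg (fun φ : kernel S.g ⟶ S.X₃ => φ.hom.app (op U) s) (kernel.condition S.g)) x hx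
  refine ⟨V, hV, hxV, t, injective_app_of_mono (kernel.ι S.g) V ?_⟩
  have e : (kernel.ι S.g).hom.app (op V) ((kernel.lift S.g S.f S.zero).hom.app (op V) t) =
      S.f.hom.app (op V) t :=
    congrArg (fun φ : S.X₁ ⟶ S.X₂ => φ.hom.app (op V) t) (kernel.lift_ι S.g S.f S.zero)
  rw [e, ht]
  exact (NatTrans.naturality_apply (kernel.ι S.g).hom (homOfLE hV).op s).symm

/-- Every class in `H^n(f⁻¹ V, F)` dies locally on the target. -/
def LocKilled (f : X ⟶ Y) (n : ℕ) (F : CohTop.Ab X) : Prop :=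
  ∀ (V : Opens Y) (ξ : Hc F n ((Opens.map f).obj V)), ∀ y ∈ V, ∃ (W : Opens Y) (hW : W ≤ V),
    y ∈ W ∧ rs F n (leOfHom ((Opens.map f).map (homOfLE hW))) ξ = 0

lemma locKilled_of_subsingleton (f : X ⟶ Y) (n : ℕ) (F : CohTop.Ab X)
    (h : ∀ V, Subsingleton (Hc F n ((Opens.map f).obj V))) : LocKilled f n F :=
  fun V _ _ hy => ⟨V, le_rfl, hy, Subsingleton.elim _ _⟩

variable (f : X ⟶ Y)

theorem isZero_rpush_succ_iff (q : ℕ) (F : CohTop.Ab X) :
    IsZero ((CohTop.Rpush f (q + 1)).obj F) ↔ LocKilled f (q + 1) F := by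
  let R : InjectiveResolution F := injectiveResolution F
  let K : CochainComplex (CohTop.Ab Y) ℕ :=
    ((CohTop.push f).mapHomologicalComplex (ComplexShape.up ℕ)).obj R.cocomplex
  have h1 : IsZero ((CohTop.Rpush f (q + 1)).obj F) ↔
      (K.sc' q (q + 1) (q + 2)).Exact := by
    rw [Iso.isZero_iff (R.isoRightDerivedObj (CohTop.push f) (q + 1)),
      ← K.exactAt_iff' q (q + 1) (q + 2) (by simp) (by simp)]
    exact (K.exactAt_iff_isZero_homology (q + 1)).symm
  refine h1.trans ⟨fun hK V ξ y hy => ?_, fun h => exact_of_local_lift fun V s hs y hy => ?_⟩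
  · obtain ⟨φ, hφ, rfl⟩ := R.extMk_surjective ξ (q + 2) rfl
    let s := freeHomAddEquiv ((Opens.map f).obj V) _ φ
    obtain ⟨W, hW, hyW, t, ht⟩ := exists_local_lift_of_exact hK (U := V) s (by
      refine (freeHomAddEquiv_comp ((Opens.map f).obj V) φ (R.cocomplex.d (q + 1) (q + 2))).symm.trans ?_
      rw [hφ, map_zero]; rfl) hy
    refine ⟨W, hW, hyW, ?_⟩
    rw [rs_apply]
    refine (R.mk₀_comp_extMk φ (q + 2) rfl hφ _).trans ?_
    refine (R.extMk_eq_zero_iff _ (q + 2) rfl _ q rfl).2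
      ⟨(freeHomAddEquiv ((Opens.map f).obj W) _).symm t, ?_⟩
    apply (freeHomAddEquiv ((Opens.map f).obj W) _).injective
    refine (freeHomAddEquiv_comp _ _ _).trans ?_
    erw [AddEquiv.apply_symm_apply, freeHomAddEquiv_map_comp]
    exact ht
  · let U := (Opens.map f).obj V
    let φ := (freeHomAddEquiv U (R.cocomplex.X (q + 1))).symm s
    have hφs : freeHomAddEquiv U _ φ = s := AddEquiv.apply_symm_apply (freeHomAddEquiv U _) s
    have hφ : φ ≫ R.cocomplex.d (q + 1) (q + 2) = 0 := by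
      apply (freeHomAddEquiv U _).injective
      refine (freeHomAddEquiv_comp U φ _).trans ?_
      erw [hφs, map_zero]
      exact hs
    obtain ⟨W, hW, hyW, hξ⟩ := h V (R.extMk φ (q + 2) rfl hφ) y hy
    rw [rs_apply] at hξ
    replace hξ := (R.mk₀_comp_extMk φ (q + 2) rfl hφ _).symm.trans hξ
    obtain ⟨ψ, hψ⟩ := (R.extMk_eq_zero_iff _ (q + 2) rfl _ q rfl).1 hξ
    refine ⟨W, hW, hyW, freeHomAddEquiv ((Opens.map f).obj W) _ ψ, ?_⟩
    have := congrArg (freeHomAddEquiv ((Opens.map f).obj W) _) hψ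
    rw [freeHomAddEquiv_comp, freeHomAddEquiv_map_comp] at this
    erw [hφs] at this
    exact this

lemma LocKilled.cokernel {n : ℕ} {F : CohTop.Ab X} (h : LocKilled f (n + 2) F) :
    LocKilled f (n + 1) (injSC F).X₃ := by
  intro V η y hy
  obtain ⟨W, hW, hyW, hη⟩ := h V (delta (injSC_shortExact F) (n + 1) _ η) y hy
  refine ⟨W, hW, hyW, (delta_bijective (injSC_shortExact F) n _ (subsingleton_hc_injective _ n _)
    (subsingleton_hc_injective _ (n + 1) _)).1 ?_⟩
  rw [delta_rs, map_zero]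
  exact hη

/-- A short exact sequence pushes forward to one if `R¹` of the kernel vanishes. -/
lemma shortExact_push_of_locKilled {S : ShortComplex (CohTop.Ab X)} (hS : S.ShortExact)
    (h : LocKilled f 1 S.X₁) : (S.map (CohTop.push f)).ShortExact := by
  have := hS.mono_f
  refine shortExact_of_sections (fun V => injective_app_of_mono S.f ((Opens.map f).obj V))
    (fun V s hs => exact_app hS.exact (U := (Opens.map f).obj V) s hs) fun V s y hy => ?_
  obtain ⟨W, hW, hyW, hξ⟩ := h V (delta hS 0 _ ((hc0 S.X₃ ((Opens.map f).obj V)).symm s)) y hy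
  obtain ⟨t, ht⟩ := exact₃ hS 0 ((Opens.map f).obj W) _
    ((delta_rs hS 0 (leOfHom ((Opens.map f).map (homOfLE hW))) _).trans hξ)
  refine ⟨W, hW, hyW, hc0 S.X₂ ((Opens.map f).obj W) t, ?_⟩
  refine (hc0_mp S.g _ t).symm.trans ?_
  rw [ht, hc0_rs]
  erw [AddEquiv.apply_symm_apply]
  rfl

/-- Cohomology of a direct image, when the higher direct images vanish in low degrees. -/
theorem nonempty_hc_push_of_locKilled (n : ℕ) (F : CohTop.Ab X)
    (hF : ∀ q < n, LocKilled f (q + 1) F) (V : Opens Y) :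
    Nonempty (Hc ((CohTop.push f).obj F) n V ≃+ Hc F n ((Opens.map f).obj V)) := by
  refine nonempty_addEquiv_of_dimShift (CohTop.push f) ((Opens.map f).obj V) V
    (fun F => AddEquiv.refl _) (fun φ s => rfl) (fun I hI m => ?_)
    (fun m F => ∀ q < m, LocKilled f (q + 1) F)
    (fun m F hF => ⟨shortExact_push_of_locKilled f (injSC_shortExact F) (hF 0 (Nat.succ_pos _)),
      fun q hq => LocKilled.cokernel f (hF (q + 1) (by omega))⟩) n F hF
  have := isFlasque_of_injective I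
  have : TopCat.Sheaf.IsFlasque ((CohTop.push f).obj I) :=
    TopCat.Sheaf.IsFlasque.pushforward_isFlasque I f
  exact subsingleton_hc_of_isFlasque _ m V

/-- Nothing lives over the empty open. -/
lemma isZero_freeU_bot : IsZero (freeU (⊥ : Opens X)) := by
  rw [IsZero.iff_id_eq_zero]
  apply (freeHomAddEquiv ⊥ _).injective
  have := AddCommGrpCat.subsingleton_of_isZero
    ((TopCat.Sheaf.isTerminalOfEmpty (freeU (⊥ : Opens X))).isZero)
  exact Subsingleton.elim (α := (freeU (⊥ : Opens X)).obj.obj (op ⊥)) _ _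

lemma hc_bot_eq_zero (F : CohTop.Ab X) (n : ℕ) {U : Opens X} (hU : U = ⊥) (ξ : Hc F n U) :
    ξ = 0 := by
  subst hU
  rw [← Ext.mk₀_id_comp ξ, IsZero.eq_of_src (isZero_freeU_bot) (𝟙 _) 0, Ext.mk₀_zero, Ext.zero_comp]

/-- Closed embeddings have no higher direct images. -/
theorem locKilled_of_isClosedEmbedding (hf : Topology.IsClosedEmbedding f) (n : ℕ)
    (F : CohTop.Ab X) : LocKilled f (n + 1) F := by
  intro V ξ y hy
  by_cases hy' : y ∈ Set.range f
  · obtain ⟨x, rfl⟩ := hy'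
    obtain ⟨U, hU, hxU, hξ⟩ := exists_cover_rs_eq_zero F ((Opens.map f).obj V) n ξ x hy
    obtain ⟨W, hWo, hW⟩ := hf.isInducing.isOpen_iff.1 U.2
    refine ⟨⟨W, hWo⟩ ⊓ V, inf_le_right, ⟨Set.ext_iff.1 hW x |>.2 hxU, hy⟩, ?_⟩
    have hle : (Opens.map f).obj (⟨W, hWo⟩ ⊓ V) ≤ U := fun z hz =>
      (Set.ext_iff.1 hW z).1 hz.1
    rw [← rs_rs F (n + 1) hU hle ξ, hξ, map_zero]
  · let W : Opens Y := ⟨(Set.range f)ᶜ, hf.isClosed_range.isOpen_compl⟩
    refine ⟨W ⊓ V, inf_le_right, ⟨hy', hy⟩, hc_bot_eq_zero F _ ?_ _⟩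
    exact le_bot_iff.1 fun z hz => hz.1 ⟨z, rfl⟩

end Groth.Agent.CohFound
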