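import Groth.Agent.Lib.CohFound.MV
import Groth.Agent.Lib.CohFound.Rpush
import Groth.Agent.Lib.CohFound.QcohAffine
import Mathlib.AlgebraicGeometry.Morphisms.Affine
import Mathlib.AlgebraicGeometry.Morphisms.QuasiSeparated

/-!
# Induction on quasi-compact opens and vanishing in high degrees
-/

set_option maxHeartbeats 400000

universe u

open CategoryTheory TopologicalSpace Opposite CategoryTheory.Limits Abelian AlgebraicGeometry

namespace Groth.Agent.CohFound

variable {X : Scheme.{u}}

/-- Affine opens inside an affine open have affine intersection. -/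
lemma isAffineOpen_inf_of_le {A U V : X.Opens} (hA : IsAffineOpen A) (hU : IsAffineOpen U)
    (hV : IsAffineOpen V) (hUA : U ≤ A) (hVA : V ≤ A) : IsAffineOpen (U ⊓ V) := by
  have : IsAffine (A : Scheme.{u}) := hA
  have hU' := hU.preimage_of_isOpenImmersion A.ι (by rw [Scheme.Opens.opensRange_ι]; exact hUA)
  have hV' := hV.preimage_of_isOpenImmersion A.ι (by rw [Scheme.Opens.opensRange_ι]; exact hVA)
  have h := (hU'.inf hV').image_of_isOpenImmersion A.ι
  rwa [← Scheme.Hom.preimage_inf, A.ι.image_preimage_eq_opensRange_inf, Scheme.Opens.opensRange_ι,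
    inf_eq_right.2 (inf_le_left.trans hUA)] at h

/-- The induction principle for quasi-compact opens of a quasi-separated scheme. -/
theorem qcqs_induction [QuasiSeparatedSpace X] {P : X.Opens → Prop}
    (h₁ : ∀ U : X.Opens, IsAffineOpen U → P U)
    (h₂ : ∀ U V : X.Opens, IsCompact (U : Set X) → IsAffineOpen V → P U → P V → P (U ⊓ V) →
      P (U ⊔ V))
    {U : X.Opens} (hU : IsCompact (U : Set X)) : P U := by
  have key : ∀ (A : X.Opens), IsAffineOpen A → ∀ (n : ℕ) (W : Fin n → X.Opens),
      (∀ i, IsAffineOpen (W i)) → (∀ i, W i ≤ A) → P (⨆ i, W i) := by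
    intro A hA n
    induction n with
    | zero =>
      intro W _ _
      rw [iSup_of_empty]
      exact h₁ _ (isAffineOpen_bot X)
    | succ n ih =>
      intro W hW hWA
      have e : (⨆ i, W i) = (⨆ i : Fin n, W i.castSucc) ⊔ W (Fin.last n) := by
        apply le_antisymm
        · refine iSup_le fun i => ?_
          rcases i.eq_castSucc_or_eq_last with ⟨j, rfl⟩ | rfl
          · exact le_sup_of_le_left (le_iSup (fun i : Fin n => W i.castSucc) j)
          · exact le_sup_right
        · exact sup_le (iSup_le fun i => le_iSup W _) (le_iSup W _)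
      rw [e]
      refine h₂ _ _ ?_ (hW _) (ih _ (fun i => hW _) (fun i => hWA _)) (h₁ _ (hW _)) ?_
      · rw [Opens.coe_iSup]
        exact isCompact_iUnion fun i => (hW _).isCompact
      · rw [iSup_inf_eq]
        exact ih _ (fun i => isAffineOpen_inf_of_le hA (hW _) (hW _) (hWA _) (hWA _))
          (fun i => inf_le_left.trans (hWA _))
  refine compact_open_induction_on U hU (h₁ _ (isAffineOpen_bot X)) fun S hS V hP => ?_
  · refine h₂ S V hS V.2 hP (h₁ _ V.2) ?_
    have hc : IsCompact ((S ⊓ V.1 : X.Opens) : Set X) :=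
      hS.inter_of_isOpen V.2.isCompact S.2 V.1.2
    obtain ⟨s, hs, he⟩ := (isCompact_iff_finite_and_eq_biUnion_affineOpens).1 hc
    have := hs.fintype
    let e := (Fintype.equivFin s).symm
    have he' : S ⊓ V.1 = ⨆ i, (e i).1.1 := by
      rw [he, iSup_subtype', ← e.surjective.iSup_comp]
    rw [he']
    refine key V.1 V.2 _ _ (fun i => (e i).1.2) fun i => ?_
    exact (le_iSup (fun i => (e i).1.1) i).trans (he'.ge.trans inf_le_right)

/-- Mayer–Vietoris step for vanishing. -/
lemma subsingleton_hc_sup {Z : TopCat.{u}} {F : CohTop.Ab Z} {U V : Opens Z} {n : ℕ}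
    (hU : Subsingleton (Hc F (n + 1) U)) (hV : Subsingleton (Hc F (n + 1) V))
    (hI : Subsingleton (Hc F n (U ⊓ V))) : Subsingleton (Hc F (n + 1) (U ⊔ V)) := by
  refine subsingleton_of_forall_eq 0 fun x => ?_
  obtain ⟨v, rfl⟩ := mv_exact x (Subsingleton.elim _ _) (Subsingleton.elim _ _)
  rw [Subsingleton.elim v 0, map_zero]

/-- Cohomology of quasi-coherent modules vanishes in high degrees on the traces of `basicOpen`s
on a quasi-compact open, uniformly. -/
theorem exists_vanishing_bound [QuasiSeparatedSpace X] {U : X.Opens} (hU : IsCompact (U : Set X)) :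
    ∃ d : ℕ, ∀ (M : X.Modules), M.IsQuasicoherent → ∀ p, d ≤ p →
      ∀ (W : X.Opens) (g : Γ(X, W)), U ≤ W →
        Subsingleton (Hc ((abF X).obj M) p (U ⊓ X.basicOpen g)) := by
  refine qcqs_induction (P := fun U => ∃ d : ℕ, ∀ (M : X.Modules), M.IsQuasicoherent → ∀ p,
    d ≤ p → ∀ (W : X.Opens) (g : Γ(X, W)), U ≤ W →
      Subsingleton (Hc ((abF X).obj M) p (U ⊓ X.basicOpen g))) ?_ ?_ hU
  · intro V hV
    refine ⟨1, fun M hM p hp W g hW => ?_⟩
    obtain ⟨q, rfl⟩ : ∃ q, p = q + 1 := ⟨p - 1, by omega⟩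
    have h := hV.basicOpen (X.presheaf.map (homOfLE hW).op g)
    rw [Scheme.basicOpen_res] at h
    exact subsingleton_hc_isAffineOpen M h q
  · rintro U V - - ⟨a, ha⟩ ⟨b, hb⟩ ⟨c, hc⟩
    refine ⟨max (max a b) c + 1, fun M hM p hp W g hW => ?_⟩
    obtain ⟨q, rfl⟩ : ∃ q, p = q + 1 := ⟨p - 1, by omega⟩
    have h₁ := ha M hM (q + 1) (by omega) W g (le_sup_left.trans hW)
    have h₂ := hb M hM (q + 1) (by omega) W g (le_sup_right.trans hW)
    have h₃ := hc M hM q (by omega) W g (inf_le_left.trans (le_sup_left.trans hW))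
    rw [inf_inf_distrib_right] at h₃
    rw [inf_sup_right]
    exact subsingleton_hc_sup h₁ h₂ h₃

/-- Cohomology of quasi-coherent modules vanishes in high degrees. -/
theorem exists_vanishing_bound_compact [QuasiSeparatedSpace X] {U : X.Opens}
    (hU : IsCompact (U : Set X)) : ∃ d : ℕ, ∀ (M : X.Modules), M.IsQuasicoherent → ∀ p, d ≤ p →
      Subsingleton (Hc ((abF X).obj M) p U) := by
  obtain ⟨d, hd⟩ := exists_vanishing_bound hU
  refine ⟨d, fun M hM p hp => ?_⟩
  have := hd M hM p hp ⊤ 1 le_top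
  rwa [Scheme.basicOpen_of_isUnit (hf := isUnit_one), inf_top_eq] at this

/-- `t` affines with affine intersections: vanishing in degrees `≥ t`. -/
theorem subsingleton_hc_iSup_affine (M : X.Modules) [M.IsQuasicoherent]
    (hd : ∀ V W : X.Opens, IsAffineOpen V → IsAffineOpen W → IsAffineOpen (V ⊓ W))
    (t : ℕ) : ∀ (U : Fin t → X.Opens), (∀ i, IsAffineOpen (U i)) → ∀ p, t ≤ p →
      Subsingleton (Hc ((abF X).obj M) p (⨆ i, U i)) := by
  induction t with
  | zero =>
    intro U _ p _
    rw [iSup_of_empty]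
    exact subsingleton_of_forall_eq 0 fun x => hc_bot_eq_zero _ p rfl x
  | succ n ih =>
    intro U hU p hp
    obtain ⟨q, rfl⟩ : ∃ q, p = q + 1 := ⟨p - 1, by omega⟩
    have e : (⨆ i, U i) = (⨆ i : Fin n, U i.castSucc) ⊔ U (Fin.last n) := by
      apply le_antisymm
      · refine iSup_le fun i => ?_
        rcases i.eq_castSucc_or_eq_last with ⟨j, rfl⟩ | rfl
        · exact le_sup_of_le_left (le_iSup (fun i : Fin n => U i.castSucc) j)
        · exact le_sup_right
      · exact sup_le (iSup_le fun i => le_iSup U _) (le_iSup U _)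
    rw [e]
    refine subsingleton_hc_sup (ih _ (fun i => hU _) _ (by omega))
      (subsingleton_hc_isAffineOpen M (hU _) q) ?_
    rw [iSup_inf_eq]
    exact ih _ (fun i => hd _ _ (hU _) (hU _)) _ (by omega)

end Groth.Agent.CohFound
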