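import Groth.Agent.Lib.CohFound.ProjNum
import Groth.Agent.Lib.CohFound.CechElt
import Groth.Agent.Lib.CohFound.HHBridge
import Groth.Agent.Lib.CohFound.Qcqs
import Groth.Agent.Lib.Twist.QCoh

/-!
# Vanishing of cohomology of `O(d)` on projective space
-/

set_option autoImplicit false
set_option maxHeartbeats 400000

universe u

open CategoryTheory TopologicalSpace Opposite CategoryTheory.Limits AlgebraicGeometry MvPolynomial

namespace Groth.Agent.CohFound.ProjNum

open Groth.Agent.Twist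

variable (n : ℕ) (R : Type u) [CommRing R] (d : ℤ)

local notation "GR" => CohB1.polyGrading n R

/-- `O(d)` as an abelian sheaf. -/
noncomputable abbrev Od : CohTop.Ab (sp (Proj GR)) := (abF (Proj GR)).obj (_root_.Twist.twist GR d)

/-- The standard cover. -/
noncomputable def std (i : ULift.{u} (Fin (n + 1))) : Opens (sp (Proj GR)) :=
  Proj.basicOpen GR (X i.down)

/-- The indices of a tuple. -/
noncomputable def img {p : ℕ} (a : Fin (p + 1) → ULift.{u} (Fin (n + 1))) : Finset (Fin (n + 1)) :=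
  Finset.univ.image fun k => (a k).down

lemma img_nonempty {p : ℕ} (a : Fin (p + 1) → ULift.{u} (Fin (n + 1))) : (img n a).Nonempty :=
  ⟨(a 0).down, Finset.mem_image.2 ⟨0, Finset.mem_univ _, rfl⟩⟩

lemma mem_tupOpen {p : ℕ} (a : Fin (p + 1) → ULift.{u} (Fin (n + 1))) {x : sp (Proj GR)} :
    x ∈ tupOpen (std n R) a ↔ ∀ k, x ∈ std n R (a k) :=
  ⟨fun h k => iInf_le (fun k => std n R (a k)) k h,
    fun h => by
      rw [← SetLike.mem_coe, Opens.coe_iInf, Set.mem_iInter]
      exact h⟩

lemma W_img_le {p : ℕ} (a : Fin (p + 1) → ULift.{u} (Fin (n + 1))) :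
    W n R (img n a) ≤ tupOpen (std n R) a := fun x hx => (mem_tupOpen n R a).2 fun k =>
  (mem_W n R).1 hx _ (Finset.mem_image.2 ⟨k, Finset.mem_univ _, rfl⟩)

lemma tupOpen_le_W {p : ℕ} (a : Fin (p + 1) → ULift.{u} (Fin (n + 1))) :
    tupOpen (std n R) a ≤ W n R (img n a) := fun x hx => (mem_W n R).2 fun i hi => by
  obtain ⟨k, -, rfl⟩ := Finset.mem_image.1 hi
  exact (mem_tupOpen n R a).1 hx k

variable {n R d}

lemma isNum_map {K : ℕ} {U V : (Proj GR).Opens} (h : V ≤ U)
    {σ : (Od n R d).obj.obj (op U)} {g : MvPolynomial (Fin (n + 1)) R}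
    (hσ : IsNum (d := d) K (σ : Sec (𝒜 := GR) d U) g) :
    IsNum (d := d) K (((Od n R d).obj.map (homOfLE h).op σ : _) : Sec (𝒜 := GR) d V) g :=
  fun x hV hx => (val_mres h σ x hV).trans (hσ x (h hV) hx)

lemma isNum_sum {K : ℕ} {U : (Proj GR).Opens} {κ : Type*} (t : Finset κ)
    (σ : κ → (Od n R d).obj.obj (op U)) (g : κ → MvPolynomial (Fin (n + 1)) R)
    (h : ∀ i ∈ t, IsNum (d := d) K (σ i : Sec (𝒜 := GR) d U) (g i)) :
    IsNum (d := d) K ((∑ i ∈ t, σ i : _) : Sec (𝒜 := GR) d U) (∑ i ∈ t, g i) := by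
  classical
  induction t using Finset.induction_on with
  | empty => exact isNum_zero K
  | @insert a t hat ih =>
    rw [Finset.sum_insert hat, Finset.sum_insert hat]
    exact (h a (Finset.mem_insert_self a t)).add (ih fun i hi => h i (Finset.mem_insert_of_mem hi))

lemma isNum_neg_one_pow {K : ℕ} {U : (Proj GR).Opens} (i : ℕ) {σ : (Od n R d).obj.obj (op U)}
    {g : MvPolynomial (Fin (n + 1)) R} (h : IsNum (d := d) K (σ : Sec (𝒜 := GR) d U) g) :
    IsNum (d := d) K (((-1 : ℤ) ^ i • σ : _) : Sec (𝒜 := GR) d U) ((-1 : ℤ) ^ i • g) := by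
  rcases neg_one_pow_eq_or ℤ i with e | e
  · rw [e, one_zsmul, one_zsmul]; exact h
  · rw [e, neg_zsmul, one_zsmul, neg_zsmul, one_zsmul]; exact h.neg

lemma sum_comp_cons {p : ℕ} {ι : Type*} {M : Type*} [AddCommGroup M] (g : (Fin (p + 1) → ι) → M) (c : ι)
    (b : Fin (p + 1) → ι) :
    ∑ i : Fin (p + 2), (-1 : ℤ) ^ (i : ℕ) • g ((Fin.cons c b : Fin (p + 2) → ι) ∘ i.succAbove) =
      g b - ∑ j : Fin (p + 1), (-1 : ℤ) ^ (j : ℕ) •
        g ((Fin.cons c b : Fin (p + 2) → ι) ∘ j.succ.succAbove) := by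
  rw [Fin.sum_univ_succ]
  simp only [Fin.val_zero, pow_zero, one_zsmul, Fin.succAbove_zero, Fin.val_succ, pow_succ',
    neg_mul, one_mul, neg_zsmul, Finset.sum_neg_distrib, sub_eq_add_neg]
  rfl

lemma cons_succAbove {p : ℕ} {ι : Type*} (c : ι) (a : Fin (p + 2) → ι) (j : Fin (p + 2)) :
    (Fin.cons c a : Fin (p + 3) → ι) ∘ j.succ.succAbove =
      (Fin.cons c (a ∘ j.succAbove) : Fin (p + 2) → ι) := by
  funext k
  cases k using Fin.cases with
  | zero => simp
  | succ l => simp

/-- The Čech cohomology in positive degree vanishes if `d ≥ -n`, and in degrees between `0` and `n`. -/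
theorem isZero_cechH_Od (p : ℕ) (hp : -(n : ℤ) ≤ d ∨ p + 1 < n) :
    IsZero (CohTop.cechH (Od n R d).obj (std n R) (p + 1)) := by
  classical
  refine isZero_cechH_of_exact _ _ fun f hf => ?_
  choose K₀ hK₀ using fun a : Fin (p + 2) → ULift.{u} (Fin (n + 1)) =>
    exists_num (d := d) (img_nonempty n a)
      ((Od n R d).obj.map (homOfLE (W_img_le n R a)).op (f a) : Sec (𝒜 := GR) d (W n R (img n a)))
  let K := (∑ a, K₀ a) + d.natAbs + 1
  have hd : 0 ≤ d + (n + 1) * K := by
    have h1 : (d.natAbs : ℤ) ≤ (K : ℤ) := by exact_mod_cast (by omega : d.natAbs ≤ K)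
    have : (K : ℤ) ≤ (n + 1) * K := le_mul_of_one_le_left (by positivity) (by omega)
    omega
  choose g hg hgs using fun a => hK₀ a K (by
    have := Finset.single_le_sum (fun a _ => Nat.zero_le (K₀ a)) (Finset.mem_univ a)
    omega)
  have hcoc : ∀ a : Fin (p + 3) → ULift.{u} (Fin (n + 1)),
      ∑ i : Fin (p + 3), (-1 : ℤ) ^ (i : ℕ) • g (a ∘ i.succAbove) = 0 := fun a => by
    have h1 : IsNum (d := d) K (((Od n R d).obj.map (homOfLE (W_img_le n R a)).op
        (∑ i : Fin (p + 3), (-1 : ℤ) ^ (i : ℕ) •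
          (Od n R d).obj.map (homOfLE (tupOpen_le (std n R) a i)).op (f (a ∘ i.succAbove))) : _) :
          Sec (𝒜 := GR) d (W n R (img n a))) (∑ i : Fin (p + 3), (-1 : ℤ) ^ (i : ℕ) • g (a ∘ i.succAbove)) := by
      rw [map_sum]
      refine isNum_sum _ _ _ fun i _ => ?_
      rw [map_zsmul]
      refine isNum_neg_one_pow _ fun x hU hx => ?_
      refine Eq.trans ?_ (hg (a ∘ i.succAbove) x (W_univ_le n R _ hx) hx)
      exact ((val_mres _ _ x hU).trans (val_mres _ _ x _)).trans (val_mres _ _ x _).symm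
    rw [hf a, map_zero] at h1
    exact num_unique (sum_mem fun i _ => zsmul_mem (hgs _).homog _) (zero_mem _) (W_univ_le n R _)
      h1 (isNum_zero K)
  have hκ : ∀ a m, coeff m (g a) ≠ 0 → ∃ l, K ≤ m l := fun a m hm => by
    rcases hp with hp | hp
    · by_contra hlt
      push Not at hlt
      have e := (hgs a).homog hm
      rw [show (1 : Fin (n + 1) → ℕ) = fun _ => 1 from rfl, ← Finsupp.degree_eq_weight_one, Finsupp.degree_eq_sum] at e
      have hle : ∑ l, m l ≤ (n + 1) * (K - 1) := by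
        refine (Finset.sum_le_sum fun l _ => (Nat.le_sub_one_of_lt (hlt l))).trans_eq ?_
        simp
      have e' : ((∑ l, m l : ℕ) : ℤ) = d + (n + 1) * K := by
        rw [e]
        exact Int.toNat_of_nonneg hd
      have hle' : ((∑ l, m l : ℕ) : ℤ) ≤ (n + 1) * ((K : ℤ) - 1) := by
        have h : (((n + 1) * (K - 1) : ℕ) : ℤ) = (n + 1) * ((K : ℤ) - 1) := by
          rw [Nat.cast_mul, Nat.cast_sub (by omega)]
          push_cast
          ring
        rw [← h]
        exact_mod_cast hle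
      nlinarith
    · obtain ⟨l, hl⟩ : ∃ l, l ∉ img n a := by
        by_contra h
        push Not at h
        have := (Finset.card_le_card (fun l _ => h l : Finset.univ ⊆ img n a)).trans Finset.card_image_le
        simp at this
        omega
      exact ⟨l, (hgs a).le m hm l hl⟩
  let κ : (Fin (n + 1) →₀ ℕ) → ULift.{u} (Fin (n + 1)) := fun m =>
    if h : ∃ l, K ≤ m l then ⟨h.choose⟩ else ⟨0⟩
  let M := Finset.univ.biUnion fun a => (g a).support
  let G : (Fin (p + 1) → ULift.{u} (Fin (n + 1))) → MvPolynomial (Fin (n + 1)) R := fun b =>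
    ∑ m ∈ M, monomial m (coeff m (g (Fin.cons (κ m) b)))
  have hG : ∀ b m, coeff m (G b) = coeff m (g (Fin.cons (κ m) b)) := fun b m => by
    simp only [G, coeff_sum, coeff_monomial]
    rw [Finset.sum_ite_eq']
    split_ifs with hm
    · rfl
    · by_contra hne
      exact hm (Finset.mem_biUnion.2 ⟨_, Finset.mem_univ _, mem_support_iff.2 (Ne.symm hne)⟩)
  have hGs : ∀ b, Supp d K (img n b) (G b) := fun b => by
    refine ⟨sum_mem fun m _ => ?_, fun m hm l hl => ?_⟩
    · by_cases h0 : coeff m (g (Fin.cons (κ m) b)) = 0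
      · rw [h0, monomial_zero]; exact zero_mem _
      · exact isHomogeneous_monomial _ ((DFunLike.congr_fun Finsupp.degree_eq_weight_one m).trans ((hgs _).homog h0))
    · rw [hG] at hm
      by_cases hlk : l = (κ m).down
      · have he := hκ _ m hm
        simp only [hlk, κ, dif_pos he]
        exact he.choose_spec
      · refine (hgs _).le m hm l fun h => ?_
        obtain ⟨k, -, hk⟩ := Finset.mem_image.1 h
        cases k using Fin.cases with
        | zero => exact hlk (by simpa using hk.symm)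
        | succ k => exact hl (Finset.mem_image.2 ⟨k, Finset.mem_univ _, by simpa using hk⟩)
  choose γ hγ using fun b => exists_sec hd (hGs b)
  refine ⟨fun b => (Od n R d).obj.map (homOfLE (tupOpen_le_W n R b)).op (γ b), fun a => ?_⟩
  have hdG : ∑ i : Fin (p + 2), (-1 : ℤ) ^ (i : ℕ) • G (a ∘ i.succAbove) = g a := by
    refine MvPolynomial.ext _ _ fun m => ?_
    have h0 := congrArg (coeff m) (hcoc (Fin.cons (κ m) a))
    rw [sum_comp_cons] at h0
    simp only [coeff_sub, coeff_sum, coeff_smul, cons_succAbove, coeff_zero, sub_eq_zero] at h0 ⊢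
    simp only [hG]
    exact h0.symm
  have e : IsNum (d := d) K (((Od n R d).obj.map (homOfLE (W_img_le n R a)).op
      (∑ i : Fin (p + 2), (-1 : ℤ) ^ (i : ℕ) • (Od n R d).obj.map (homOfLE (tupOpen_le (std n R) a i)).op
        ((Od n R d).obj.map (homOfLE (tupOpen_le_W n R (a ∘ i.succAbove))).op (γ (a ∘ i.succAbove)))) : _) :
        Sec (𝒜 := GR) d (W n R (img n a))) (g a) := by
    rw [map_sum, ← hdG]
    refine isNum_sum _ _ _ fun i _ => ?_
    rw [map_zsmul]
    refine isNum_neg_one_pow _ fun x hU hx => ?_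
    refine Eq.trans ?_ (hγ (a ∘ i.succAbove) x (W_univ_le n R _ hx) hx)
    exact ((val_mres _ _ x hU).trans (val_mres _ _ x _)).trans (val_mres _ _ x _)
  have h := sec_unique (img_nonempty n a) e (hg a)
  refine sec_ext fun x hx => ?_
  have h' := congrArg (fun σ : Sec (𝒜 := GR) d (W n R (img n a)) => val σ x (tupOpen_le_W n R a hx)) h
  exact ((val_mres _ _ x _).symm.trans h').trans (val_mres _ _ x _)

/-- The twists are quasi-coherent; their cohomology on the standard intersections vanishes. -/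
lemma subsingleton_hc_tupOpen (p : ℕ) (a : Fin (p + 1) → ULift.{u} (Fin (n + 1))) (q : ℕ) :
    Subsingleton (Hc (Od n R d) (q + 1) (tupOpen (std n R) a)) := by
  have : (_root_.Twist.twist GR d).IsQuasicoherent := Groth.Agent.Twist.isQCoh_twist' GR d
  rw [le_antisymm (tupOpen_le_W n R a) (W_img_le n R a)]
  exact subsingleton_hc_isAffineOpen _
    (Proj.isAffineOpen_basicOpen GR _ (px_mem n R (img n a)) (Finset.card_pos.2 (img_nonempty n a))) q

lemma top_le_iSup_std : (⊤ : Opens (sp (Proj GR))) ≤ iSup (std n R) := fun x _ => by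
  have h : x ∈ (⨆ i : Fin (n + 1), Proj.basicOpen GR (X i)) := by
    rw [ProjSpace.iSup_basicOpen]; trivial
  obtain ⟨i, hi⟩ := Opens.mem_iSup.1 h
  exact Opens.mem_iSup.2 ⟨⟨i⟩, hi⟩

/-- Vanishing of `H^q(Pⁿ, O(d))` for `q > 0` outside the top degree case. -/
theorem subsingleton_hc_Od (q : ℕ) (hq : 0 < q) (h : -(n : ℤ) ≤ d ∨ q ≠ n) :
    Subsingleton (Hc (Od n R d) q ⊤) := by
  obtain ⟨p, rfl⟩ : ∃ p, q = p + 1 := ⟨q - 1, by omega⟩
  by_cases hn : n < p + 1
  · have : (_root_.Twist.twist GR d).IsQuasicoherent := Groth.Agent.Twist.isQCoh_twist' GR d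
    have e : (⊤ : (Proj GR).Opens) = ⨆ i : Fin (n + 1), Proj.basicOpen GR (X i) :=
      (ProjSpace.iSup_basicOpen n R).symm
    change Subsingleton (Hc ((abF (Proj GR)).obj (_root_.Twist.twist GR d)) (p + 1) (⊤ : (Proj GR).Opens))
    rw [e]
    exact subsingleton_hc_iSup_affine _ (fun V W hV hW => hV.inf hW) (n + 1) _
      (fun i => Proj.isAffineOpen_basicOpen GR _ (isHomogeneous_X R i) Nat.one_pos) _ (by omega)
  · have hz := isZero_cechH_Od (n := n) (R := R) (d := d) p (h.imp id fun h => by omega)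
    obtain ⟨e⟩ := nonempty_cechH_HU (W := ⊤) (std n R) (Od n R d) top_le_iSup_std
      (fun p a q => (subsingleton_HU_iff _ _ _).2 (subsingleton_hc_tupOpen p a q)) (fun _ => le_top) (p + 1)
    have := AddCommGrpCat.subsingleton_of_isZero hz
    exact (subsingleton_HU_iff _ _ _).1 e.symm.toEquiv.subsingleton

end Groth.Agent.CohFound.ProjNum
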