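import Groth.Agent.Lib.CohFound.ProjFinite
import Groth.Agent.Lib.CurveCoh17.TensorExact
import Groth.Agent.Lib.Ample18.Avoid
import Groth.Agent.Lib.CohFound.AffMor
import Groth.Agent.Lib.Twist.ProjSpace

/-!
# Serre vanishing on projective space
-/

set_option autoImplicit false

universe u

open CategoryTheory TopologicalSpace Opposite CategoryTheory.Limits AlgebraicGeometry MvPolynomial

namespace Groth.Agent.CohFound

variable {X : Scheme.{u}}

/-- Invertible modules have flat stalks. -/
theorem flat_stalk_invertible {L : X.Modules} (hL : PicF.IsInvertible L) (x : X) :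
    Module.Flat (X.presheaf.stalk x) (L.presheaf.stalk x) := by
  obtain ⟨g, hg⟩ := Amp.exists_stalk_gen hL x
  exact Module.Flat.of_linearEquiv
    (LinearEquiv.ofBijective (LinearMap.toSpanSingleton (X.presheaf.stalk x) (L.presheaf.stalk x) g) hg).symm

/-- Tensoring with an invertible module preserves short exact sequences. -/
theorem shortExact_tensor_invertible {S : ShortComplex X.Modules} (hS : S.ShortExact) {E : X.Modules}
    (hE : PicF.IsInvertible E) : (S.map (M2.tensorR E)).ShortExact :=
  CurveCoh17.shortExact_tensorR hS E (flat_stalk_invertible hE)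

/-- Vanishing passes along isomorphisms. -/
theorem subsingleton_hc_of_iso {M N : X.Modules} (e : M ≅ N) (q : ℕ) (U : Opens (sp X))
    (h : Subsingleton (Hc ((abF X).obj M) q U)) : Subsingleton (Hc ((abF X).obj N) q U) :=
  (mpEquiv ((abF X).mapIso e) q U).symm.toEquiv.subsingleton

/-- Vanishing for finite coproducts. -/
theorem subsingleton_hc_sigma {k : ℕ} {L : X.Modules} (q : ℕ) (U : Opens (sp X))
    (h : Subsingleton (Hc ((abF X).obj L) q U)) :
    Subsingleton (Hc ((abF X).obj (∐ fun _ : Fin k => L)) q U) := by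
  have : HasFiniteBiproducts X.Modules := Abelian.hasFiniteBiproducts
  refine subsingleton_hc_of_iso (biproduct.isoCoproduct fun _ : Fin k => L) q U
    (subsingleton_of_forall_eq 0 fun x => ?_)
  have hsum : ∀ s : Finset (Fin k), mp ((abF X).map (∑ j ∈ s, biproduct.π (fun _ : Fin k => L) j ≫
      biproduct.ι (fun _ : Fin k => L) j)) q U x = 0 := by
    intro s
    induction s using Finset.induction_on with
    | empty => simp [mp_zero]
    | insert j s hj ih =>
      rw [Finset.sum_insert hj, Functor.map_add, mp_add, ih, add_zero, Functor.map_comp, mp_comp,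
        @Subsingleton.elim _ h (mp _ q U x) 0, map_zero]
  have := hsum Finset.univ
  rwa [biproduct.total, CategoryTheory.Functor.map_id, mp_id] at this

namespace ProjNum

variable (n : ℕ) (R : Type u) [CommRing R] [IsNoetherianRing R]

local notation "GR" => CohB1.polyGrading n R

/-- Serre vanishing on projective space. -/
theorem serre_vanishing (p : ℕ) (hp : 0 < p) (F : (Proj GR).Modules) (hF : Coh.IsCoh F) :
    ∃ m₀ : ℕ, ∀ m : ℕ, m₀ ≤ m →
      Subsingleton (Hc ((abF (Proj GR)).obj (CohB1.tensorMod F (_root_.Twist.twist GR (m : ℤ)))) p ⊤) := by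
  have := isLocallyNoetherian_projSpace n R
  suffices h : ∀ d p, 0 < p → n + 1 ≤ p + d → ∀ (F : (Proj GR).Modules), Coh.IsCoh F →
      ∃ m₀ : ℕ, ∀ m : ℕ, m₀ ≤ m →
        Subsingleton (Hc ((abF (Proj GR)).obj (CohB1.tensorMod F (_root_.Twist.twist GR (m : ℤ)))) p ⊤) from
    h (n + 1) p hp (by omega) F hF
  have hcov := Groth.Agent.Twist.iSup_basicOpen_one n R
  intro d
  induction d with
  | zero => exact fun p _ hle F hF => ⟨0, fun m _ => subsingleton_hc_qcoh n R _
      (M2.isQCoh_tensor hF.1 (Groth.Agent.Twist.isQCoh_twist' GR _)) p (by omega)⟩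
  | succ d ih =>
    intro p hp hle F hF
    obtain ⟨m₁, hm₁⟩ := exists_epi_twist GR (fun i : Fin (n + 1) => (X i : MvPolynomial (Fin (n + 1)) R))
      (fun i => ProjSpace.X_mem' n R i) (ProjSpace.irrelevant_le_span n R) F hF
    obtain ⟨k, π, hπ, hE⟩ := hm₁ m₁ le_rfl
    have : Epi π := hπ
    obtain ⟨m₂, hm₂⟩ := ih (p + 1) (by omega) (by omega) (kernel π) (M1.isCoh_kernel hE hF.1 π)
    refine ⟨max m₁ m₂, fun m hm => ?_⟩
    let S : ShortComplex (Proj GR).Modules := ShortComplex.mk (kernel.ι π) π (kernel.condition π)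
    have hS : S.ShortExact := { exact := ShortComplex.exact_kernel π }
    have hT := shortExact_abF (shortExact_tensor_invertible hS
      (Groth.Agent.Twist.isInvertible_twist GR hcov (m : ℤ)))
    have h₃ : Subsingleton (Hc ((abF (Proj GR)).obj (CohB1.tensorMod (kernel π)
        (_root_.Twist.twist GR (m : ℤ)))) (p + 1) ⊤) := hm₂ m (le_of_max_le_right hm)
    have h₂ : Subsingleton (Hc ((abF (Proj GR)).obj (CohB1.tensorMod
        (∐ fun _ : Fin k => _root_.Twist.twist GR (-(m₁ : ℤ))) (_root_.Twist.twist GR (m : ℤ)))) p ⊤) := by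
      obtain ⟨e⟩ := Groth.Agent.Twist.nonempty_tensor_iso GR (-(m₁ : ℤ)) (m : ℤ) hcov
      refine subsingleton_hc_of_iso ((PreservesCoproduct.iso (M2.tensorR (_root_.Twist.twist GR (m : ℤ))) _) ≪≫
        Sigma.mapIso fun _ => e).symm p ⊤ (subsingleton_hc_sigma p ⊤ ?_)
      exact subsingleton_hc_Od (n := n) (R := R) (d := -(m₁ : ℤ) + (m : ℤ)) p hp
        (Or.inl (by have := le_of_max_le_left hm; omega))
    refine subsingleton_of_forall_eq 0 fun x => ?_
    obtain ⟨y, hy⟩ := exact₃ hT p ⊤ x (@Subsingleton.elim _ h₃ _ _)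
    rw [← hy]
    exact (congrArg _ (@Subsingleton.elim _ h₂ y 0)).trans (map_zero _)

end ProjNum

end Groth.Agent.CohFound
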