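import Groth.Agent.Lib.CohFound.ProperModel

/-!
# Finiteness of the cohomology of coherent sheaves on proper schemes
-/

set_option autoImplicit false

universe u

open CategoryTheory TopologicalSpace Opposite CategoryTheory.Limits AlgebraicGeometry

namespace Groth.Agent.CohFound

variable {A : Type u} [CommRing A] [IsNoetherianRing A] {X : Scheme.{u}}

/-- A scheme proper over a Noetherian affine scheme is Noetherian. -/
theorem isNoetherian_of_isProper (f₀ : X ⟶ Spec (CommRingCat.of A)) [IsProper f₀] : IsNoetherian X :=
  have : IsLocallyNoetherian X := LocallyOfFiniteType.isLocallyNoetherian f₀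
  have : CompactSpace X := QuasiCompact.compactSpace_of_compactSpace f₀
  { }

/-- Finiteness of coherent cohomology on a proper scheme. -/
theorem hFin_proper (f₀ : X ⟶ Spec (CommRingCat.of A)) [IsProper f₀] (M : X.Modules) (hM : Coh.IsCoh M)
    (n : ℕ) : HFin (Coh.toGlobal f₀) M n ⊤ :=
  have := isNoetherian_of_isProper f₀
  (twoOfThree_finP f₀).holds (nonempty_hasModel f₀) hM n

/-- Finiteness of coherent cohomology on a proper scheme, on `Coh.HH`. -/
theorem finite_HH_of_isProper [X.Over (Spec (CommRingCat.of A))]
    [IsProper (X ↘ Spec (CommRingCat.of A))] (M : X.Modules) (hM : Coh.IsCoh M) (n : ℕ) :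
    Module.Finite A (Coh.HH X M n) :=
  (finite_HH_iff M n).2 (hFin_proper _ M hM n)

end Groth.Agent.CohFound
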