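import Groth.Agent.Lib.CohFound.DimShift
import Mathlib.Topology.Category.TopCat.Adjunctions
import Mathlib.Topology.Sheaves.Sheafify

/-!
# Stalks of inverse images of abelian sheaves; the Godement embedding
-/

universe u

open CategoryTheory TopologicalSpace Opposite CategoryTheory.Limits

namespace Groth.Agent.CohFound

section StalkUnit

variable {X Y : TopCat.{u}} (f : Y ⟶ X) (F : TopCat.Sheaf AddCommGrpCat.{u} X)

/-- The unit of `f^* ⊣ f_*` as a map of presheaves. -/
noncomputable def unitHom :
    F.presheaf ⟶ (TopCat.Presheaf.pushforward AddCommGrpCat.{u} f).obj ((TopCat.Sheaf.pullback AddCommGrpCat.{u} f).obj F).presheaf :=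
  ((TopCat.Sheaf.pullbackPushforwardAdjunction AddCommGrpCat.{u} f).unit.app F).hom

/-- The induced map on stalks. -/
noncomputable def stalkUnit (y : Y) :
    F.presheaf.stalk (f y) ⟶ ((TopCat.Sheaf.pullback AddCommGrpCat.{u} f).obj F).presheaf.stalk y :=
  (TopCat.Presheaf.stalkFunctor AddCommGrpCat.{u} (f y)).map (unitHom f F) ≫
    TopCat.Presheaf.stalkPushforward AddCommGrpCat.{u} f _ y

theorem germ_stalkUnit (y : Y) (U : Opens X) (hy : f y ∈ U) :
    F.presheaf.germ U (f y) hy ≫ stalkUnit f F y = (unitHom f F).app (op U) ≫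
      ((TopCat.Sheaf.pullback AddCommGrpCat.{u} f).obj F).presheaf.germ ((Opens.map f).obj U) y hy := by
  rw [stalkUnit, TopCat.Presheaf.stalkFunctor_map_germ_assoc]
  erw [TopCat.Presheaf.stalkPushforward_germ]

theorem isIso_stalkUnit (y : Y) : IsIso (stalkUnit f F y) := by
  let G := Opens.map f
  let J := Opens.grothendieckTopology X
  let K := Opens.grothendieckTopology Y
  let adj1 := G.sheafAdjunctionContinuous AddCommGrpCat.{u} J K
  let adj2 := Functor.sheafPullbackConstruction.sheafAdjunctionContinuous G AddCommGrpCat.{u} J K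
  let α := ((adj1.leftAdjointUniq adj2).hom.app F).hom
  have : IsIso ((adj1.leftAdjointUniq adj2).hom.app F) := inferInstance
  have : IsIso α :=
    inferInstanceAs (IsIso ((sheafToPresheaf K AddCommGrpCat.{u}).map ((adj1.leftAdjointUniq adj2).hom.app F)))
  have h1 : unitHom f F ≫ (TopCat.Presheaf.pushforward AddCommGrpCat.{u} f).map α = (adj2.unit.app F).hom :=
    congr(($(Adjunction.unit_leftAdjointUniq_hom_app adj1 adj2 F)).hom)
  let adjP := (G.op.lanAdjunction AddCommGrpCat.{u}).comp (sheafificationAdjunction K AddCommGrpCat.{u})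
  let c1 : sheafToPresheaf J AddCommGrpCat.{u} ⋙ (G.op.lan ⋙ presheafToSheaf K AddCommGrpCat.{u}) ≅
      Functor.sheafPullbackConstruction.sheafPullback G AddCommGrpCat.{u} J K ⋙ 𝟭 _ := Iso.refl _
  let c2 : 𝟭 (Sheaf K AddCommGrpCat.{u}) ⋙ (sheafToPresheaf K AddCommGrpCat.{u} ⋙ (Functor.whiskeringLeft _ _ AddCommGrpCat.{u}).obj G.op) ≅
      G.sheafPushforwardContinuous AddCommGrpCat.{u} J K ⋙ sheafToPresheaf J AddCommGrpCat.{u} := Iso.refl _
  have e := Adjunction.map_restrictFullyFaithful_unit_app adjP
    (fullyFaithfulSheafToPresheaf J AddCommGrpCat.{u}) (Functor.FullyFaithful.id _) c1 c2 F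
  dsimp [adjP, c1, c2] at e
  have h2 : (adj2.unit.app F).hom =
      (TopCat.Presheaf.pullbackPushforwardAdjunction AddCommGrpCat.{u} f).unit.app F.presheaf ≫
        (TopCat.Presheaf.pushforward AddCommGrpCat.{u} f).map (toSheafify K _) := by
    refine e.trans ?_
    rw [Adjunction.comp_unit_app]
    erw [Category.comp_id]
  have key : ∀ {P Q : TopCat.Presheaf AddCommGrpCat.{u} Y} (β : P ⟶ Q),
      (TopCat.Presheaf.stalkFunctor AddCommGrpCat.{u} (f y)).map ((TopCat.Presheaf.pushforward AddCommGrpCat.{u} f).map β) ≫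
        TopCat.Presheaf.stalkPushforward AddCommGrpCat.{u} f Q y =
      TopCat.Presheaf.stalkPushforward AddCommGrpCat.{u} f P y ≫
        (TopCat.Presheaf.stalkFunctor AddCommGrpCat.{u} y).map β := by
    intro P Q β
    refine TopCat.Presheaf.stalk_hom_ext _ fun U hU => ?_
    erw [TopCat.Presheaf.stalkFunctor_map_germ_assoc, TopCat.Presheaf.stalkPushforward_germ,
      TopCat.Presheaf.stalkPushforward_germ_assoc, TopCat.Presheaf.stalkFunctor_map_germ]
    rfl
  have h3 : stalkUnit f F y ≫ (TopCat.Presheaf.stalkFunctor AddCommGrpCat.{u} y).map α =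
      TopCat.Presheaf.stalkPullbackHom AddCommGrpCat.{u} f F.presheaf y ≫
        (TopCat.Presheaf.stalkFunctor AddCommGrpCat.{u} y).map (toSheafify K _) := by
    calc stalkUnit f F y ≫ (TopCat.Presheaf.stalkFunctor AddCommGrpCat.{u} y).map α
        = (TopCat.Presheaf.stalkFunctor AddCommGrpCat.{u} (f y)).map
            (unitHom f F ≫ (TopCat.Presheaf.pushforward AddCommGrpCat.{u} f).map α) ≫
            TopCat.Presheaf.stalkPushforward AddCommGrpCat.{u} f _ y := by
          rw [stalkUnit, Category.assoc, Functor.map_comp, Category.assoc]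
          exact congrArg (_ ≫ ·) (key α).symm
      _ = _ := by
          rw [h1, h2]
          rw [TopCat.Presheaf.stalkPullbackHom]
          erw [Functor.map_comp, Category.assoc, Category.assoc]
          exact congrArg (_ ≫ ·) (key _)
  have : IsIso (TopCat.Presheaf.stalkPullbackHom AddCommGrpCat.{u} f F.presheaf y) :=
    inferInstanceAs (IsIso (TopCat.Presheaf.stalkPullbackIso AddCommGrpCat.{u} f F.presheaf y).hom)
  have := TopCat.Presheaf.stalkFunctor_map_unit_toSheafify_isIso y AddCommGrpCat.{u}
    ((TopCat.Presheaf.pullback AddCommGrpCat.{u} f).obj F.presheaf)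
  have hα : IsIso α := ‹IsIso α›
  have hα' : IsIso ((TopCat.Presheaf.stalkFunctor AddCommGrpCat.{u} y).map α) :=
    @Functor.map_isIso _ _ _ _ _ _ (TopCat.Presheaf.stalkFunctor AddCommGrpCat.{u} y) α hα
  have : IsIso (stalkUnit f F y ≫ (TopCat.Presheaf.stalkFunctor AddCommGrpCat.{u} y).map α) := by
    rw [h3]
    exact IsIso.comp_isIso' ‹_› (TopCat.Presheaf.stalkFunctor_map_unit_toSheafify_isIso y AddCommGrpCat.{u} _)
  exact @IsIso.of_isIso_comp_right _ _ _ _ _ (stalkUnit f F y) ((TopCat.Presheaf.stalkFunctor AddCommGrpCat.{u} y).map α) hα' ‹_›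

end StalkUnit

/-- The identity map from `X` with the discrete topology to `X`. -/
noncomputable abbrev discMap (X : TopCat.{u}) := TopCat.adj₁.counit.app X

/-- The Godement functor: direct image of the restriction to the discrete space. -/
noncomputable abbrev godFun (X : TopCat.{u}) : CohTop.Ab X ⥤ CohTop.Ab X :=
  CohTop.pull (discMap X) ⋙ CohTop.push (discMap X)

/-- The Godement embedding. -/
noncomputable abbrev godUnit (X : TopCat.{u}) : 𝟭 (CohTop.Ab X) ⟶ godFun X :=
  (TopCat.Sheaf.pullbackPushforwardAdjunction AddCommGrpCat.{u} (discMap X)).unit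

/-- Every sheaf on a discrete space is flasque. -/
lemma isFlasque_of_discrete {D : TopCat.{u}} [DiscreteTopology D] (F : CohTop.Ab D) :
    TopCat.Sheaf.IsFlasque F := by
  refine isFlasque_mk F fun U V h s => ?_
  let W : Opens D := ⟨(U : Set D) \ V, isOpen_discrete _⟩
  let c : Bool → Opens D := fun b => cond b V W
  have hc : ∀ b, c b ≤ U := fun b => by
    cases b
    · exact Set.sdiff_subset
    · exact h
  let sf : ∀ b, F.obj.obj (op (c b)) := fun b => Bool.rec (motive := fun b => F.obj.obj (op (c b))) 0 s b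
  have hdis : ∀ P : Opens D, P = ⊥ → Subsingleton (F.obj.obj (op P)) := fun P hP => by
    subst hP
    exact AddCommGrpCat.subsingleton_of_isZero (TopCat.Sheaf.isTerminalOfEmpty F).isZero
  obtain ⟨t, ht, -⟩ := TopCat.Sheaf.existsUnique_gluing' F c U (fun b => homOfLE (hc b))
    (fun x hx => by
      refine Opens.mem_iSup.2 ?_
      by_cases hxV : x ∈ V
      · exact ⟨true, hxV⟩
      · exact ⟨false, hx, hxV⟩) sf
    (fun a b => by
      cases a <;> cases b
      · rfl
      · have := hdis (c false ⊓ c true) (eq_bot_iff.2 fun x hx => hx.1.2 hx.2)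
        exact Subsingleton.elim _ _
      · have := hdis (c true ⊓ c false) (eq_bot_iff.2 fun x hx => hx.2.2 hx.1)
        exact Subsingleton.elim _ _
      · rfl)
  exact ⟨t, ht true⟩

theorem isFlasque_godFun (X : TopCat.{u}) (F : CohTop.Ab X) :
    TopCat.Sheaf.IsFlasque ((godFun X).obj F) := by
  have : DiscreteTopology ↥((forget TopCat.{u} ⋙ TopCat.discrete).obj X) := ⟨rfl⟩
  have hG := isFlasque_of_discrete ((CohTop.pull (discMap X)).obj F)
  refine isFlasque_mk _ fun U V h s => ?_
  exact flasque_surjective ((CohTop.pull (discMap X)).obj F)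
    (U := (Opens.map (discMap X)).obj U) (V := (Opens.map (discMap X)).obj V)
    (fun x hx => h hx) s

theorem mono_godUnit (X : TopCat.{u}) (F : CohTop.Ab X) : Mono ((godUnit X).app F) := by
  refine mono_of_injective_app _ fun U => ?_
  rw [injective_iff_map_eq_zero]
  intro s hs
  refine TopCat.Presheaf.section_ext (C := AddCommGrpCat.{u}) F U s 0 fun x hx => ?_
  have h := congr($(show (TopCat.Presheaf.germ F.obj U x hx ≫ stalkUnit (discMap X) F x) = _ from
    germ_stalkUnit (discMap X) F x U hx) s)
  have := isIso_stalkUnit (discMap X) F x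
  refine ((ConcreteCategory.bijective_of_isIso (stalkUnit (discMap X) F x)).1 ?_).trans (map_zero _).symm
  refine (h.trans ?_).trans (map_zero (stalkUnit (discMap X) F x).hom).symm
  have hs' : (unitHom (discMap X) F).app (op U) s = 0 := hs
  exact (ConcreteCategory.comp_apply _ _ _).trans ((congrArg _ hs').trans (map_zero _))
  
end Groth.Agent.CohFound
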