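import Groth.Agent.Lib.CohFound.RpushHc

/-!
# `Hⁿ(W, f_* F) ≅ Hⁿ(f⁻¹ W, F)`, naturally, when the higher direct images vanish
-/

set_option maxHeartbeats 400000

universe u

open CategoryTheory TopologicalSpace Opposite CategoryTheory.Limits Abelian

namespace Groth.Agent.CohFound

variable {X Y : TopCat.{u}} (f : X ⟶ Y)

instance preservesFiniteLimits_push : PreservesFiniteLimits (CohTop.push f) :=
  have : PreservesLimitsOfSize.{0, 0} (CohTop.push f) :=
    (TopCat.Sheaf.pullbackPushforwardAdjunction AddCommGrpCat.{u} f).rightAdjoint_preservesLimits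
  PreservesLimitsOfSize.preservesFiniteLimits.{0, 0} _

variable {F : CohTop.Ab X} (hF : ∀ q, LocKilled f (q + 1) F)

/-- The direct image of an injective resolution, when the higher direct images vanish. -/
noncomputable def augPush (I : InjectiveResolution F) : AugCx ((CohTop.push f).obj F) where
  K := ((CohTop.push f).mapHomologicalComplex (ComplexShape.up ℕ)).obj I.cocomplex
  ι := (CohTop.push f).map (augOfInj I).ι
  w := (CategoryTheory.Functor.map_comp (CohTop.push f) _ _).symm.trans
    ((congrArg (CohTop.push f).map (augOfInj I).w).trans ((CohTop.push f).map_zero _ _))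
  mono :=
    have h : Mono (augOfInj I).ι := (augOfInj I).mono
    @Functor.map_mono _ _ _ _ (CohTop.push f) inferInstance _ _ (augOfInj I).ι h
  exact₀ :=
    exact_of_sections fun V s hs => @exact_app _ _ (augOfInj I).exact₀ (augOfInj I).mono
      ((Opens.map f).obj V) s hs
  exact_succ n := by
    have h := (isZero_rpush_succ_iff f n F).2 (hF n)
    rw [Iso.isZero_iff (I.isoRightDerivedObj (CohTop.push f) (n + 1))] at h
    exact (HomologicalComplex.exactAt_iff' _ n (n + 1) (n + 2) (by simp) (by simp)).1
      ((HomologicalComplex.exactAt_iff_isZero_homology _ _).2 h)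

lemma acyclicOn_augPush (I : InjectiveResolution F) (W : Opens Y) :
    (augPush f hF I).AcyclicOn W := fun q j =>
  have : Injective (I.cocomplex.X q) := I.injective q
  have := isFlasque_of_injective (I.cocomplex.X q)
  have : TopCat.Sheaf.IsFlasque ((augPush f hF I).K.X q) :=
    TopCat.Sheaf.IsFlasque.pushforward_isFlasque (I.cocomplex.X q) f
  subsingleton_hc_of_isFlasque _ j W

/-- Cycles of the direct image are direct images of cycles. -/
noncomputable def pushZIso (I : InjectiveResolution F) (n : ℕ) :
    (CohTop.push f).obj ((augOfInj I).Z n) ≅ (augPush f hF I).Z n :=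
  PreservesKernel.iso (CohTop.push f) ((augOfInj I).K.d n (n + 1))

/-- Cycles of the direct image to cohomology upstairs. -/
noncomputable def pushToHc (I : InjectiveResolution F) (n : ℕ) (W : Opens Y) :
    ((augPush f hF I).Z n).obj.obj (op W) →+ Hc F n ((Opens.map f).obj W) :=
  ((augOfInj I).toHc ((Opens.map f).obj W) n).comp ((pushZIso f hF I n).inv.hom.app (op W)).hom

lemma pushToHc_surjective (I : InjectiveResolution F) (n : ℕ) (W : Opens Y) :
    Function.Surjective (pushToHc f hF I n W) := by
  intro x
  obtain ⟨z, hz⟩ := AugCx.toHc_surjective (acyclicOn_augOfInj I ((Opens.map f).obj W)) n x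
  refine ⟨(pushZIso f hF I n).hom.hom.app (op W) z, ?_⟩
  refine Eq.trans ?_ hz
  exact congrArg ((augOfInj I).toHc ((Opens.map f).obj W) n) (congrArg
    (fun φ : (CohTop.push f).obj ((augOfInj I).Z n) ⟶ (CohTop.push f).obj ((augOfInj I).Z n) =>
      φ.hom.app (op W) z) (pushZIso f hF I n).hom_inv_id)

lemma pushToHc_eq_zero_iff (I : InjectiveResolution F) (n : ℕ) (W : Opens Y)
    (z : ((augPush f hF I).Z n).obj.obj (op W)) :
    pushToHc f hF I n W z = 0 ↔ (augPush f hF I).toHc W n z = 0 := by
  cases n with
  | zero =>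
    constructor <;> intro h
    · have h' := (augOfInj I).toHc_zero_bijective.1 (h.trans (map_zero _).symm)
      have hz : z = (pushZIso f hF I 0).hom.hom.app (op W)
          ((pushZIso f hF I 0).inv.hom.app (op W) z) :=
        (congrArg (fun φ : (augPush f hF I).Z 0 ⟶ (augPush f hF I).Z 0 => φ.hom.app (op W) z)
          (pushZIso f hF I 0).inv_hom_id).symm
      rw [hz]
      exact (congrArg ((augPush f hF I).toHc W 0) ((congrArg
        ((pushZIso f hF I 0).hom.hom.app (op W)) h').trans (map_zero _))).trans (map_zero _)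
    · have hz := (augPush f hF I).toHc_zero_bijective.1 (h.trans (map_zero _).symm)
      rw [hz, map_zero]
  | succ m =>
    have hk : ∀ y : ((augPush f hF I).Z (m + 1)).obj.obj (op W),
        (kernel.ι ((augOfInj I).K.d (m + 1) (m + 2))).hom.app (op ((Opens.map f).obj W))
          ((pushZIso f hF I (m + 1)).inv.hom.app (op W) y) =
        (kernel.ι ((augPush f hF I).K.d (m + 1) (m + 2))).hom.app (op W) y := by
      intro y
      refine congrArg (fun φ : (augPush f hF I).Z (m + 1) ⟶ (CohTop.push f).obj (I.cocomplex.X (m + 1)) =>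
        φ.hom.app (op W) y) (?_ : (pushZIso f hF I (m + 1)).inv ≫
          (CohTop.push f).map (kernel.ι ((augOfInj I).K.d (m + 1) (m + 2))) = kernel.ι _)
      refine (Iso.inv_comp_eq _).2 ?_
      exact ((kernelComparison_comp_ι _ (CohTop.push f)).symm.trans
        (congrArg (· ≫ kernel.ι _) (PreservesKernel.iso_hom _ _).symm))
    refine (AugCx.toHc_succ_eq_zero_iff (acyclicOn_augOfInj I ((Opens.map f).obj W)) m _).trans ?_
    refine Iff.trans ?_ (AugCx.toHc_succ_eq_zero_iff (acyclicOn_augPush f hF I W) m z).symm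
    rw [← hk z]
    exact Iff.rfl

lemma pushToHc_map (I : InjectiveResolution F) (n : ℕ) {W W' : Opens Y} (h : W' ≤ W)
    (z : ((augPush f hF I).Z n).obj.obj (op W)) :
    pushToHc f hF I n W' (((augPush f hF I).Z n).obj.map (homOfLE h).op z) =
      rs F n (leOfHom ((Opens.map f).map (homOfLE h))) (pushToHc f hF I n W z) := by
  refine Eq.trans (congrArg ((augOfInj I).toHc ((Opens.map f).obj W') n) ?_)
    ((augOfInj I).toHc_map ((Opens.map f).obj W) (leOfHom ((Opens.map f).map (homOfLE h))) n _)
  exact NatTrans.naturality_apply (pushZIso f hF I n).inv.hom (homOfLE h).op z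

/-- `Hⁿ(W, f_* F) ≃ Hⁿ(f⁻¹ W, F)`. -/
noncomputable def hcPushEquiv (I : InjectiveResolution F) (n : ℕ) (W : Opens Y) :
    Hc ((CohTop.push f).obj F) n W ≃+ Hc F n ((Opens.map f).obj W) :=
  (QuotientAddGroup.quotientKerEquivOfSurjective _
    (AugCx.toHc_surjective (acyclicOn_augPush f hF I W) n)).symm.trans
    ((QuotientAddGroup.quotientAddEquivOfEq
        (by ext z; exact (pushToHc_eq_zero_iff f hF I n W z).symm)).trans
      (QuotientAddGroup.quotientKerEquivOfSurjective _ (pushToHc_surjective f hF I n W)))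

lemma hcPushEquiv_toHc (I : InjectiveResolution F) (n : ℕ) (W : Opens Y)
    (z : ((augPush f hF I).Z n).obj.obj (op W)) :
    hcPushEquiv f hF I n W ((augPush f hF I).toHc W n z) = pushToHc f hF I n W z := by
  have e : (QuotientAddGroup.quotientKerEquivOfSurjective _
      (AugCx.toHc_surjective (acyclicOn_augPush f hF I W) n)).symm
        ((augPush f hF I).toHc W n z) = QuotientAddGroup.mk z := by
    rw [AddEquiv.symm_apply_eq]; rfl
  simp only [hcPushEquiv, AddEquiv.trans_apply, e]
  rfl

lemma hcPushEquiv_rs (I : InjectiveResolution F) (n : ℕ) {W W' : Opens Y} (h : W' ≤ W)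
    (x : Hc ((CohTop.push f).obj F) n W) :
    hcPushEquiv f hF I n W' (rs _ n h x) =
      rs F n (leOfHom ((Opens.map f).map (homOfLE h))) (hcPushEquiv f hF I n W x) := by
  obtain ⟨z, rfl⟩ := AugCx.toHc_surjective (acyclicOn_augPush f hF I W) n x
  rw [← (augPush f hF I).toHc_map W h n z, hcPushEquiv_toHc, hcPushEquiv_toHc, pushToHc_map]

/-- The isomorphism of presheaves `Hⁿ(-, f_* F) ≅ Hⁿ(f⁻¹ -, F)`. -/
noncomputable def hcPreIsoPush (I : InjectiveResolution F) (n : ℕ) :
    hcPre ((CohTop.push f).obj F) n ≅ hcPrePush f F n :=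
  NatIso.ofComponents (fun W => (hcPushEquiv f hF I n W.unop).toAddCommGrpIso) fun {W W'} i => by
    ext x
    exact hcPushEquiv_rs f hF I n (leOfHom i.unop) x

end Groth.Agent.CohFound
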