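import Groth.Agent.Lib.CohFound.SecAffine
import Groth.Agent.Lib.CohFound.PushRes

/-!
# Higher direct images of a composite with an affine morphism
-/

set_option maxHeartbeats 400000

universe u

open CategoryTheory TopologicalSpace Opposite CategoryTheory.Limits

namespace Groth.Agent.CohFound

variable {T : TopCat.{u}}

/-- A morphism of sheaves bijective on a basis of opens is an isomorphism. -/
lemma isIso_of_bijective_basis {A B : CohTop.Ab T} (φ : A ⟶ B) (P : Opens T → Prop)
    (hP : ∀ (W : Opens T), ∀ y ∈ W, ∃ V, P V ∧ y ∈ V ∧ V ≤ W)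
    (h : ∀ V, P V → Function.Bijective (φ.hom.app (op V))) : IsIso φ := by
  have : Mono φ := mono_of_injective_app φ fun W => (injective_iff_map_eq_zero _).2 fun s hs => by
    choose V hPV hyV hVW using fun y : W => hP W y y.2
    refine TopCat.Sheaf.eq_of_locally_eq' A V W (fun y => homOfLE (hVW y))
      (fun y hy => Opens.mem_iSup.2 ⟨⟨y, hy⟩, hyV ⟨y, hy⟩⟩) s 0 fun y => ?_
    rw [map_zero]
    apply (h (V y) (hPV y)).1
    rw [NatTrans.naturality_apply, map_zero]
    exact (congrArg _ hs).trans (map_zero _)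
  have : Epi φ := epi_of_locally_lift φ fun W s y hy => by
    obtain ⟨V, hPV, hyV, hVW⟩ := hP W y hy
    obtain ⟨t, ht⟩ := (h V hPV).2 (B.obj.map (homOfLE hVW).op s)
    exact ⟨V, hVW, hyV, t, ht⟩
  exact isIso_of_mono_of_epi φ

variable {X Y Z : TopCat.{u}} {F : CohTop.Ab X} (R : AugCx F) (f : X ⟶ Y) (g : Y ⟶ Z) (i q : ℕ)

/-- Comparing homology of direct images with direct images of homology. -/
theorem nonempty_homology_push_comp_iso (hi : (ComplexShape.up ℕ).prev q = i)
    (hA : R.IsFlasqueRes) (P : Opens Z → Prop)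
    (hP : ∀ (W : Opens Z), ∀ y ∈ W, ∃ V, P V ∧ y ∈ V ∧ V ≤ W)
    (hf : ∀ V, P V → SecGood (R.pushSC f i q) ((Opens.map g).obj V))
    (hfg : ∀ V, P V → SecGood (R.pushSC (f ≫ g) i q) V) :
    Nonempty ((R.pushSC (f ≫ g) i q).homology ≅
      (CohTop.push g).obj (R.pushSC f i q).homology) := by
  let S := R.pushSC f i q
  let S' := R.pushSC (f ≫ g) i q
  let D := HData.ofHomology S
  let D' := HData.ofHomology S'
  let ker := KernelFork.mapIsLimit _ S.cyclesIsKernel (CohTop.push g)
  have w : S'.iCycles ≫ (CohTop.push g).map S.g = 0 := S'.iCycles_g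
  let l : S'.cycles ⟶ (CohTop.push g).obj S.cycles := ker.lift (KernelFork.ofι S'.iCycles w)
  have hl : l ≫ (CohTop.push g).map S.iCycles = S'.iCycles := Fork.IsLimit.lift_ι ker
  have : Mono ((CohTop.push g).map S.iCycles) := inferInstance
  have hw : S'.toCycles ≫ l ≫ (CohTop.push g).map S.homologyπ = 0 := by
    have e : S'.toCycles ≫ l = (CohTop.push g).map S.toCycles := by
      refine (cancel_mono ((CohTop.push g).map S.iCycles)).1 ?_
      refine (Category.assoc _ _ _).trans ((congrArg (S'.toCycles ≫ ·) hl).trans ?_)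
      exact S'.toCycles_i.trans ((congrArg (CohTop.push g).map S.toCycles_i).symm.trans
        (CategoryTheory.Functor.map_comp (CohTop.push g) S.toCycles S.iCycles))
    refine (Category.assoc _ _ _).symm.trans
      ((congrArg (fun φ => φ ≫ (CohTop.push g).map S.homologyπ) e).trans ?_)
    exact (CategoryTheory.Functor.map_comp (CohTop.push g) S.toCycles S.homologyπ).symm.trans
      ((congrArg (CohTop.push g).map S.toCycles_comp_homologyπ).trans
        ((CohTop.push g).map_zero _ _))
  let c : S'.homology ⟶ (CohTop.push g).obj S.homology :=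
    (S'.homologyIsCokernel.desc (CokernelCofork.ofπ _ hw))
  have hc : S'.homologyπ ≫ c = l ≫ (CohTop.push g).map S.homologyπ :=
    Cofork.IsColimit.π_desc S'.homologyIsCokernel
  have : IsIso c := by
    refine isIso_of_bijective_basis c P hP fun V hV => ?_
    let θ' := AugCx.secEquiv D' (hfg V hV) (hA.acyclicOn _) hi
    let θ := AugCx.secEquiv D (hf V hV) (hA.acyclicOn _) hi
    have key : ∀ s, θ (c.hom.app (op V) s) = θ' s := fun s => by
      obtain ⟨z, rfl⟩ := AugCx.π_surjective D' (hfg V hV) s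
      have e1 : c.hom.app (op V) (D'.π.hom.app (op V) z) =
          D.π.hom.app (op ((Opens.map g).obj V)) (l.hom.app (op V) z) :=
        congrArg (fun φ : S'.cycles ⟶ (CohTop.push g).obj S.homology => φ.hom.app (op V) z) hc
      rw [e1]
      refine (AugCx.secEquiv_π D (hf V hV) (hA.acyclicOn _) hi _).trans
        (Eq.trans ?_ (AugCx.secEquiv_π D' (hfg V hV) (hA.acyclicOn _) hi z).symm)
      obtain ⟨a, ha⟩ := R.exists_cycle _ (D'.g_i V z)
      refine (R.cls_eq a _ (D.g_i ((Opens.map g).obj V) (l.hom.app (op V) z)) ?_).trans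
        (R.cls_eq a _ (D'.g_i V z) ha).symm
      exact ha.trans (congrArg
        (fun φ : S'.cycles ⟶ (CohTop.push g).obj S.X₂ => φ.hom.app (op V) z) hl).symm
    refine ⟨fun s t e => θ'.injective ?_, fun t => ⟨θ'.symm (θ t), θ.injective ?_⟩⟩
    · rw [← key, ← key, e]
    · rw [key, AddEquiv.apply_symm_apply]
  exact ⟨asIso c⟩

open AlgebraicGeometry in
/-- `R^p (g ∘ f)_* M ≅ g_* R^p f_* M` for `g` affine and `f` qcqs. -/
theorem nonempty_rpush_comp_iso {X Y Z : Scheme.{u}} (f : X ⟶ Y) (g : Y ⟶ Z) [QuasiCompact f]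
    [QuasiSeparated f] [IsAffineHom g] {M : X.Modules} (hM : Coh.IsQCoh M) (p : ℕ) :
    Nonempty ((CohTop.Rpush ((f ≫ g).base : sp X ⟶ sp Z) p).obj ((abF X).obj M) ≅
      (CohTop.push (g.base : sp Y ⟶ sp Z)).obj
        ((CohTop.Rpush (f.base : sp X ⟶ sp Y) p).obj ((abF X).obj M))) := by
  let I := injectiveResolution ((abF X).obj M)
  have hR : (augOfInj I).IsFlasqueRes := fun n =>
    have : Injective ((augOfInj I).K.X n) := I.injective n
    isFlasque_of_injective _
  let φ : sp X ⟶ sp Y := f.base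
  let ψ : sp Y ⟶ sp Z := g.base
  obtain ⟨e⟩ := nonempty_homology_push_comp_iso (augOfInj I) φ ψ ((ComplexShape.up ℕ).prev p) p rfl hR
    (fun V : Opens (sp Z) => IsAffineOpen (V : Z.Opens))
    (fun W y hy => by
      obtain ⟨V, hV, hyV, hVW⟩ := Opens.isBasis_iff_nbhd.1 Z.isBasis_affineOpens (U := W) hy
      exact ⟨V, hV, hyV, hVW⟩)
    (fun V hV => secGood_isAffineOpen f hM (augOfInj I) hR rfl (hV.preimage g))
    (fun V hV => secGood_isAffineOpen (f ≫ g) hM (augOfInj I) hR rfl hV)
  let iso := fun {W : TopCat.{u}} (h : sp X ⟶ W) =>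
    I.isoRightDerivedObj (CohTop.push h) p ≪≫ ShortComplex.homologyMapIso
      ((((CohTop.push h).mapHomologicalComplex (ComplexShape.up ℕ)).obj I.cocomplex).isoSc' _ p
        (p + 1) rfl (CochainComplex.next ℕ p))
  exact ⟨iso (φ ≫ ψ) ≪≫ e ≪≫ (CohTop.push ψ).mapIso (iso φ).symm⟩

end Groth.Agent.CohFound
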