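import Groth.Agent.Lib.CohFound.Basic
import Mathlib.Topology.Sheaves.Flasque

/-!
# Flasque sheaves are acyclic
-/

universe u

open CategoryTheory TopologicalSpace Opposite CategoryTheory.Limits Abelian

namespace Groth.Agent.CohFound

variable {X : TopCat.{u}}

instance mono_freeFunctor_map {U V : Opens X} (i : V ⟶ U) : Mono ((freeFunctor X).map i) := by
  have h1 : Mono i := ⟨fun _ _ _ => Subsingleton.elim _ _⟩
  have h2 : Mono (yoneda.map i) := inferInstance
  have h3 : Mono (((Functor.whiskeringRight _ _ _).obj AddCommGrpCat.free.{u}).map (yoneda.map i)) := by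
    have : ∀ W, Mono ((((Functor.whiskeringRight _ _ _).obj AddCommGrpCat.free.{u}).map
        (yoneda.map i)).app W) := fun W =>
      inferInstanceAs (Mono (AddCommGrpCat.free.map ((yoneda.map i).app W)))
    exact NatTrans.mono_of_mono_app _
  exact (presheafToSheaf _ _).map_mono
    (((Functor.whiskeringRight _ _ _).obj AddCommGrpCat.free.{u}).map (yoneda.map i))

lemma flasque_surjective (F : CohTop.Ab X) [TopCat.Sheaf.IsFlasque F] {U V : Opens X} (h : V ≤ U) :
    Function.Surjective (F.obj.map (homOfLE h).op) :=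
  (AddCommGrpCat.epi_iff_surjective _).1 (TopCat.Presheaf.IsFlasque.epi (homOfLE h).op)

lemma isFlasque_mk (F : CohTop.Ab X)
    (h : ∀ (U V : Opens X) (h : V ≤ U), Function.Surjective (F.obj.map (homOfLE h).op)) :
    TopCat.Sheaf.IsFlasque F where
  epi {U V} i := by
    rw [AddCommGrpCat.epi_iff_surjective]
    have hi : i = (homOfLE (leOfHom i.unop)).op := Quiver.Hom.unop_inj (Subsingleton.elim _ _)
    rw [hi]
    exact h U.unop V.unop (leOfHom i.unop)

instance isFlasque_of_injective (I : CohTop.Ab X) [Injective I] : TopCat.Sheaf.IsFlasque I :=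
  isFlasque_mk I fun U V h s => by
    refine ⟨freeHomAddEquiv U I (Injective.factorThru ((freeHomAddEquiv V I).symm s)
      ((freeFunctor X).map (homOfLE h))), ?_⟩
    rw [← freeHomAddEquiv_map_comp, Injective.comp_factorThru, AddEquiv.apply_symm_apply]

/-- Sections over `U` surject onto sections of the quotient by a flasque subsheaf. -/
lemma surjective_app_of_flasque {S : ShortComplex (CohTop.Ab X)} (hS : S.ShortExact)
    [TopCat.Sheaf.IsFlasque S.X₁] (U : Opens X) : Function.Surjective (S.g.hom.app (op U)) :=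
  (AddCommGrpCat.epi_iff_surjective _).1 (TopCat.Sheaf.IsFlasque.epi_of_shortExact hS)

/-- The first connecting map is zero as soon as sections surject. -/
lemma delta_eq_zero_of_surjective {S : ShortComplex (CohTop.Ab X)} (hS : S.ShortExact)
    (U : Opens X) (h : Function.Surjective (S.g.hom.app (op U))) (x : Hc S.X₃ 0 U) :
    delta hS 0 U x = 0 := by
  obtain ⟨t, ht⟩ := h (hc0 S.X₃ U x)
  have hx : x = mp S.g 0 U ((hc0 S.X₂ U).symm t) := by
    apply (hc0 S.X₃ U).injective
    rw [hc0_mp, AddEquiv.apply_symm_apply, ht]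
  rw [hx, delta_mp]

/-- A flasque sheaf has no higher cohomology on any open. -/
theorem subsingleton_hc_of_isFlasque (F : CohTop.Ab X) [TopCat.Sheaf.IsFlasque F] (n : ℕ)
    (U : Opens X) : Subsingleton (Hc F (n + 1) U) := by
  induction n generalizing F with
  | zero =>
    refine subsingleton_of_forall_eq 0 fun x => ?_
    obtain ⟨c, rfl⟩ := exact₁ (injSC_shortExact F) 0 U x (Subsingleton.elim _ _)
    have : TopCat.Sheaf.IsFlasque (injSC F).X₁ := inferInstanceAs (TopCat.Sheaf.IsFlasque F)
    exact delta_eq_zero_of_surjective (injSC_shortExact F) U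
      (surjective_app_of_flasque (injSC_shortExact F) U) c
  | succ n ih =>
    refine subsingleton_of_forall_eq 0 fun x => ?_
    obtain ⟨c, rfl⟩ := exact₁ (injSC_shortExact F) (n + 1) U x (Subsingleton.elim _ _)
    have : TopCat.Sheaf.IsFlasque (injSC F).X₁ := inferInstanceAs (TopCat.Sheaf.IsFlasque F)
    have : TopCat.Sheaf.IsFlasque (injSC F).X₂ :=
      isFlasque_of_injective (Injective.under F)
    have := TopCat.Sheaf.IsFlasque.of_shortExact_of_isFlasque₁₂ (injSC_shortExact F)
    have := ih (injSC F).X₃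
    rw [Subsingleton.elim c 0, map_zero]

/-- Cohomology classes of positive degree vanish locally. -/
theorem exists_cover_rs_eq_zero (F : CohTop.Ab X) (U : Opens X) (n : ℕ) (ξ : Hc F (n + 1) U)
    (x : X) (hx : x ∈ U) : ∃ (V : Opens X) (h : V ≤ U), x ∈ V ∧ rs F (n + 1) h ξ = 0 := by
  induction n generalizing F U with
  | zero =>
    obtain ⟨c, rfl⟩ := exact₁ (injSC_shortExact F) 0 U ξ (Subsingleton.elim _ _)
    have hloc : TopCat.Presheaf.IsLocallySurjective (injSC F).g.hom :=
      (TopCat.Sheaf.isLocallySurjective_iff_epi (injSC F).g).mpr (injSC_shortExact F).epi_g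
    obtain ⟨V, hV, ⟨t, ht⟩, hxV⟩ :=
      (TopCat.Presheaf.isLocallySurjective_iff (injSC F).g.hom).mp hloc U (hc0 _ U c) x hx
    refine ⟨V, hV, hxV, ?_⟩
    refine (delta_rs (injSC_shortExact F) 0 hV c).symm.trans ?_
    obtain ⟨t', ht'⟩ := (hc0 (injSC F).X₂ V).surjective t
    have hc : rs (injSC F).X₃ 0 hV c = mp (injSC F).g 0 V t' := by
      apply (hc0 (injSC F).X₃ V).injective
      rw [hc0_rs, hc0_mp, ht', ht]
      rfl
    rw [hc, delta_mp]
  | succ n ih =>
    obtain ⟨c, rfl⟩ := exact₁ (injSC_shortExact F) (n + 1) U ξ (Subsingleton.elim _ _)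
    obtain ⟨V, hV, hxV, hc⟩ := ih (injSC F).X₃ U c hx
    exact ⟨V, hV, hxV, (delta_rs (injSC_shortExact F) (n + 1) hV c).symm.trans (by rw [hc, map_zero])⟩

end Groth.Agent.CohFound
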