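import Groth.Agent.Lib.CohFound.ModAb
import Groth.Agent.Lib.CohFound.Flasque
import Mathlib.Algebra.Category.ModuleCat.Presheaf.Generator
import Mathlib.Algebra.Category.ModuleCat.Presheaf.Sheafification

/-!
# Injective `O_X`-modules are flasque
-/

set_option maxHeartbeats 400000

universe u

open CategoryTheory TopologicalSpace Opposite CategoryTheory.Limits AlgebraicGeometry

namespace Groth.Agent.CohFound

section Site

variable {C : Type u} [Preorder C] {J : GrothendieckTopology C} (R : Sheaf J RingCat.{u})
  [HasWeakSheafify J AddCommGrpCat.{u}] [J.WEqualsLocallyBijective AddCommGrpCat.{u}]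
  [HasSheafify J AddCommGrpCat.{u}]

omit [HasWeakSheafify J AddCommGrpCat.{u}] [J.WEqualsLocallyBijective AddCommGrpCat.{u}]
  [HasSheafify J AddCommGrpCat.{u}] in
lemma mono_free_map {U V : C} (h : V ≤ U) :
    Mono ((PresheafOfModules.free R.obj).map (yoneda.map (homOfLE h))) := by
  have : ∀ W, Mono ((PresheafOfModules.toPresheaf R.obj).map
      ((PresheafOfModules.free R.obj).map (yoneda.map (homOfLE h))) |>.app W) := by
    intro W
    refine (AddCommGrpCat.mono_iff_injective _).2 ?_
    exact Finsupp.mapDomain_injective (fun a b _ => Subsingleton.elim (α := W.unop ⟶ V) a b)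
  have : Mono ((PresheafOfModules.toPresheaf R.obj).map
      ((PresheafOfModules.free R.obj).map (yoneda.map (homOfLE h)))) :=
    NatTrans.mono_of_mono_app _
  exact (PresheafOfModules.toPresheaf R.obj).mono_of_mono_map this

/-- An injective sheaf of modules has surjective restrictions. -/
theorem surjective_map_of_injective (I : SheafOfModules.{u} R) (hI : Injective I) {U V : C}
    (h : V ≤ U) (s : I.val.obj (op V)) :
    ∃ t : I.val.obj (op U), I.val.map (homOfLE h).op t = s := by
  let L := PresheafOfModules.sheafification.{u} (𝟙 R.obj)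
  let adj := PresheafOfModules.sheafificationAdjunction.{u} (𝟙 R.obj)
  have := mono_free_map R h
  let i := L.map ((PresheafOfModules.free R.obj).map (yoneda.map (homOfLE h)))
  have : Mono i := L.map_mono _
  let a : (PresheafOfModules.free R.obj).obj (yoneda.obj V) ⟶ I.val :=
    PresheafOfModules.freeYonedaEquiv.symm s
  let b := Injective.factorThru ((adj.homEquiv _ I).symm a) i
  let c : (PresheafOfModules.free R.obj).obj (yoneda.obj U) ⟶ I.val := adj.homEquiv _ I b
  have hc : (PresheafOfModules.free R.obj).map (yoneda.map (homOfLE h)) ≫ c = a := by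
    refine (adj.homEquiv_naturality_left _ _).symm.trans ?_
    exact (congrArg (adj.homEquiv _ _) (Injective.comp_factorThru _ _)).trans
      (Equiv.apply_symm_apply _ _)
  refine ⟨PresheafOfModules.freeYonedaEquiv c, ?_⟩
  have h1 := PresheafOfModules.freeYonedaEquiv_symm_app (M := I.val) V s
  change a.app (op V) (ModuleCat.freeMk (𝟙 V)) = s at h1
  refine Eq.trans ?_ h1
  rw [← hc]
  refine Eq.trans (PresheafOfModules.naturality_apply c (homOfLE h).op (ModuleCat.freeMk (𝟙 U))).symm ?_
  refine congrArg (c.app (op V)) ?_
  erw [ModuleCat.freeDesc_apply, ModuleCat.free_map_apply]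
  exact congrArg ModuleCat.freeMk (Subsingleton.elim (α := V ⟶ U) _ _)

end Site

variable {X : Scheme.{u}}

theorem isFlasque_abF_injective (I : X.Modules) [hI : Injective I] :
    TopCat.Sheaf.IsFlasque ((abF X).obj I) :=
  isFlasque_mk _ fun _ _ h s => surjective_map_of_injective X.ringCatSheaf I hI h s

end Groth.Agent.CohFound
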