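import Groth.Agent.Lib.CohFound.RpushSheafify
import Groth.Agent.Lib.CohFound.ModFlasque
import Mathlib.CategoryTheory.Abelian.Injective.Resolution
import Mathlib.CategoryTheory.Abelian.RightDerived

/-!
# Higher direct images are sheafified cohomology presheaves
-/

set_option maxHeartbeats 400000

universe u

open CategoryTheory TopologicalSpace Opposite CategoryTheory.Limits Abelian AlgebraicGeometry

namespace Groth.Agent.CohFound

variable {X Y : TopCat.{u}}

/-- An injective resolution as an augmented complex. -/
noncomputable def augOfInj {F : CohTop.Ab X} (I : InjectiveResolution F) : AugCx F where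
  K := I.cocomplex
  ι := I.ι.f 0
  w := I.ι_f_zero_comp_complex_d
  mono := mono_of_isLimit_fork I.isLimitKernelFork
  exact₀ := I.exact₀
  exact_succ := I.exact_succ

lemma acyclicOn_augOfInj {F : CohTop.Ab X} (I : InjectiveResolution F) (U : Opens X) :
    (augOfInj I).AcyclicOn U := fun q j =>
  have : Injective ((augOfInj I).K.X q) := I.injective q
  subsingleton_hc_injective _ j U

/-- `Rⁿ f_* F = (V ↦ Hⁿ(f⁻¹ V, F))^#`. -/
theorem nonempty_rpush_iso_shPre (f : X ⟶ Y) (F : CohTop.Ab X) (n : ℕ) :
    Nonempty ((CohTop.Rpush f n).obj F ≅ shPre (hcPrePush f F n)) := by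
  obtain ⟨e⟩ := AugCx.nonempty_homology_push_iso (R := augOfInj (injectiveResolution F)) (f := f)
    (fun V => acyclicOn_augOfInj _ _) n
  exact ⟨(injectiveResolution F).isoRightDerivedObj (CohTop.push f) n ≪≫ e⟩

section Modules

variable {A B : Scheme.{u}}

/-- An injective resolution of a module gives an augmented complex of the underlying sheaves. -/
noncomputable def augOfModInj {M : A.Modules} (I : InjectiveResolution M) :
    AugCx ((abF A).obj M) where
  K := ((abF A).mapHomologicalComplex (ComplexShape.up ℕ)).obj I.cocomplex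
  ι := (abF A).map (I.ι.f 0)
  w := (CategoryTheory.Functor.map_comp (abF A) _ _).symm.trans
    ((congrArg (abF A).map I.ι_f_zero_comp_complex_d).trans ((abF A).map_zero _ _))
  mono :=
    have h : Mono (I.ι.f 0) := mono_of_isLimit_fork I.isLimitKernelFork
    @Functor.map_mono _ _ _ _ (abF A) inferInstance _ _ (I.ι.f 0) h
  exact₀ := I.exact₀.map (abF A)
  exact_succ n := (I.exact_succ n).map (abF A)

lemma acyclicOn_augOfModInj {M : A.Modules} (I : InjectiveResolution M) (U : Opens (sp A)) :
    (augOfModInj I).AcyclicOn U := fun q j => by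
  have : TopCat.Sheaf.IsFlasque ((augOfModInj I).K.X q) :=
    isFlasque_abF_injective (hI := I.injective q) (I.cocomplex.X q)
  exact subsingleton_hc_of_isFlasque _ j U

/-- `Rⁿ g_* M` of modules has underlying sheaf `(V ↦ Hⁿ(g⁻¹ V, M))^#`. -/
theorem nonempty_abF_rpush_iso_shPre (g : A ⟶ B) [HasInjectiveResolutions A.Modules]
    (M : A.Modules) (n : ℕ) :
    Nonempty ((abF B).obj (((Scheme.Modules.pushforward g).rightDerived n).obj M) ≅
      shPre (hcPrePush (g.base : sp A ⟶ sp B) ((abF A).obj M) n)) := by
  let I := injectiveResolution M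
  obtain ⟨e⟩ := AugCx.nonempty_homology_push_iso (R := augOfModInj I) (f := (g.base : sp A ⟶ sp B))
    (fun V => acyclicOn_augOfModInj _ _) n
  let K := ((Scheme.Modules.pushforward g).mapHomologicalComplex (ComplexShape.up ℕ)).obj I.cocomplex
  let K' := ((CohTop.push (g.base : sp A ⟶ sp B)).mapHomologicalComplex (ComplexShape.up ℕ)).obj
    (augOfModInj I).K
  let φ : (K.sc n).map (abF B) ≅ K'.sc n := ShortComplex.isoMk (Iso.refl _) (Iso.refl _) (Iso.refl _)
    (by apply CategoryTheory.Sheaf.hom_ext; apply NatTrans.ext; funext V; rfl)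
    (by apply CategoryTheory.Sheaf.hom_ext; apply NatTrans.ext; funext V; rfl)
  exact ⟨(abF B).mapIso (I.isoRightDerivedObj (Scheme.Modules.pushforward g) n) ≪≫
    ((K.sc n).mapHomologyIso (abF B)).symm ≪≫ ShortComplex.homologyMapIso φ ≪≫ e⟩

end Modules

end Groth.Agent.CohFound
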