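import Groth.Agent.Lib.CohFound.BasisAct
import Groth.Agent.Lib.ModM1.Push

/-!
# Higher direct images to an affine scheme: sections over basic opens are cohomology
-/

set_option maxHeartbeats 400000

universe u

open CategoryTheory TopologicalSpace Opposite CategoryTheory.Limits Abelian AlgebraicGeometry

namespace Groth.Agent.CohFound

variable {X : Scheme.{u}} {A : CommRingCat.{u}} (f : X ⟶ Spec A)

/-- Functions on the base acting upstairs. -/
noncomputable abbrev baseHom : A →+* Γ(X, ⊤) := ((Scheme.ΓSpecIso A).inv ≫ f.appTop).hom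

lemma preimage_bo (g : A) :
    (Opens.map (f.base : sp X ⟶ sp (Spec A))).obj (M1.bo g) = gOpen (baseHom f g) := by
  change f ⁻¹ᵁ M1.bo g = _
  rw [← M1.basicOpen_gs, Scheme.preimage_basicOpen_top]
  rfl

/-- The localising action of the functions on the base. -/
noncomputable def specActLoc [CompactSpace X] [QuasiSeparatedSpace X] (M : X.Modules)
    [M.IsQuasicoherent] (q : ℕ) :
    ActLoc (f.base : sp X ⟶ sp (Spec A)) ((abF X).obj M) A q where
  e a := gEnd M (baseHom f a)
  h1 := (congrArg (gEnd M) (map_one (baseHom f))).trans (Coh.smulAb_one M)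
  hm r s := (congrArg (gEnd M) (map_mul (baseHom f) r s)).trans (Coh.smulAb_mul M _ _)
  h0 := (congrArg (gEnd M) (map_zero (baseHom f))).trans (Coh.smulAb_zero M)
  ha r s := (congrArg (gEnd M) (map_add (baseHom f) r s)).trans (Coh.smulAb_add M _ _)
  O g := M1.bo g
  mono := Iff.rfl
  mul := M1.bo_mul
  basis g W _ y hy := by
    obtain ⟨_, ⟨h, rfl⟩, hy', hle⟩ := Opens.isBasis_iff_nbhd.1 (M1.isBasis_bo (R := A)) hy
    exact ⟨h, hy', hle⟩
  iSup g h hh := hh
  compact g := PrimeSpectrum.isCompact_basicOpen g
  bij g := gMul_bijective M (baseHom f g) q (preimage_bo f g).le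
  inj g h := by
    have e : (fun k => gEnd M (baseHom f (h ^ k))) = fun k => gEnd M (baseHom f h ^ k) :=
      funext fun k => congrArg (gEnd M) (map_pow (baseHom f) h k)
    rw [e, preimage_bo f h]
    exact (locAll_of_isCompact M (baseHom f h)
      (U := (Opens.map (f.base : sp X ⟶ sp (Spec A))).obj (M1.bo g))
      (QuasiCompact.isCompact_preimage (f := f) _ (M1.bo g).isOpen
        (PrimeSpectrum.isCompact_basicOpen g)) q).1
  surj g h := by
    have e : (fun k => gEnd M (baseHom f (h ^ k))) = fun k => gEnd M (baseHom f h ^ k) :=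
      funext fun k => congrArg (gEnd M) (map_pow (baseHom f) h k)
    rw [e, preimage_bo f h]
    exact (locAll_of_isCompact M (baseHom f h)
      (U := (Opens.map (f.base : sp X ⟶ sp (Spec A))).obj (M1.bo g))
      (QuasiCompact.isCompact_preimage (f := f) _ (M1.bo g).isOpen
        (PrimeSpectrum.isCompact_basicOpen g)) q).2

/-- For any flasque resolution, sections over basic opens are good. -/
theorem secGood_bo [CompactSpace X] [QuasiSeparatedSpace X] (M : X.Modules) [M.IsQuasicoherent]
    (R : AugCx ((abF X).obj M)) (hA : ∀ U, R.AcyclicOn U) {q i : ℕ}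
    (hi : (ComplexShape.up ℕ).prev q = i) (g : A) :
    SecGood (R.pushSC (f.base : sp X ⟶ sp (Spec A)) i q) (M1.bo g) :=
  (specActLoc f M q).secGood R (fun _ => hA _) hi g

end Groth.Agent.CohFound
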