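import Groth.Agent.Lib.CohFound.AugRes
import Groth.Agent.Lib.CohFound.SecSpec
import Groth.Agent.Lib.CohFound.RpushHc

/-!
# Over affine opens, sections of higher direct images are cohomology
-/

set_option maxHeartbeats 400000

universe u

open CategoryTheory TopologicalSpace Opposite CategoryTheory.Limits AlgebraicGeometry

namespace Groth.Agent.CohFound

variable {X Y : Scheme.{u}}

/-- For a qcqs morphism and a quasi-coherent module, any flasque resolution of the underlying sheaf
has good sections over every affine open of the target. -/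
theorem secGood_isAffineOpen (f : X ⟶ Y) [QuasiCompact f] [QuasiSeparated f] {M : X.Modules}
    (hM : Coh.IsQCoh M) (R : AugCx ((abF X).obj M)) (hR : R.IsFlasqueRes) {q i : ℕ}
    (hi : (ComplexShape.up ℕ).prev q = i) {U : Y.Opens} (hU : IsAffineOpen U) :
    SecGood (R.pushSC (f.base : sp X ⟶ sp Y) i q) U := by
  have : IsAffine U := hU
  have : CompactSpace (f ⁻¹ᵁ U : X.Opens) :=
    isCompact_iff_compactSpace.mp (QuasiCompact.isCompact_preimage _ U.isOpen hU.isCompact)
  have : QuasiSeparatedSpace (f ⁻¹ᵁ U : X.Opens) := quasiSeparatedSpace_of_quasiSeparated (f ∣_ U)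
  have := M1.isQCoh_restrict hM (f ⁻¹ᵁ U).ι
  have H₀ := isPullback_morphismRestrict f U
  have H : IsPullback (f ∣_ U ≫ hU.isoSpec.hom) (f ⁻¹ᵁ U).ι hU.fromSpec f :=
    H₀.of_iso (Iso.refl _) hU.isoSpec (Iso.refl _) (Iso.refl _) (by simp) (by simp)
      (by simp [← IsAffineOpen.isoSpec_inv_ι]) (by simp)
  let j := isOpenEmbedding_base hU.fromSpec
  let k := isOpenEmbedding_base (f ⁻¹ᵁ U).ι
  have h := secGood_bo (f ∣_ U ≫ hU.isoSpec.hom) (M.restrict (f ⁻¹ᵁ U).ι)
    ((R.restr k).congr (abFRestrictIso _ M))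
    (AugCx.IsFlasqueRes.acyclicOn (AugCx.isFlasqueRes_congr (AugCx.isFlasqueRes_restr k hR) _))
    hi 1
  have h2 := AugCx.secGood_of_restr k R j
    (f := (f.base : sp X ⟶ sp Y)) (f' := ((f ∣_ U ≫ hU.isoSpec.hom).base : sp _ ⟶ sp _))
    (M1.image_preimage_eq H) (a := i) (q := q) (V' := M1.bo 1) h
  have e : j.isOpenMap.functor.obj (M1.bo (1 : Γ(Y, U))) = (U : Opens (sp Y)) := by
    change hU.fromSpec ''ᵁ M1.bo (1 : Γ(Y, U)) = U
    rw [M1.bo_one, M1.fromSpec_image_top hU]
  exact e ▸ h2

/-- Over an affine open, sections of the homology of the pushed resolution are cohomology. -/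
theorem nonempty_sections_rpushAb (f : X ⟶ Y) [QuasiCompact f] [QuasiSeparated f] {M : X.Modules}
    (hM : Coh.IsQCoh M) (q : ℕ) {U : Y.Opens} (hU : IsAffineOpen U) :
    Nonempty (((CohTop.Rpush (f.base : sp X ⟶ sp Y) q).obj ((abF X).obj M)).obj.obj (op U) ≃+
      Hc ((abF X).obj M) q ((Opens.map (f.base : sp X ⟶ sp Y)).obj U)) := by
  let I := injectiveResolution ((abF X).obj M)
  have hR : (augOfInj I).IsFlasqueRes := fun n =>
    have : Injective ((augOfInj I).K.X n) := I.injective n
    isFlasque_of_injective _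
  let S := (augOfInj I).pushSC (f.base : sp X ⟶ sp Y) ((ComplexShape.up ℕ).prev q) q
  let e : (CohTop.Rpush (f.base : sp X ⟶ sp Y) q).obj ((abF X).obj M) ≅ S.homology :=
    I.isoRightDerivedObj (CohTop.push (f.base : sp X ⟶ sp Y)) q ≪≫
      ShortComplex.homologyMapIso ((((CohTop.push (f.base : sp X ⟶ sp Y)).mapHomologicalComplex
        (ComplexShape.up ℕ)).obj I.cocomplex).isoSc' _ q (q + 1) rfl (CochainComplex.next ℕ q))
  exact ⟨((((sheafToPresheaf _ _).mapIso e).app (op (U : Opens (sp Y)))).addCommGroupIsoToAddEquiv).trans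
    (AugCx.secEquiv (HData.ofHomology S) (secGood_isAffineOpen f hM (augOfInj I) hR rfl hU)
      (hR.acyclicOn _) rfl)⟩

end Groth.Agent.CohFound
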