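import Groth.Agent.Lib.CohFound.ProperModel
import Groth.Agent.Lib.CohFound.SecAffine
import Groth.Agent.Lib.CohFound.RpushComp

/-!
# Vanishing of higher direct images for relatively ample invertible modules
-/

set_option autoImplicit false

universe u

open CategoryTheory TopologicalSpace Opposite CategoryTheory.Limits AlgebraicGeometry

namespace Groth.Agent.CohFound

/-- Serre vanishing for all large powers of an ample invertible module. -/
theorem exists_vanishing_all {X : Scheme.{u}} {R : Type u} [CommRing R] [IsNoetherianRing R]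
    (q : X ⟶ Spec (CommRingCat.of R)) [IsProper q] {L : X.Modules} (hL : CohB1.IsAmple L)
    {M : X.Modules} (hM : Coh.IsCoh M) : ∃ n₀ : ℕ, ∀ n, n₀ ≤ n → ∀ p : ℕ, 0 < p →
      Subsingleton (Hc ((abF X).obj (CohB1.tensorMod M (CohB1.tensorPow L n))) p ⊤) := by
  classical
  obtain ⟨d, hd, hvan⟩ := exists_vanishing_of_isAmple q hL
  choose k₀ hk₀ using fun r : Fin d => hvan (CohB1.tensorMod M (CohB1.tensorPow L r))
    (isCoh_tensor hM (isCoh_of_isFinLocFree
      (M2.isFinLocFree_of_isInvertible (Amp.isInvertible_tensorPow hL.1 _))))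
  refine ⟨d * (Finset.univ.sup k₀ + 1), fun n hn p hp => ?_⟩
  let r : Fin d := ⟨n % d, Nat.mod_lt _ hd⟩
  have hk : k₀ r ≤ n / d := (Finset.le_sup (Finset.mem_univ r)).trans
    ((Nat.le_succ _).trans ((Nat.le_div_iff_mul_le hd).2 (by rw [mul_comm]; exact hn)))
  have e : CohB1.tensorMod M (CohB1.tensorPow L n) ≅
      CohB1.tensorMod (CohB1.tensorMod M (CohB1.tensorPow L r)) (CohB1.tensorPow L (d * (n / d))) :=
    M2.tensorIso (Iso.refl M) (eqToIso (by rw [show (r : ℕ) + d * (n / d) = n from Nat.mod_add_div n d]) ≪≫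
      M2.tensorPowAdd L r (d * (n / d))) ≪≫ (M2.tensorAssoc _ _ _).symm
  exact subsingleton_hc_of_iso e.symm p ⊤ (hk₀ r _ hk p hp)

variable {X S : Scheme.{u}}

/-- A sheaf vanishing on a basis is zero. -/
theorem isZero_of_subsingleton_basis {T : TopCat.{u}} (A : CohTop.Ab T) (P : Opens T → Prop)
    (hP : ∀ (W : Opens T), ∀ y ∈ W, ∃ V, P V ∧ y ∈ V ∧ V ≤ W)
    (h : ∀ V, P V → Subsingleton (A.obj.obj (op V))) : IsZero A := by
  have : IsIso (0 : A ⟶ A) := isIso_of_bijective_basis 0 P hP fun V hV =>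
    ⟨fun a b _ => @Subsingleton.elim _ (h V hV) a b, fun b => ⟨b, @Subsingleton.elim _ (h V hV) _ _⟩⟩
  exact (IsZero.iff_id_eq_zero A).2 (by rw [← IsIso.hom_inv_id (0 : A ⟶ A), zero_comp])

/-- Higher direct images vanish when cohomology vanishes over the members of an affine cover. -/
theorem isZero_rpushAb_of_cover (f : X ⟶ S) [QuasiCompact f] [QuasiSeparated f] (N : X.Modules)
    (hN : Coh.IsQCoh N) {ι : Type u} (V : ι → S.Opens) (hV : ∀ i, IsAffineOpen (V i))
    (hcov : ∀ y : S, ∃ i, y ∈ V i) (p : ℕ)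
    (h : ∀ i, Subsingleton (Hc ((abF ((f ⁻¹ᵁ V i : X.Opens) : Scheme.{u})).obj
      (N.restrict (f ⁻¹ᵁ V i).ι)) p ⊤)) :
    IsZero ((Coh.RpushAb f p).obj (Coh.toAb N)) := by
  change IsZero ((CohTop.Rpush (f.base : sp X ⟶ sp S) p).obj ((abF X).obj N))
  refine isZero_of_subsingleton_basis _ (fun U => ∃ (i : ι) (g : Γ(S, V i)), S.basicOpen g = U)
    (fun W y hy => ?_) ?_
  · obtain ⟨i, hi⟩ := hcov y
    obtain ⟨g, hg, hyg⟩ := (hV i).exists_basicOpen_le ⟨y, hy⟩ hi
    exact ⟨_, ⟨i, g, rfl⟩, hyg, hg⟩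
  · rintro U ⟨i, g, rfl⟩
    have : CompactSpace (f ⁻¹ᵁ V i : X.Opens) :=
      isCompact_iff_compactSpace.mp (QuasiCompact.isCompact_preimage _ (V i).isOpen (hV i).isCompact)
    have : IsAffine (V i) := hV i
    have : QuasiSeparatedSpace (f ⁻¹ᵁ V i : X.Opens) := quasiSeparatedSpace_of_quasiSeparated (f ∣_ V i)
    have hv := subsingleton_hc_basicOpen N hN (f ⁻¹ᵁ V i) (f.app (V i) g) p (h i)
    rw [← Scheme.preimage_basicOpen] at hv
    obtain ⟨e⟩ := nonempty_sections_rpushAb f hN p ((hV i).basicOpen g)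
    exact @Equiv.subsingleton _ _ e.toEquiv hv

/-- A relatively ample module kills higher direct images. -/
theorem exists_isZero_rpushAb (f : X ⟶ S) [IsProper f] [IsNoetherian S] (L : X.Modules)
    (hL : PicF.IsInvertible L)
    (ha : ∀ W : S.Opens, IsAffineOpen W → CohB1.IsAmple (L.restrict (f ⁻¹ᵁ W).ι))
    {M : X.Modules} (hM : Coh.IsCoh M) : ∃ n₀ : ℕ, ∀ n : ℕ, n₀ ≤ n → ∀ p : ℕ, 0 < p →
      IsZero ((Coh.RpushAb f p).obj (Coh.toAb (CohB1.tensorMod M (CohB1.tensorPow L n)))) := by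
  classical
  choose V hV hxV using fun x : S => exists_isAffineOpen_mem_and_subset (x := x) (U := ⊤) trivial
  obtain ⟨T, hT⟩ := isCompact_univ.elim_finite_subcover (fun x => (V x : Set S)) (fun x => (V x).isOpen)
    fun x _ => Set.mem_iUnion.2 ⟨x, (hxV x).1⟩
  have hloc : ∀ x : T, ∃ n₀ : ℕ, ∀ n, n₀ ≤ n → ∀ p : ℕ, 0 < p →
      Subsingleton (Hc ((abF ((f ⁻¹ᵁ V x.1 : X.Opens) : Scheme.{u})).obj
        ((CohB1.tensorMod M (CohB1.tensorPow L n)).restrict (f ⁻¹ᵁ V x.1).ι)) p ⊤) := fun x => by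
    have : IsNoetherianRing Γ(S, V x.1) := IsLocallyNoetherian.component_noetherian ⟨_, hV x.1⟩
    have : IsProper (f ∣_ V x.1) := inferInstance
    let W := f ⁻¹ᵁ V x.1
    let q : (W : Scheme.{u}) ⟶ Spec (CommRingCat.of Γ(S, V x.1)) := (f ∣_ V x.1) ≫ (hV x.1).isoSpec.hom
    have : IsProper q := inferInstance
    obtain ⟨n₀, hn₀⟩ := exists_vanishing_all q (ha _ (hV x.1)) (M := M.restrict W.ι)
      ⟨M1.isQCoh_restrict hM.1 W.ι, M1.isFT_restrict hM.2 W.ι⟩
    refine ⟨n₀, fun n hn p hp => subsingleton_hc_of_iso ?_ p ⊤ (hn₀ n hn p hp)⟩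
    exact M2.tensorIso ((Scheme.Modules.restrictFunctorIsoPullback W.ι).app M)
        (M2.tensorPowIso ((Scheme.Modules.restrictFunctorIsoPullback W.ι).app L) n ≪≫
          (M2.pullTensorPowIso W.ι L n).symm) ≪≫
      (M2.pullTensorIso W.ι M (CohB1.tensorPow L n)).symm ≪≫
        ((Scheme.Modules.restrictFunctorIsoPullback W.ι).app _).symm
  choose n₀ hn₀ using hloc
  refine ⟨Finset.univ.sup n₀, fun n hn p hp => ?_⟩
  refine isZero_rpushAb_of_cover f _ (M2.isQCoh_tensor hM.1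
    (Twist.isQCoh_of_isInvertible (Amp.isInvertible_tensorPow hL n))) (fun x : T => V x.1)
    (fun x => hV x.1) (fun y => ?_) p fun x => hn₀ x n ((Finset.le_sup (Finset.mem_univ x)).trans hn) p hp
  obtain ⟨x, hx, hy⟩ := Set.mem_iUnion₂.1 (hT (Set.mem_univ y))
  exact ⟨⟨x, hx⟩, hy⟩

end Groth.Agent.CohFound
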