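import Groth.Agent.Lib.Segre.Basic
import Mathlib.AlgebraicGeometry.IdealSheaf.Subscheme
import Mathlib.AlgebraicGeometry.Morphisms.Proper
import Mathlib.AlgebraicGeometry.ResidueField

/-!
# Chow's lemma at a point: a projective scheme mapping onto the closure of a point
-/

set_option autoImplicit false

universe u

open CategoryTheory CategoryTheory.Limits AlgebraicGeometry TopologicalSpace Opposite

set_option backward.isDefEq.respectTransparency false

namespace Groth.Agent.CohFound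

section Image

variable {W Z : Scheme.{u}} (u : W ⟶ Z) [QuasiCompact u]

/-- Functions on the scheme-theoretic image inject into functions on the source. -/
theorem toImage_app_injective' (U : u.image.Opens) : Function.Injective (u.toImage.app U) :=
  TopCat.Presheaf.app_injective_of_stalkFunctor_map_injective
    (F := u.image.sheaf) u.toImage.c U fun x _ => u.stalkFunctor_toImage_injective x

/-- The scheme-theoretic image of a reduced scheme is reduced. -/
theorem isReduced_image [IsReduced W] : IsReduced u.image :=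
  ⟨fun U => isReduced_of_injective (u.toImage.app U).hom (toImage_app_injective' u U)⟩

end Image

/-- A dominant morphism restricted over an open is dominant. -/
theorem isDominant_restrict {W Z : Scheme.{u}} (t : W ⟶ Z) [IsDominant t] (O : Z.Opens) :
    IsDominant (t ∣_ O) := by
  rw [isDominant_iff, DenseRange, dense_iff_inter_open]
  intro V hV hne
  obtain ⟨z, hz⟩ := hne
  obtain ⟨_, ⟨y, hy, rfl⟩, ⟨x, hx⟩⟩ := (dense_iff_inter_open.1 ((isDominant_iff t).1 ‹IsDominant t›))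
    (O.ι '' V) (O.ι.isOpenEmbedding.isOpenMap V hV) ⟨_, z, hz, rfl⟩
  have hxO : t x ∈ O := hx ▸ y.2
  refine ⟨(t ∣_ O) ⟨x, hxO⟩, ?_, ⟨x, hxO⟩, rfl⟩
  have : (t ∣_ O) ⟨x, hxO⟩ = y := Subtype.ext (by rw [morphismRestrict_base]; exact hx)
  rw [this]
  exact hy

section Chart

variable {K X' X S Pn : Scheme.{u}} (t : K ⟶ X') [IsDominant t] [IsReduced X'] (π : X' ⟶ X)
  (f₀ : X ⟶ S) [IsSeparated f₀] (b : Pn ⟶ S) [IsSeparated b] (q : X' ⟶ Pn) (hq : q ≫ b = π ≫ f₀)
  {U : X.Opens} {D : Pn.Opens} (c : (U : Scheme.{u}) ⟶ (D : Scheme.{u})) [IsClosedImmersion c]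
  (hcb : c ≫ D.ι ≫ b = U.ι ≫ f₀) (tU : K ⟶ (U : Scheme.{u})) (htU : tU ≫ U.ι = t ≫ π)
  (hr : t ≫ q = tU ≫ c ≫ D.ι)

include hq hcb htU hr in
/-- Over a chart the projection is determined. -/
theorem exists_chart_factor : ∃ g : ((q ⁻¹ᵁ D : X'.Opens) : Scheme.{u}) ⟶ (U : Scheme.{u}),
    g ≫ c = q ∣_ D ∧ g ≫ U.ι = (q ⁻¹ᵁ D).ι ≫ π := by
  let qi := q ∣_ D
  let O := q ⁻¹ᵁ D
  have : IsDominant (t ∣_ O) := isDominant_restrict t O
  have hqi : qi ≫ D.ι = O.ι ≫ q := morphismRestrict_ι _ _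
  have hto : (t ∣_ O) ≫ O.ι = (t ⁻¹ᵁ O).ι ≫ t := morphismRestrict_ι _ _
  let tl : (t ⁻¹ᵁ O : Scheme.{u}) ⟶ pullback qi c := pullback.lift (t ∣_ O) ((t ⁻¹ᵁ O).ι ≫ tU) (by
    rw [← cancel_mono D.ι, Category.assoc, hqi, reassoc_of% hto, hr, Category.assoc, Category.assoc])
  have : Surjective (pullback.fst qi c) := by
    refine ⟨fun z => ?_⟩
    have hcl : IsClosed (Set.range (pullback.fst qi c)) :=
      (pullback.fst qi c).isClosedEmbedding.isClosed_range
    have hsub : Set.range (t ∣_ O) ⊆ Set.range (pullback.fst qi c) := by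
      rintro _ ⟨y, rfl⟩
      exact ⟨tl y, by rw [← Scheme.Hom.comp_apply, pullback.lift_fst]⟩
    exact closure_minimal hsub hcl ((inferInstance : IsDominant (t ∣_ O)).denseRange z)
  have : IsIso (pullback.fst qi c) := isIso_of_isClosedImmersion_of_surjective _
  refine ⟨inv (pullback.fst qi c) ≫ pullback.snd _ _, ?_, ?_⟩
  · rw [Category.assoc, ← pullback.condition, IsIso.inv_hom_id_assoc]
  · refine ext_of_isDominant_of_isSeparated f₀ ?_ (t ∣_ O) ?_
    · simp only [Category.assoc]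
      rw [← hcb, ← pullback.condition_assoc, reassoc_of% hqi, hq, IsIso.inv_hom_id_assoc]
    · have h1 : (t ∣_ O) ≫ inv (pullback.fst qi c) = tl := by
        rw [IsIso.comp_inv_eq, pullback.lift_fst]
      rw [← Category.assoc, ← Category.assoc, h1, pullback.lift_snd, Category.assoc, htU, reassoc_of% hto]

include hq hcb htU hr in
/-- The preimage of the open of `X` maps into the chart. -/
theorem preimage_le_chart : π ⁻¹ᵁ U ≤ q ⁻¹ᵁ D := fun z hz => by
  have : IsDominant (t ∣_ π ⁻¹ᵁ U) := isDominant_restrict t _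
  have hto : (t ∣_ π ⁻¹ᵁ U) ≫ (π ⁻¹ᵁ U).ι = (t ⁻¹ᵁ π ⁻¹ᵁ U).ι ≫ t := morphismRestrict_ι _ _
  have hπW : (π ∣_ U) ≫ U.ι = (π ⁻¹ᵁ U).ι ≫ π := morphismRestrict_ι _ _
  have heq : (π ∣_ U) ≫ c ≫ D.ι = (π ⁻¹ᵁ U).ι ≫ q := by
    refine ext_of_isDominant_of_isSeparated b ?_ (t ∣_ π ⁻¹ᵁ U) ?_
    · simp only [Category.assoc, hcb, reassoc_of% hπW, hq]
    · have : (t ∣_ π ⁻¹ᵁ U) ≫ (π ∣_ U) = (t ⁻¹ᵁ π ⁻¹ᵁ U).ι ≫ tU := by
        rw [← cancel_mono U.ι, Category.assoc, hπW, reassoc_of% hto, Category.assoc, htU]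
      rw [← Category.assoc, this, reassoc_of% hto, hr, Category.assoc]
  have h3 : q z = D.ι (c ((π ∣_ U) ⟨z, hz⟩)) :=
    (congrArg (fun φ : ((π ⁻¹ᵁ U : X'.Opens) : Scheme.{u}) ⟶ _ => φ ⟨z, hz⟩) heq).symm
  show q z ∈ D
  exact h3.symm ▸ (c ((π ∣_ U) ⟨z, hz⟩)).2

end Chart

variable {A : Type u} [CommRing A] {X : Scheme.{u}}

/-- An affine scheme of finite type over `A` is closed in an open of some projective space. -/
theorem exists_chart_embedding {U : Scheme.{u}} [IsAffine U] (g : U ⟶ Spec (CommRingCat.of A))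
    [LocallyOfFiniteType g] :
    ∃ (n : ℕ) (D : (CohB1.ProjSpace n A).Opens) (c : U ⟶ (D : Scheme.{u})), IsClosedImmersion c ∧
      c ≫ D.ι ≫ CohB1.ProjSpace.toSpec n A = g := by
  classical
  letI : Algebra A Γ(U, ⊤) := ((Scheme.ΓSpecIso (CommRingCat.of A)).inv ≫ g.appTop).hom.toAlgebra
  have : Algebra.FiniteType A Γ(U, ⊤) := by
    have h1 : (g.appLE ⊤ ⊤ le_top).hom.FiniteType :=
      g.finiteType_appLE (isAffineOpen_top _) (isAffineOpen_top _) le_top
    have h2 := h1.comp (RingHom.FiniteType.of_surjective (Scheme.ΓSpecIso (CommRingCat.of A)).inv.hom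
      (ConcreteCategory.bijective_of_isIso (Scheme.ΓSpecIso (CommRingCat.of A)).inv).2)
    have e : g.appLE ⊤ ⊤ le_top = g.appTop := by simp [Scheme.Hom.appLE]
    rw [e] at h2
    exact RingHom.finiteType_algebraMap.1 h2
  obtain ⟨n, π, hπ⟩ := Algebra.FiniteType.iff_quotient_mvPolynomial''.1 this
  let e : Fin n ≃ {j : Fin (n + 1) // j ≠ 0} := finSuccAboveEquiv 0
  let π' : MvPolynomial {j : Fin (n + 1) // j ≠ 0} A →ₐ[A] Γ(U, ⊤) :=
    π.comp (MvPolynomial.renameEquiv A e.symm).toAlgHom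
  have hπ' : Function.Surjective π' := hπ.comp (MvPolynomial.renameEquiv A e.symm).surjective
  let cl : U ⟶ Spec (CommRingCat.of (MvPolynomial {j : Fin (n + 1) // j ≠ 0} A)) :=
    U.isoSpec.hom ≫ Spec.map (CommRingCat.ofHom π'.toRingHom)
  have : IsClosedImmersion (Spec.map (CommRingCat.ofHom π'.toRingHom)) :=
    IsClosedImmersion.spec_of_surjective _ hπ'
  have : IsClosedImmersion cl := inferInstance
  let ch := ProjSpace.chart n A 0
  refine ⟨n, ch.opensRange, cl ≫ ch.isoOpensRange.hom, inferInstance, ?_⟩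
  have hch : ch.isoOpensRange.hom ≫ ch.opensRange.ι = ch := by simp
  rw [Category.assoc, ← Category.assoc ch.isoOpensRange.hom, hch, ProjSpace.chart_toSpec]
  have h1 : CommRingCat.ofHom (MvPolynomial.C (σ := {j : Fin (n + 1) // j ≠ 0}) (R := A)) ≫
      CommRingCat.ofHom π'.toRingHom = (Scheme.ΓSpecIso (CommRingCat.of A)).inv ≫ g.appTop := by
    ext r
    exact π'.commutes r
  show (U.isoSpec.hom ≫ Spec.map (CommRingCat.ofHom π'.toRingHom)) ≫ _ = g
  rw [Category.assoc, ← Spec.map_comp, h1, Spec.map_comp, Scheme.isoSpec_hom, ← Category.assoc,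
    ← Scheme.toSpecΓ_naturality]
  simp

/-- Segre: one more factor. -/
theorem exists_proj_step {κ P : Scheme.{u}} {N m : ℕ} (j : P ⟶ CohB1.ProjSpace N A) [IsClosedImmersion j]
    (r' : κ ⟶ P) (r : κ ⟶ CohB1.ProjSpace m A)
    (h : r' ≫ j ≫ CohB1.ProjSpace.toSpec N A = r ≫ CohB1.ProjSpace.toSpec m A) :
    ∃ (Q : Scheme.{u}) (M : ℕ) (jQ : Q ⟶ CohB1.ProjSpace M A) (old : Q ⟶ P)
      (new : Q ⟶ CohB1.ProjSpace m A) (r'' : κ ⟶ Q), IsClosedImmersion jQ ∧
      old ≫ j ≫ CohB1.ProjSpace.toSpec N A = jQ ≫ CohB1.ProjSpace.toSpec M A ∧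
      new ≫ CohB1.ProjSpace.toSpec m A = jQ ≫ CohB1.ProjSpace.toSpec M A ∧
      r'' ≫ old = r' ∧ r'' ≫ new = r := by
  let M := (N + 1) * (m + 1) - 1
  have hM : (N + 1) * (m + 1) = M + 1 := (Nat.sub_add_cancel (Nat.mul_pos N.succ_pos m.succ_pos)).symm
  let σ : Fin (M + 1) ≃ Fin (N + 1) × Fin (m + 1) := (finCongr hM).symm.trans finProdFinEquiv.symm
  obtain ⟨φ, hφ, hφb⟩ := Segre.exists_segre A σ
  let jm := pullback.map (j ≫ CohB1.ProjSpace.toSpec N A) (CohB1.ProjSpace.toSpec m A)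
    (CohB1.ProjSpace.toSpec N A) (CohB1.ProjSpace.toSpec m A) j (𝟙 _) (𝟙 _) (by simp) (by simp)
  have hjm : IsClosedImmersion jm :=
    MorphismProperty.pullbackMap (P := @IsClosedImmersion) ‹IsClosedImmersion j›
      (inferInstanceAs (IsClosedImmersion (𝟙 _))) rfl (Category.id_comp _).symm
  have hold : pullback.fst (j ≫ CohB1.ProjSpace.toSpec N A) (CohB1.ProjSpace.toSpec m A) ≫
      j ≫ CohB1.ProjSpace.toSpec N A = (jm ≫ φ) ≫ CohB1.ProjSpace.toSpec M A := by
    rw [Category.assoc, hφb]; simp [jm]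
  exact ⟨_, M, jm ≫ φ, pullback.fst _ _, pullback.snd _ _, pullback.lift r' r h, inferInstance, hold,
    pullback.condition.symm.trans hold, pullback.lift_fst _ _ _, pullback.lift_snd _ _ _⟩

/-- A projective scheme with projections onto finitely many given charts. -/
theorem exists_proj_family {κ : Scheme.{u}} {ι : Type} [Finite ι] (s₀ : κ ⟶ Spec (CommRingCat.of A))
    (n : ι → ℕ) (r : ∀ i, κ ⟶ CohB1.ProjSpace (n i) A) (hr : ∀ i, r i ≫ CohB1.ProjSpace.toSpec (n i) A = s₀) :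
    ∃ (P : Scheme.{u}) (N : ℕ) (j : P ⟶ CohB1.ProjSpace N A) (pr : ∀ i, P ⟶ CohB1.ProjSpace (n i) A)
      (r' : κ ⟶ P), IsClosedImmersion j ∧ (∀ i, pr i ≫ CohB1.ProjSpace.toSpec (n i) A =
        j ≫ CohB1.ProjSpace.toSpec N A) ∧ (∀ i, r' ≫ pr i = r i) ∧
        r' ≫ j ≫ CohB1.ProjSpace.toSpec N A = s₀ := by
  classical
  cases nonempty_fintype ι
  suffices h : ∀ S : Finset ι, ∃ (P : Scheme.{u}) (N : ℕ) (j : P ⟶ CohB1.ProjSpace N A)
      (pr : ∀ i : S, P ⟶ CohB1.ProjSpace (n i) A) (r' : κ ⟶ P), IsClosedImmersion j ∧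
      (∀ i : S, pr i ≫ CohB1.ProjSpace.toSpec (n i) A = j ≫ CohB1.ProjSpace.toSpec N A) ∧
      (∀ i : S, r' ≫ pr i = r i) ∧ r' ≫ j ≫ CohB1.ProjSpace.toSpec N A = s₀ by
    obtain ⟨P, N, j, pr, r', h1, h2, h3, h4⟩ := h Finset.univ
    exact ⟨P, N, j, fun i => pr ⟨i, Finset.mem_univ i⟩, r', h1, fun i => h2 ⟨i, _⟩, fun i => h3 ⟨i, _⟩, h4⟩
  intro S
  induction S using Finset.induction_on with
  | empty =>
    obtain ⟨x, hx⟩ : ∃ x : Spec (CommRingCat.of A) ⟶ CohB1.ProjSpace 0 A,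
        x ≫ CohB1.ProjSpace.toSpec 0 A = 𝟙 _ ∧ IsClosedImmersion x := by
      let x := Spec.map (CommRingCat.ofHom
        (MvPolynomial.eval (R := A) (σ := {j : Fin (0 + 1) // j ≠ 0}) fun _ => 0)) ≫ ProjSpace.chart 0 A 0
      have hx : x ≫ CohB1.ProjSpace.toSpec 0 A = 𝟙 _ := by
        rw [Category.assoc, ProjSpace.chart_toSpec, ← Spec.map_comp, ← CommRingCat.ofHom_comp]
        refine Eq.trans ?_ (Spec.map_id _)
        congr 1
        ext r
        simp
      have : IsClosedImmersion (x ≫ CohB1.ProjSpace.toSpec 0 A) := by rw [hx]; infer_instance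
      exact ⟨x, hx, IsClosedImmersion.of_comp x (CohB1.ProjSpace.toSpec 0 A)⟩
    obtain ⟨hx, hxc⟩ := hx
    exact ⟨_, 0, x, fun i => absurd i.2 (Finset.notMem_empty _), s₀, hxc,
      fun i => absurd i.2 (Finset.notMem_empty _), fun i => absurd i.2 (Finset.notMem_empty _), by
        rw [hx, Category.comp_id]⟩
  | insert a S ha ih =>
    obtain ⟨P, N, j, pr, r', hj, h2, h3, h4⟩ := ih
    have : IsClosedImmersion j := hj
    obtain ⟨Q, M, jQ, old, new, r'', hjQ, ho, hn, hro, hrn⟩ :=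
      exists_proj_step j r' (r a) (h4.trans (hr a).symm)
    have key : ∀ i : (insert a S : Finset ι), ∃ p : Q ⟶ CohB1.ProjSpace (n i) A,
        p ≫ CohB1.ProjSpace.toSpec (n i) A = jQ ≫ CohB1.ProjSpace.toSpec M A ∧ r'' ≫ p = r i := by
      rintro ⟨i, hi⟩
      by_cases hia : i = a
      · subst hia
        exact ⟨new, hn, hrn⟩
      · have hiS := (Finset.mem_insert.1 hi).resolve_left hia
        exact ⟨old ≫ pr ⟨i, hiS⟩, by rw [Category.assoc, h2, ho], by rw [reassoc_of% hro]; exact h3 ⟨i, hiS⟩⟩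
    choose p hp1 hp2 using key
    exact ⟨Q, M, jQ, p, r'', hjQ, hp1, hp2, by rw [← hn, reassoc_of% hrn, hr]⟩

/-- Chow's lemma at a point. -/
theorem exists_chow (f₀ : X ⟶ Spec (CommRingCat.of A)) [IsProper f₀] (η : X) :
    ∃ (X' : Scheme.{u}) (π : X' ⟶ X) (z : X') (N : ℕ) (j : X' ⟶ CohB1.ProjSpace N A),
      IsProper π ∧ IsClosedImmersion j ∧ j ≫ CohB1.ProjSpace.toSpec N A = π ≫ f₀ ∧ π z = η ∧
      Set.range π ⊆ closure {η} ∧
      (∀ (U : X.Opens) (hη : η ∈ U) (r : Γ(X, U)), X.evaluation U η hη r = 0 → π.app U r = 0) := by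
  classical
  let S₀ : Set X := closure {η}
  have hcpt : IsCompact S₀ := by
    have : CompactSpace X := QuasiCompact.compactSpace_of_compactSpace f₀
    exact isClosed_closure.isCompact
  choose U hU hxU using fun x : X => exists_isAffineOpen_mem_and_subset (x := x) (U := ⊤) trivial
  obtain ⟨T, hT⟩ := hcpt.elim_finite_subcover (fun x => (U x : Set X)) (fun x => (U x).isOpen)
    fun x _ => Set.mem_iUnion.2 ⟨x, (hxU x).1⟩
  let T' := T.filter fun x => η ∈ U x
  have hT' : ∀ y ∈ S₀, ∃ x ∈ T', y ∈ U x := fun y hy => by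
    obtain ⟨x, hx, hyx⟩ := Set.mem_iUnion₂.1 (hT hy)
    exact ⟨x, Finset.mem_filter.2 ⟨hx, (specializes_iff_mem_closure.2 hy).mem_open (U x).isOpen hyx⟩, hyx⟩
  let k := T'.card
  let e : Fin k → T' := T'.equivFin.symm
  have hηU : ∀ i, η ∈ U (e i).1 := fun i => (Finset.mem_filter.1 (e i).2).2
  choose n D c hc hcb using fun i : Fin k =>
    haveI : IsAffine (U (e i).1 : Scheme.{u}) := hU (e i).1
    exists_chart_embedding ((U (e i).1).ι ≫ f₀)
  let K : Scheme.{u} := Spec (X.residueField η)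
  let p₀ : K ⟶ X := X.fromSpecResidueField η
  have hp₀ : ∀ i, ⊤ ≤ p₀ ⁻¹ᵁ U (e i).1 := fun i y _ => by
    show p₀ y ∈ U (e i).1
    rw [show p₀ y = η from X.fromSpecResidueField_apply η y]
    exact hηU i
  let t : ∀ i, K ⟶ (U (e i).1 : Scheme.{u}) := fun i => IsOpenImmersion.lift (U (e i).1).ι p₀ (by
    rw [Scheme.Opens.range_ι]; rintro _ ⟨y, rfl⟩; exact hp₀ i (trivial : y ∈ (⊤ : K.Opens)))
  have ht : ∀ i, t i ≫ (U (e i).1).ι = p₀ := fun i => IsOpenImmersion.lift_fac _ _ _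
  obtain ⟨P, N, j₀, pr, r, hj₀, hpr, hr, hrb⟩ := exists_proj_family (p₀ ≫ f₀) n
    (fun i => t i ≫ c i ≫ (D i).ι) (fun i => by
      rw [Category.assoc, Category.assoc, hcb, reassoc_of% ht i])
  have : IsProper (j₀ ≫ CohB1.ProjSpace.toSpec N A) := inferInstance
  let XP := pullback f₀ (j₀ ≫ CohB1.ProjSpace.toSpec N A)
  let u : K ⟶ XP := pullback.lift p₀ r hrb.symm
  have : CompactSpace K := inferInstance
  have : QuasiCompact u := by
    have : QuasiCompact (u ≫ pullback.fst _ _ ≫ f₀) := by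
      rw [← Category.assoc, pullback.lift_fst]; infer_instance
    exact QuasiCompact.of_comp u (pullback.fst _ _ ≫ f₀)
  let X' := u.image
  have : IsReduced X' := isReduced_image u
  let t' : K ⟶ X' := u.toImage
  let π : X' ⟶ X := u.imageι ≫ pullback.fst _ _
  let q : X' ⟶ P := u.imageι ≫ pullback.snd _ _
  have htπ : t' ≫ π = p₀ := by rw [u.toImage_imageι_assoc, pullback.lift_fst]
  have htq : t' ≫ q = r := by rw [u.toImage_imageι_assoc, pullback.lift_snd]
  have hπq : π ≫ f₀ = q ≫ j₀ ≫ CohB1.ProjSpace.toSpec N A := by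
    simp only [π, q, Category.assoc, pullback.condition]
  have hrange : Set.range π ⊆ S₀ := by
    have hd : DenseRange t' := (inferInstance : IsDominant t').denseRange
    rintro _ ⟨z, rfl⟩
    have h1 : z ∈ closure (Set.range t') := hd z
    refine closure_mono ?_ (image_closure_subset_closure_image π.continuous ⟨z, h1, rfl⟩)
    rintro _ ⟨_, ⟨y, rfl⟩, rfl⟩
    rw [← Scheme.Hom.comp_apply, htπ]
    exact X.fromSpecResidueField_apply η y
  let O : Fin k → X'.Opens := fun i => (q ≫ pr i) ⁻¹ᵁ D i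
  have hb : ∀ i, IsSeparated (CohB1.ProjSpace.toSpec (n i) A) := fun i => inferInstance
  have hqb : ∀ i, (q ≫ pr i) ≫ CohB1.ProjSpace.toSpec (n i) A = π ≫ f₀ := fun i => by
    rw [Category.assoc, hpr i, hπq]
  have htU : ∀ i, t i ≫ (U (e i).1).ι = t' ≫ π := fun i => (ht i).trans htπ.symm
  have hrr : ∀ i, t' ≫ q ≫ pr i = t i ≫ c i ≫ (D i).ι := fun i => by rw [reassoc_of% htq, hr]
  have hg : ∀ i, ∃ g : (O i : Scheme.{u}) ⟶ (U (e i).1 : Scheme.{u}),
      g ≫ c i = (q ≫ pr i) ∣_ D i ∧ g ≫ (U (e i).1).ι = (O i).ι ≫ π := fun i =>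
    exists_chart_factor t' π f₀ (CohB1.ProjSpace.toSpec (n i) A) (q ≫ pr i) (hqb i) (c i) (hcb i) (t i)
      (htU i) (hrr i)
  choose g hgc hgι using hg
  have hcov : ∀ i, π ⁻¹ᵁ U (e i).1 ≤ O i := fun i =>
    preimage_le_chart t' π f₀ (CohB1.ProjSpace.toSpec (n i) A) (q ≫ pr i) (hqb i) (c i) (hcb i) (t i)
      (htU i) (hrr i)
  have hOcov : (⨆ i, O i) = ⊤ := top_le_iff.1 fun z _ => by
    obtain ⟨x, hx, hzx⟩ := hT' (π z) (hrange ⟨z, rfl⟩)
    let i : Fin k := T'.equivFin ⟨x, hx⟩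
    have hi : (e i).1 = x := by simp [e, i]
    exact Opens.mem_iSup.2 ⟨i, hcov i (show π z ∈ U (e i).1 by rw [hi]; exact hzx)⟩
  have hq : IsClosedImmersion q := by
    let V : Fin k → P.Opens := fun i => pr i ⁻¹ᵁ D i
    let W : P.Opens := ⨆ i, V i
    have htop : q ⁻¹ᵁ W = ⊤ := by
      rw [Scheme.Hom.preimage_iSup]; exact hOcov
    have hi : ∀ i, IsClosedImmersion (q ∣_ V i) := fun i => by
      let T₂ := pullback (pr i ∣_ D i) (c i)
      let l : (O i : Scheme.{u}) ⟶ T₂ := pullback.lift (q ∣_ V i) (g i) (by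
        rw [hgc, ← cancel_mono (D i).ι]; simp [V])
      let ψ : T₂ ⟶ XP := pullback.lift (pullback.snd _ _ ≫ (U (e i).1).ι) (pullback.fst _ _ ≫ (V i).ι) (by
        rw [Category.assoc, Category.assoc, ← hcb i, ← pullback.condition_assoc]
        simp only [morphismRestrict_ι_assoc, hpr i, V])
      let O' : XP.Opens := pullback.snd f₀ (j₀ ≫ CohB1.ProjSpace.toSpec N A) ⁻¹ᵁ V i
      let ψ' : T₂ ⟶ (O' : Scheme.{u}) := IsOpenImmersion.lift O'.ι ψ (by
        rw [Scheme.Opens.range_ι]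
        rintro _ ⟨y, rfl⟩
        show pullback.snd f₀ (j₀ ≫ CohB1.ProjSpace.toSpec N A) (ψ y) ∈ V i
        rw [← Scheme.Hom.comp_apply, pullback.lift_snd]
        exact (pullback.fst (pr i ∣_ D i) (c i) y).2)
      have hfac : l ≫ ψ' = u.imageι ∣_ O' := by
        rw [← cancel_mono O'.ι, Category.assoc, IsOpenImmersion.lift_fac, morphismRestrict_ι]
        apply pullback.hom_ext
        · rw [Category.assoc, pullback.lift_fst, pullback.lift_snd_assoc, hgι]
          rfl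
        · rw [Category.assoc, pullback.lift_snd, pullback.lift_fst_assoc, morphismRestrict_ι]
          rfl
      have : IsSeparated ψ' := by
        have : IsSeparated (ψ' ≫ O'.ι ≫ pullback.snd f₀ (j₀ ≫ CohB1.ProjSpace.toSpec N A)) := by
          rw [IsOpenImmersion.lift_fac_assoc, pullback.lift_snd]; infer_instance
        exact IsSeparated.of_comp ψ' (O'.ι ≫ pullback.snd f₀ (j₀ ≫ CohB1.ProjSpace.toSpec N A))
      have : IsClosedImmersion (l ≫ ψ') := by rw [hfac]; infer_instance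
      have : IsClosedImmersion l := IsClosedImmersion.of_comp l ψ'
      have h' : l ≫ pullback.fst _ _ = q ∣_ V i := pullback.lift_fst _ _ _
      rw [← h']; infer_instance
    haveI : IsClosedImmersion (q ∣_ W) := by
      refine (IsZariskiLocalAtTarget.iff_of_iSup_eq_top (P := @IsClosedImmersion)
        (fun i => W.ι ⁻¹ᵁ V i) ?_).2 fun i => ?_
      · rw [← Scheme.Hom.preimage_iSup]
        exact Scheme.Opens.ι_preimage_self W
      · rw [MorphismProperty.arrow_mk_iso_iff @IsClosedImmersion (morphismRestrictRestrict q W (W.ι ⁻¹ᵁ V i))]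
        have e' : W.ι ''ᵁ (W.ι ⁻¹ᵁ V i) = V i := by
          rw [Scheme.Hom.image_preimage_eq_opensRange_inf, Scheme.Opens.opensRange_ι]
          exact inf_eq_right.2 (le_iSup V i)
        rw [e']
        exact hi i
    have hfac : q = (X'.topIso.inv ≫ (X'.isoOfEq htop).inv) ≫ (q ∣_ W) ≫ W.ι := by
      rw [morphismRestrict_ι, ← Category.assoc, Category.assoc X'.topIso.inv, Scheme.isoOfEq_inv_ι]
      simp
    have : IsPreimmersion q := by rw [hfac]; infer_instance
    have : IsProper q := inferInstance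
    exact IsClosedImmersion.of_isPreimmersion q q.isClosedMap.isClosed_range
  have hπ : IsProper π := inferInstance
  refine ⟨X', π, t' default, N, q ≫ j₀, hπ, inferInstance, by rw [Category.assoc, hπq],
    ?_, hrange, fun V hη r hr => ?_⟩
  · rw [← Scheme.Hom.comp_apply, htπ]
    exact X.fromSpecResidueField_apply η default
  · apply toImage_app_injective' u
    rw [map_zero, ← CommRingCat.comp_apply, ← Scheme.Hom.comp_app, Scheme.Hom.congr_app htπ,
      CommRingCat.comp_apply]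
    have h0 : p₀.app V r = 0 := by
      have hres : X.residue η (X.presheaf.germ V η hη r) = 0 := hr
      change (Spec.map (X.residue η) ≫ X.fromSpecStalk η).app V r = 0
      rw [Scheme.Hom.comp_app, Scheme.fromSpecStalk_app hη]
      simp only [CommRingCat.comp_apply]
      have hnat := Scheme.Hom.naturality (Spec.map (X.residue η))
        (homOfLE (le_top : X.fromSpecStalk η ⁻¹ᵁ V ≤ ⊤)).op
      refine (ConcreteCategory.congr_hom hnat _).trans ?_
      have hn := ConcreteCategory.congr_hom (Scheme.ΓSpecIso_inv_naturality (X.residue η))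
        (X.presheaf.germ V η hη r)
      rw [CommRingCat.comp_apply, CommRingCat.comp_apply] at hn
      rw [CommRingCat.comp_apply]
      refine (congrArg _ hn.symm).trans ?_
      rw [hres, map_zero, map_zero]
    rw [h0, map_zero]

end Groth.Agent.CohFound
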