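import Groth.Agent.Lib.CohFound.StalkLin
import Groth.Agent.Lib.TensorMod.QCohTensor
import Groth.Agent.Lib.ModM1.LocFree
import Mathlib.Topology.Sober
import Mathlib.RingTheory.Nilpotent.Lemmas

/-!
# Dévissage for coherent modules on a Noetherian scheme
-/

universe u

open CategoryTheory Limits AlgebraicGeometry TopologicalSpace Opposite

namespace Groth.Agent.CohFound

variable {X : Scheme.{u}}

/-- Two out of three in short exact sequences of coherent modules. -/
structure TwoOfThree (P : X.Modules → Prop) : Prop where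
  of_isZero : ∀ M : X.Modules, Coh.IsCoh M → IsZero M → P M
  mid : ∀ S : ShortComplex X.Modules, S.ShortExact → Coh.IsCoh S.X₁ → Coh.IsCoh S.X₂ →
    Coh.IsCoh S.X₃ → P S.X₁ → P S.X₃ → P S.X₂
  left : ∀ S : ShortComplex X.Modules, S.ShortExact → Coh.IsCoh S.X₁ → Coh.IsCoh S.X₂ →
    Coh.IsCoh S.X₃ → P S.X₂ → P S.X₃ → P S.X₁
  right : ∀ S : ShortComplex X.Modules, S.ShortExact → Coh.IsCoh S.X₁ → Coh.IsCoh S.X₂ →
    Coh.IsCoh S.X₃ → P S.X₁ → P S.X₂ → P S.X₃

/-- Two out of three in short exact sequences of coherent modules supported in a given set. -/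
structure TwoOfThreeOn (P : X.Modules → Prop) (Z₀ : Set X) : Prop where
  of_isZero : ∀ M : X.Modules, Coh.IsCoh M → IsZero M → P M
  mid : ∀ S : ShortComplex X.Modules, S.ShortExact → Coh.IsCoh S.X₁ → Coh.IsCoh S.X₂ →
    Coh.IsCoh S.X₃ → CohB1.support S.X₂ ⊆ Z₀ → P S.X₁ → P S.X₃ → P S.X₂
  left : ∀ S : ShortComplex X.Modules, S.ShortExact → Coh.IsCoh S.X₁ → Coh.IsCoh S.X₂ →
    Coh.IsCoh S.X₃ → CohB1.support S.X₂ ⊆ Z₀ → P S.X₂ → P S.X₃ → P S.X₁
  right : ∀ S : ShortComplex X.Modules, S.ShortExact → Coh.IsCoh S.X₁ → Coh.IsCoh S.X₂ →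
    Coh.IsCoh S.X₃ → CohB1.support S.X₂ ⊆ Z₀ → P S.X₁ → P S.X₂ → P S.X₃

theorem TwoOfThree.on {P : X.Modules → Prop} (hP : TwoOfThree P) : TwoOfThreeOn P Set.univ :=
  ⟨hP.of_isZero, fun S hS h1 h2 h3 _ => hP.mid S hS h1 h2 h3, fun S hS h1 h2 h3 _ => hP.left S hS h1 h2 h3,
    fun S hS h1 h2 h3 _ => hP.right S hS h1 h2 h3⟩

/-- A module with property `P` whose stalk at `η` is a nonzero vector space over the residue field,
with a chosen basis. -/
structure HasModel (P : X.Modules → Prop) (η : X) where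
  G : X.Modules
  r : ℕ
  isCoh : Coh.IsCoh G
  supp : CohB1.support G ⊆ closure {η}
  pos : 0 < r
  e : Fin r → G.presheaf.stalk η
  kills : ∀ c ∈ IsLocalRing.maximalIdeal (X.presheaf.stalk η), ∀ a : G.presheaf.stalk η, c • a = 0
  span : ∀ a : G.presheaf.stalk η, ∃ c : Fin r → X.presheaf.stalk η, ∑ j, c j • e j = a
  indep : ∀ c : Fin r → X.presheaf.stalk η, ∑ j, c j • e j = 0 →
    ∀ j, c j ∈ IsLocalRing.maximalIdeal (X.presheaf.stalk η)
  prop : P G
  of_sigma : ∀ Q : X.Modules, Coh.IsCoh Q → P (∐ fun _ : Fin r => Q) → P Q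

/-- A point of a closed subset which no other point of the subset specialises to. -/
theorem exists_maximal_point [IsNoetherian X] (Z : Closeds X) {x : X} (hx : x ∈ Z) :
    ∃ η ∈ Z, ∀ y ∈ Z, y ⤳ η → y = η := by
  classical
  obtain ⟨S, hSf, hcl, hirr, hZ⟩ := NoetherianSpace.exists_finite_set_isClosed_irreducible Z.isClosed
  have hne : S.Nonempty := by
    obtain ⟨t, ht, -⟩ := Set.mem_sUnion.1 (hZ ▸ hx : x ∈ ⋃₀ S)
    exact ⟨t, ht⟩
  obtain ⟨C, hC, hmax⟩ := hSf.exists_maximal hne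
  have hgen := IsIrreducible.isGenericPoint_genericPoint (hirr C hC) (hcl C hC)
  refine ⟨(hirr C hC).genericPoint, ?_, fun y hy hyη => ?_⟩
  · show _ ∈ (Z : Set X)
    rw [hZ]
    exact Set.mem_sUnion.2 ⟨C, hC, hgen.mem⟩
  · obtain ⟨D, hD, hyD⟩ := Set.mem_sUnion.1 (hZ ▸ hy : y ∈ ⋃₀ S)
    have hsub : C ⊆ D := (hgen.mem_closed_set_iff (hcl D hD)).1 (hyη.mem_closed (hcl D hD) hyD)
    have := hmax hD hsub
    exact (hyη.antisymm (hgen.specializes (this hyD))).eq

/-- Near a maximal point a closed subset lies in the closure of that point. -/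
theorem exists_nhd_subset_closure [IsNoetherian X] {A : Set X} (hA : IsClosed A) {η : X}
    (hη : ∀ y ∈ A, y ⤳ η → y = η) : ∃ V : X.Opens, η ∈ V ∧ (V : Set X) ∩ A ⊆ closure {η} := by
  obtain ⟨S, hSf, hcl, hirr, hS⟩ := NoetherianSpace.exists_finite_set_isClosed_irreducible hA
  let B : Set X := ⋃ C ∈ {C ∈ S | η ∉ C}, C
  have hB : IsClosed B := (hSf.subset (Set.sep_subset _ _)).isClosed_biUnion fun C hC => hcl C hC.1
  refine ⟨⟨Bᶜ, hB.isOpen_compl⟩, fun h => ?_, fun y hy => ?_⟩
  · obtain ⟨C, hC, h'⟩ := Set.mem_iUnion₂.1 h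
    exact hC.2 h'
  · obtain ⟨C, hC, hyC⟩ := Set.mem_sUnion.1 (hS ▸ hy.2 : y ∈ ⋃₀ S)
    have hηC : η ∈ C := by
      by_contra h'
      exact hy.1 (Set.mem_iUnion₂.2 ⟨C, ⟨hC, h'⟩, hyC⟩)
    have hgen := IsIrreducible.isGenericPoint_genericPoint (hirr C hC) (hcl C hC)
    have he := hη _ (by rw [hS]; exact Set.mem_sUnion.2 ⟨C, hC, hgen.mem⟩) (hgen.specializes hηC)
    have hyη : η ⤳ y := he ▸ hgen.specializes hyC
    exact hyη.mem_closure

/-- At a maximal point of the support the maximal ideal acts nilpotently on the stalk. -/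
theorem exists_pow_kills [IsNoetherian X] {F : X.Modules} (hF : Coh.IsCoh F) {η : X}
    (hη : ∀ y ∈ CohB1.support F, y ⤳ η → y = η) :
    ∀ g ∈ IsLocalRing.maximalIdeal (X.presheaf.stalk η), ∃ L : ℕ,
      ∀ a : F.presheaf.stalk η, g ^ L • a = 0 := by
  haveI := hF.1
  intro g₀ hg₀
  obtain ⟨V, hηV, hV⟩ := exists_nhd_subset_closure (M1.isClosed_support hF.2) hη
  obtain ⟨W, hW, g, rfl⟩ := X.presheaf.exists_germ_eq g₀
  obtain ⟨U, hU, hxU, hUW⟩ := exists_isAffineOpen_mem_and_subset (x := η) (U := V ⊓ W) ⟨hηV, hW⟩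
  have hUW' : U ≤ W := fun z hz => (hUW hz).2
  let r : Γ(X, U) := M1.ores hUW' g
  have hr : X.presheaf.germ U η hxU r = X.presheaf.germ W η hW g :=
    X.presheaf.germ_res_apply (homOfLE hUW') η hxU g
  have hη' : η ∉ X.basicOpen r := fun h => hg₀ (hr ▸ (X.mem_basicOpen r η hxU).1 h)
  have hzero : ∀ t : Γ(F, U), M1.mres F (X.basicOpen_le r) t = 0 := fun t =>
    M1.section_ext _ _ fun y hy => by
      have hyn : y ∉ CohB1.support F := fun hys => by
        have := hV ⟨(hUW (X.basicOpen_le r hy)).1, hys⟩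
        exact hη' ((specializes_iff_mem_closure.2 this).mem_open (X.basicOpen r).2 hy)
      exact ((M1.notMem_support_iff F y).1 hyn _).trans (map_zero _).symm
  have hfin := M1.finite_sections hF.1 hF.2 hU
  obtain ⟨T, hT⟩ := hfin.fg_top
  choose n hn using fun t : T => M1.exists_pow_smul_eq_zero_affine F hU r t.1 (hzero t.1)
  let L := Finset.univ.sup n
  have hL : ∀ m : Γ(F, U), r ^ L • m = 0 := fun m => by
    have hm : m ∈ Submodule.span Γ(X, U) (T : Set Γ(F, U)) := hT ▸ Submodule.mem_top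
    induction hm using Submodule.span_induction with
    | mem t ht =>
      obtain ⟨d, hd⟩ := Nat.exists_eq_add_of_le (Finset.le_sup (f := n) (Finset.mem_univ ⟨t, ht⟩))
      rw [show L = d + n ⟨t, ht⟩ by omega, pow_add, mul_smul, hn ⟨t, ht⟩, smul_zero]
    | zero => rw [smul_zero]
    | add u v _ _ hu hv => rw [smul_add, hu, hv, add_zero]
    | smul c u _ hu => rw [smul_comm, hu, smul_zero]
  refine ⟨L, fun a => ?_⟩
  obtain ⟨c, m, hc, hm⟩ := M1.exists_germ_smul_eq F hU hxU a
  refine hc.smul_eq_zero.1 ?_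
  rw [smul_comm, hm, ← hr, ← map_pow, ← M1.germ_smul, hL, map_zero]

/-- Some power of the maximal ideal kills the stalk at a maximal point of the support. -/
theorem exists_maximalIdeal_pow_kills [IsNoetherian X] {F : X.Modules} (hF : Coh.IsCoh F) {η : X}
    (hη : ∀ y ∈ CohB1.support F, y ⤳ η → y = η) :
    ∃ L : ℕ, ∀ c ∈ IsLocalRing.maximalIdeal (X.presheaf.stalk η) ^ L,
      ∀ a : F.presheaf.stalk η, c • a = 0 := by
  have hle : IsLocalRing.maximalIdeal (X.presheaf.stalk η) ≤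
      (Module.annihilator (X.presheaf.stalk η) (F.presheaf.stalk η)).radical := fun g hg => by
    obtain ⟨L, hL⟩ := exists_pow_kills hF hη g hg
    exact ⟨L, Module.mem_annihilator.2 hL⟩
  obtain ⟨L, hL⟩ := Ideal.exists_pow_le_of_le_radical_of_fg hle (IsNoetherian.noetherian _)
  exact ⟨L, fun c hc a => Module.mem_annihilator.1 (hL hc) a⟩

section Main

variable [IsNoetherian X] {P : X.Modules → Prop} {Z₀ : Set X} (hP : TwoOfThreeOn P Z₀) {Z : Closeds X} {η : X}
  (hZ₀ : (Z : Set X) ⊆ Z₀)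

/-- `P` holds for coherent modules supported in `Z` away from `η`. -/
def SmallOK (P : X.Modules → Prop) (Z : Closeds X) (η : X) : Prop :=
  ∀ M : X.Modules, Coh.IsCoh M → CohB1.support M ⊆ Z → η ∉ CohB1.support M → P M

variable (hsmall : SmallOK P Z η)

/-- The short exact sequence of a monomorphism. -/
lemma shortExact_cokernel {M N : X.Modules} (φ : M ⟶ N) [Mono φ] :
    (ShortComplex.mk φ (cokernel.π φ) (cokernel.condition φ)).ShortExact :=
  { exact := ShortComplex.exact_cokernel φ }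

/-- The short exact sequence of an epimorphism. -/
lemma shortExact_kernel {M N : X.Modules} (φ : M ⟶ N) [Epi φ] :
    (ShortComplex.mk (kernel.ι φ) φ (kernel.condition φ)).ShortExact :=
  { exact := ShortComplex.exact_kernel φ }

include hP hZ₀ hsmall in
/-- A morphism bijective at `η` does not change `P`. -/
theorem iff_of_bijective {K G : X.Modules} (φ : K ⟶ G) (hK : Coh.IsCoh K) (hG : Coh.IsCoh G)
    (hKZ : CohB1.support K ⊆ Z) (hGZ : CohB1.support G ⊆ Z) (hinj : Function.Injective (stL φ η))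
    (hsurj : Function.Surjective (stL φ η)) : P K ↔ P G := by
  let I := Abelian.image φ
  have hcoker : Coh.IsCoh (cokernel φ) := M1.isCoh_cokernel hK.1 hG φ
  have hI : Coh.IsCoh I := M1.isCoh_kernel hG hcoker.1 (cokernel.π φ)
  have hker : Coh.IsCoh (kernel φ) := M1.isCoh_kernel hK hG.1 φ
  have hPker : P (kernel φ) :=
    hsmall _ hker ((support_subset_of_mono (kernel.ι φ)).trans hKZ) (notMem_support_kernel φ η hinj)
  have hPcoker : P (cokernel φ) :=
    hsmall _ hcoker ((support_subset_of_epi (cokernel.π φ)).trans hGZ)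
      ((notMem_support_cokernel_iff φ η).2 hsurj)
  let p := Abelian.factorThruImage φ
  have hp : kernel.ι φ ≫ p = 0 := by
    rw [← cancel_mono (Abelian.image.ι φ), Category.assoc, Abelian.image.fac, zero_comp, kernel.condition]
  let S₁ : ShortComplex X.Modules := ShortComplex.mk (kernel.ι φ) p hp
  have hS₁ : S₁.ShortExact := by
    refine { exact := ?_ }
    let k : ShortComplex X.Modules := ShortComplex.mk (kernel.ι φ) φ (kernel.condition φ)
    let α : S₁ ⟶ k := { τ₁ := 𝟙 _, τ₂ := 𝟙 _, τ₃ := Abelian.image.ι φ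
                        comm₁₂ := by simp [S₁, k], comm₂₃ := by simp [S₁, k, p] }
    have : Epi α.τ₁ := inferInstanceAs (Epi (𝟙 _))
    have : IsIso α.τ₂ := inferInstanceAs (IsIso (𝟙 _))
    have : Mono α.τ₃ := inferInstanceAs (Mono (Abelian.image.ι φ))
    exact (ShortComplex.exact_iff_of_epi_of_isIso_of_mono α).2 (ShortComplex.exact_kernel φ)
  let S₂ : ShortComplex X.Modules :=
    ShortComplex.mk (Abelian.image.ι φ) (cokernel.π φ) (kernel.condition _)
  have hS₂ : S₂.ShortExact := { exact := ShortComplex.exact_kernel (cokernel.π φ) }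
  constructor
  · intro h
    exact hP.mid S₂ hS₂ hI hG hcoker (hGZ.trans hZ₀) (hP.right S₁ hS₁ hker hK hI (hKZ.trans hZ₀) hPker h)
      hPcoker
  · intro h
    exact hP.mid S₁ hS₁ hker hK hI (hKZ.trans hZ₀) hPker
      (hP.left S₂ hS₂ hI hG hcoker (hGZ.trans hZ₀) h hPcoker)

include hP hZ₀ hsmall in
/-- The simple case: a stalk generated by one nonzero element killed by the maximal ideal. -/
theorem prop_of_cyclic (m : HasModel P η) (hηZ : η ∈ Z) {Q : X.Modules} (hQ : Coh.IsCoh Q)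
    (hQZ : CohB1.support Q ⊆ Z) {q : Q.presheaf.stalk η} (hq : q ≠ 0)
    (hqm : ∀ c ∈ IsLocalRing.maximalIdeal (X.presheaf.stalk η), c • q = 0)
    (hgen : ∀ b : Q.presheaf.stalk η, ∃ c : X.presheaf.stalk η, c • q = b) : P Q := by
  classical
  have : HasFiniteBiproducts X.Modules := Abelian.hasFiniteBiproducts
  let f : Fin m.r → X.Modules := fun _ => Q
  let T : X.Modules := ⨁ f
  let ι (j : Fin m.r) : Q ⟶ T := biproduct.ι f j
  let π (j : Fin m.r) : T ⟶ Q := biproduct.π f j
  have hsum : ∀ b : T.presheaf.stalk η, ∑ j, stL (ι j) η (stL (π j) η b) = b := fun b => by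
    have h := congrArg (fun χ => stL χ η b) (biproduct.total (f := f))
    simp only [stL_sum] at h
    refine Eq.trans (Finset.sum_congr rfl fun j _ => ?_) (h.trans (stL_id _ η b))
    exact (stL_comp (biproduct.π f j) (biproduct.ι f j) η b).symm
  have hιπ : ∀ i j (b : Q.presheaf.stalk η), stL (π j) η (stL (ι i) η b) = if i = j then b else 0 := by
    intro i j b
    rw [← stL_comp]
    split_ifs with h
    · subst h
      rw [biproduct.ι_π_self, stL_id]
    · rw [biproduct.ι_π_ne f h, stL_zero]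
  have hT : Coh.IsCoh T := by
    have hfree : Coh.IsCoh (CohB1.tensorMod (FlatMod.freeMod X m.r) Q) :=
      have h := M1.isFP_of_isFinLocFree (M2.isFinLocFree_of_ofRank (M2.isFinLocFreeOfRank_freeMod X m.r))
      ⟨M2.isQCoh_tensor (M1.isFP_isQCoh h) hQ.1, M2.isFT_tensor (M1.isFP_isQCoh h) hQ.1 (M1.isFP_isFT h) hQ.2⟩
    let e : CohB1.tensorMod (FlatMod.freeMod X m.r) Q ≅ T :=
      M2.freeModTensorIso X m.r Q ≪≫ (biproduct.isoCoproduct f).symm
    exact ⟨M1.isQCoh_of_isIso e hfree.1, M1.isFT_of_isIso e hfree.2⟩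
  have hmem : ∀ x, x ∈ CohB1.support T → x ∈ (Z : Set X) := fun x hx => by
    by_contra h
    refine hx ⟨fun a b => ?_⟩
    have h0 : ∀ c : T.presheaf.stalk x, c = 0 := fun c => by
      have hh := congrArg (fun χ => stL χ x c) (biproduct.total (f := f))
      simp only [stL_sum] at hh
      rw [← (hh.trans (stL_id _ x c))]
      refine Finset.sum_eq_zero fun j _ => ?_
      rw [stL_comp]
      exact (congrArg (stL (biproduct.ι f j) x)
        ((M1.notMem_support_iff Q x).1 (fun hxQ => h (hQZ hxQ)) _)).trans (map_zero _)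
    rw [h0 a, h0 b]
  let E : X.Modules := m.G ⊞ T
  have hEfst : ∀ b : m.G.presheaf.stalk η,
      stL (biprod.fst : E ⟶ m.G) η (stL biprod.inl η b) = b := fun b => by
    rw [← stL_comp, biprod.inl_fst, stL_id]
  have hEsnd : ∀ b : T.presheaf.stalk η,
      stL (biprod.snd : E ⟶ T) η (stL biprod.inr η b) = b := fun b => by
    rw [← stL_comp, biprod.inr_snd, stL_id]
  have hEfst0 : ∀ b : T.presheaf.stalk η,
      stL (biprod.fst : E ⟶ m.G) η (stL biprod.inr η b) = 0 := fun b => by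
    rw [← stL_comp, biprod.inr_fst, stL_zero]
  have hEsnd0 : ∀ b : m.G.presheaf.stalk η,
      stL (biprod.snd : E ⟶ T) η (stL biprod.inl η b) = 0 := fun b => by
    rw [← stL_comp, biprod.inl_snd, stL_zero]
  have hEsum : ∀ (x : X) (b : E.presheaf.stalk x),
      stL biprod.inl x (stL (biprod.fst : E ⟶ m.G) x b) +
        stL biprod.inr x (stL (biprod.snd : E ⟶ T) x b) = b := fun x b => by
    rw [← stL_comp, ← stL_comp, ← stL_add, biprod.total, stL_id]
  have hGZ : CohB1.support m.G ⊆ (Z : Set X) :=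
    m.supp.trans (Z.isClosed.closure_subset_iff.2 (Set.singleton_subset_iff.2 hηZ))
  have hEZ : CohB1.support E ⊆ (Z : Set X) := fun x hx => by
    by_contra h
    refine hx ⟨fun a b => ?_⟩
    have h0 : ∀ c : E.presheaf.stalk x, c = 0 := fun c => by
      rw [← hEsum x c, (M1.notMem_support_iff m.G x).1 (fun hG => h (hGZ hG)) (stL biprod.fst x c),
        (M1.notMem_support_iff T x).1 (fun hT' => h (hmem x hT')) (stL biprod.snd x c), map_zero, map_zero,
        add_zero]
    rw [h0 a, h0 b]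
  have hE : Coh.IsCoh E := M1.isCoh_biprod m.isCoh hT
  let w (c : Fin m.r → X.presheaf.stalk η) : E.presheaf.stalk η :=
    stL biprod.inl η (∑ j, c j • m.e j) + stL biprod.inr η (∑ j, stL (ι j) η (c j • q))
  let N : Submodule (X.presheaf.stalk η) (E.presheaf.stalk η) :=
    { carrier := Set.range w
      zero_mem' := ⟨0, by simp [w]⟩
      add_mem' := by
        rintro _ _ ⟨c, rfl⟩ ⟨d, rfl⟩
        exact ⟨c + d, by simp only [w, Pi.add_apply, add_smul, Finset.sum_add_distrib, map_add]; abel⟩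
      smul_mem' := by
        rintro a _ ⟨c, rfl⟩
        exact ⟨a • c, by
          simp only [w, Pi.smul_apply, smul_eq_mul, mul_smul, map_smul, ← Finset.smul_sum, smul_add]⟩ }
  have hfst : ∀ c, stL (biprod.fst : E ⟶ m.G) η (w c) = ∑ j, c j • m.e j := fun c => by
    rw [map_add, hEfst, hEfst0, add_zero]
  have hsnd : ∀ c, stL (biprod.snd : E ⟶ T) η (w c) = ∑ j, stL (ι j) η (c j • q) := fun c => by
    rw [map_add, hEsnd, hEsnd0, zero_add]
  have hw0 : ∀ c, (∀ j, c j ∈ IsLocalRing.maximalIdeal (X.presheaf.stalk η)) → w c = 0 := fun c hc => by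
    simp only [w, m.kills _ (hc _), hqm _ (hc _), map_zero, Finset.sum_const_zero, add_zero]
  have hnil : ∀ g ∈ IsLocalRing.maximalIdeal (X.presheaf.stalk η), ∃ L : ℕ,
      ∀ a : E.presheaf.stalk η, g ^ L • a = 0 := fun g hg => ⟨1, fun a => by
    rw [pow_one, ← hEsum η a, smul_add, ← (stL biprod.inl η).map_smul, ← (stL biprod.inr η).map_smul, m.kills g hg,
      ← hsum (stL biprod.snd η a), Finset.smul_sum]
    have hQm : ∀ b : Q.presheaf.stalk η, g • b = 0 := fun b => by
      obtain ⟨c, rfl⟩ := hgen b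
      rw [smul_comm, hqm g hg, smul_zero]
    simp only [← map_smul, hQm, map_zero, Finset.sum_const_zero, add_zero]⟩
  have hK : Coh.IsCoh (cutAt E η N) := isCoh_cutAt E η N hE hnil
  have hKZ : CohB1.support (cutAt E η N) ⊆ (Z : Set X) := (support_subset_of_mono (cutι E η N)).trans hEZ
  have hrange : ∀ b, ∃ c, stL (cutι E η N) η b = w c := fun b => by
    obtain ⟨c, hc⟩ : stL (cutι E η N) η b ∈ N :=
      (range_stL_cutι E η N).le (LinearMap.mem_range_self _ b)
    exact ⟨c, hc.symm⟩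
  have hlift : ∀ c, ∃ b, stL (cutι E η N) η b = w c := fun c => by
    exact (range_stL_cutι E η N).ge (⟨c, rfl⟩ : w c ∈ N)
  have hPG : P (cutAt E η N) := by
    refine (iff_of_bijective hP hZ₀ hsmall (cutι E η N ≫ biprod.fst) hK m.isCoh hKZ hGZ ?_ fun b => ?_).2 m.prop
    · refine (injective_iff_map_eq_zero _).2 fun b hb => ?_
      obtain ⟨c, hc⟩ := hrange b
      rw [stL_comp, hc, hfst] at hb
      exact stL_injective_of_mono (cutι E η N) η (by rw [hc, map_zero, hw0 c (m.indep c hb)])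
    · obtain ⟨c, rfl⟩ := m.span b
      obtain ⟨a, ha⟩ := hlift c
      exact ⟨a, by rw [stL_comp, ha, hfst]⟩
  have hPT : P T := by
    refine (iff_of_bijective hP hZ₀ hsmall (cutι E η N ≫ biprod.snd) hK hT hKZ hmem ?_ fun b => ?_).1 hPG
    · refine (injective_iff_map_eq_zero _).2 fun b hb => ?_
      obtain ⟨c, hc⟩ := hrange b
      rw [stL_comp, hc, hsnd] at hb
      refine stL_injective_of_mono (cutι E η N) η ?_
      rw [hc, map_zero, hw0 c fun j => ?_]
      have hj := congrArg (stL (π j) η) hb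
      simp only [map_sum, map_zero, hιπ, Finset.sum_ite_eq', Finset.mem_univ, if_true] at hj
      by_contra hu
      exact hq ((IsLocalRing.notMem_maximalIdeal.1 hu).smul_eq_zero.1 hj)
    · choose c hc using fun j => hgen (stL (π j) η b)
      obtain ⟨a, ha⟩ := hlift c
      refine ⟨a, ?_⟩
      rw [stL_comp, ha, hsnd]
      simp only [hc]
      exact hsum b
  refine m.of_sigma Q hQ ?_
  have hS : Coh.IsCoh (∐ f) :=
    ⟨M1.isQCoh_of_isIso (biproduct.isoCoproduct f) hT.1, M1.isFT_of_isIso (biproduct.isoCoproduct f) hT.2⟩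
  refine (iff_of_bijective hP hZ₀ hsmall (biproduct.isoCoproduct f).hom hT hS hmem
    ((support_subset_of_epi (biproduct.isoCoproduct f).hom).trans hmem)
    (stL_injective_of_mono _ η) (stL_surjective_of_epi _ η)).1 hPT

end Main

/-- Dévissage from extensions and cyclic pieces. -/
theorem holds_of_cyclic [IsNoetherian X] {P : X.Modules → Prop} {Z₀ : Set X}
    (hzero : ∀ M : X.Modules, Coh.IsCoh M → IsZero M → P M)
    (hmid : ∀ S : ShortComplex X.Modules, S.ShortExact → Coh.IsCoh S.X₁ → Coh.IsCoh S.X₂ →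
      Coh.IsCoh S.X₃ → CohB1.support S.X₂ ⊆ Z₀ → P S.X₁ → P S.X₃ → P S.X₂)
    (hcyc : ∀ (Z : Closeds X) (η : X), η ∈ Z → (Z : Set X) ⊆ Z₀ → SmallOK P Z η →
      ∀ Q : X.Modules, Coh.IsCoh Q → CohB1.support Q ⊆ Z → ∀ q : Q.presheaf.stalk η, q ≠ 0 →
      (∀ c ∈ IsLocalRing.maximalIdeal (X.presheaf.stalk η), c • q = 0) →
      (∀ b : Q.presheaf.stalk η, ∃ c : X.presheaf.stalk η, c • q = b) → P Q)
    {F : X.Modules} (hF : Coh.IsCoh F) (hF₀ : CohB1.support F ⊆ Z₀) : P F := by
  suffices h : ∀ (Z : Closeds X) (F : X.Modules), Coh.IsCoh F → CohB1.support F ⊆ Z → (Z : Set X) ⊆ Z₀ → P F from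
    h ⟨_, M1.isClosed_support hF.2⟩ F hF le_rfl hF₀
  intro Z
  induction Z using WellFoundedLT.induction with
  | ind Z ih =>
    intro F hF hFZ hZ₀
    by_cases hne : ∃ x, x ∈ Z
    swap
    · refine hzero F hF ((IsZero.iff_id_eq_zero F).2 ?_)
      refine Scheme.Modules.hom_ext _ _ fun U => ?_
      ext s
      exact M1.section_ext _ _ fun x hx =>
        ((M1.notMem_support_iff F x).1 (fun h => hne ⟨x, hFZ h⟩) _).trans
          ((M1.notMem_support_iff F x).1 (fun h => hne ⟨x, hFZ h⟩) _).symm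
    obtain ⟨x₀, hx₀⟩ := hne
    obtain ⟨η, hηZ, hmax⟩ := exists_maximal_point Z hx₀
    have hsmall : SmallOK P Z η := fun M hM hMZ hη => by
      refine ih ⟨CohB1.support M, M1.isClosed_support hM.2⟩ (lt_of_le_of_ne hMZ fun e => ?_) M hM le_rfl (hMZ.trans hZ₀)
      exact hη ((congrArg (fun Y : Closeds X => η ∈ Y) e).mpr hηZ)
    obtain ⟨L, hL⟩ := exists_maximalIdeal_pow_kills hF fun y hy h => hmax y (hFZ hy) h
    have hnil : ∀ g ∈ IsLocalRing.maximalIdeal (X.presheaf.stalk η), ∃ L : ℕ,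
        ∀ a : F.presheaf.stalk η, g ^ L • a = 0 :=
      exists_pow_kills hF fun y hy h => hmax y (hFZ hy) h
    have hcut : ∀ N, Coh.IsCoh (cutAt F η N) ∧ CohB1.support (cutAt F η N) ⊆ (Z : Set X) := fun N =>
      ⟨isCoh_cutAt F η N hF hnil, (support_subset_of_mono (cutι F η N)).trans hFZ⟩
    haveI : Module.Finite (X.presheaf.stalk η) (F.presheaf.stalk η) := M1.finite_stalk hF.1 hF.2 η
    have hbot : P (cutAt F η ⊥) := by
      refine hsmall _ (hcut ⊥).1 (hcut ⊥).2 ((M1.notMem_support_iff _ η).2 fun a => ?_)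
      refine stL_injective_of_mono (cutι F η ⊥) η ?_
      have : stL (cutι F η ⊥) η a ∈ (⊥ : Submodule _ (F.presheaf.stalk η)) :=
        (range_stL_cutι F η ⊥).le (LinearMap.mem_range_self _ a)
      rw [map_zero]
      exact (Submodule.mem_bot _).1 this
    obtain ⟨N, hN, hNmax⟩ := set_has_maximal_iff_noetherian.2 inferInstance
      {N : Submodule (X.presheaf.stalk η) (F.presheaf.stalk η) | P (cutAt F η N)} ⟨⊥, hbot⟩
    by_cases htop : N = ⊤
    · subst htop
      let S := ShortComplex.mk (cutι F η ⊤) (cokernel.π (cutι F η ⊤)) (cokernel.condition _)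
      have hc : Coh.IsCoh (cokernel (cutι F η ⊤)) := M1.isCoh_cokernel (hcut ⊤).1.1 hF _
      exact hmid S (shortExact_cokernel _) (hcut ⊤).1 hF hc (hFZ.trans hZ₀) hN
        (hsmall _ hc ((support_subset_of_epi (cokernel.π (cutι F η ⊤))).trans hFZ)
          ((notMem_support_cokernel_iff _ η).2 (LinearMap.range_eq_top.1 (range_stL_cutι F η ⊤))))
    exfalso
    -- an element just above `N`
    have hex : ∃ k : ℕ, ∀ c ∈ IsLocalRing.maximalIdeal (X.presheaf.stalk η) ^ k,
        ∀ a : F.presheaf.stalk η, c • a ∈ N :=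
      ⟨L, fun c hc a => by rw [hL c hc a]; exact N.zero_mem⟩
    classical
    obtain ⟨k, hk, hkmin⟩ : ∃ k, (∀ c ∈ IsLocalRing.maximalIdeal (X.presheaf.stalk η) ^ k,
        ∀ a : F.presheaf.stalk η, c • a ∈ N) ∧ ∀ k' < k, ¬ ∀ c ∈
          IsLocalRing.maximalIdeal (X.presheaf.stalk η) ^ k', ∀ a : F.presheaf.stalk η, c • a ∈ N :=
      ⟨Nat.find hex, Nat.find_spec hex, fun k' hk' => Nat.find_min hex hk'⟩
    obtain ⟨k', rfl⟩ : ∃ k', k = k' + 1 := by
      rcases k with _ | k'
      · exact absurd (Submodule.eq_top_iff'.2 fun a => by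
          have := hk 1 (by rw [pow_zero, Ideal.one_eq_top]; trivial) a
          rwa [one_smul] at this) htop
      · exact ⟨k', rfl⟩
    have hk' := hkmin k' (Nat.lt_succ_self _)
    push Not at hk'
    obtain ⟨c₀, hc₀, a₀, ha₀⟩ := hk'
    have hma : ∀ c ∈ IsLocalRing.maximalIdeal (X.presheaf.stalk η), c • c₀ • a₀ ∈ N := fun c hc => by
      rw [← mul_smul]
      exact hk _ (by rw [pow_succ']; exact Ideal.mul_mem_mul hc hc₀) a₀
    let N' := N ⊔ Submodule.span (X.presheaf.stalk η) {c₀ • a₀}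
    have haN' : c₀ • a₀ ∈ N' := Submodule.mem_sup_right (Submodule.mem_span_singleton_self _)
    have hlt : N < N' := lt_of_le_of_ne le_sup_left fun e => ha₀ (e ▸ haN')
    refine hNmax N' ?_ hlt
    obtain ⟨i, hi⟩ : ∃ i : cutAt F η N ⟶ cutAt F η N', i ≫ cutι F η N' = cutι F η N :=
      M1.Sub.exists_lift (cutι F η N) ⟨_, cutι F η N', inferInstance⟩ fun T s =>
        (exists_cutι_iff F η N' _).2 fun h => (le_sup_left : N ≤ N')
          ((exists_cutι_iff F η N _).1 ⟨s, rfl⟩ h)
    have : Mono i := mono_of_mono_fac hi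
    obtain ⟨b, hb⟩ : ∃ b, stL (cutι F η N') η b = c₀ • a₀ := (range_stL_cutι F η N').ge haN'
    let Q := cokernel i
    have hQ : Coh.IsCoh Q := M1.isCoh_cokernel (hcut N).1.1 (hcut N').1 i
    have hQZ : CohB1.support Q ⊆ (Z : Set X) :=
      (support_subset_of_epi (cokernel.π i)).trans (hcut N').2
    have hS := shortExact_cokernel i
    have hkerπ : ∀ d, stL (cokernel.π i) η d = 0 ↔ stL (cutι F η N') η d ∈ N := fun d => by
      constructor
      · intro hd
        obtain ⟨e, rfl⟩ := M1.exact_elem hS.exact η d hd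
        refine (range_stL_cutι F η N).le ⟨e, ?_⟩
        exact (congrArg (fun χ => stL χ η e) hi.symm).trans (stL_comp i (cutι F η N') η e)
      · intro hd
        obtain ⟨e, he⟩ := (range_stL_cutι F η N).ge hd
        have : d = stL i η e := stL_injective_of_mono (cutι F η N') η (by rw [← stL_comp, hi, he])
        rw [this, ← stL_comp, cokernel.condition, stL_zero]
    have hPQ : P Q := by
      refine hcyc Z η hηZ hZ₀ hsmall Q hQ hQZ (stL (cokernel.π i) η b) (fun h => ?_)
        (fun c hc => ?_) fun d => ?_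
      · exact ha₀ (hb ▸ (hkerπ b).1 h)
      · rw [← map_smul, hkerπ, map_smul, hb]
        exact hma c hc
      · obtain ⟨d', rfl⟩ := stL_surjective_of_epi (cokernel.π i) η d
        have hd' : stL (cutι F η N') η d' ∈ N' :=
          (range_stL_cutι F η N').le (LinearMap.mem_range_self _ d')
        obtain ⟨u, hu, v, hv, huv⟩ := Submodule.mem_sup.1 hd'
        obtain ⟨c, rfl⟩ := Submodule.mem_span_singleton.1 hv
        refine ⟨c, ?_⟩
        rw [← map_smul, ← sub_eq_zero, ← map_sub, hkerπ, map_sub, map_smul, hb, ← huv]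
        have : c • c₀ • a₀ - (u + c • c₀ • a₀) = -u := by abel
        rw [this]
        exact N.neg_mem hu
    exact hmid _ hS (hcut N).1 (hcut N').1 hQ ((hcut N').2.trans hZ₀) hN hPQ

/-- Dévissage on a subset. -/
theorem TwoOfThreeOn.holds [IsNoetherian X] {P : X.Modules → Prop} {Z₀ : Set X} (hP : TwoOfThreeOn P Z₀)
    (hG : ∀ η ∈ Z₀, Nonempty (HasModel P η)) {F : X.Modules} (hF : Coh.IsCoh F)
    (hF₀ : CohB1.support F ⊆ Z₀) : P F :=
  holds_of_cyclic hP.of_isZero hP.mid (fun Z η hη hZ hsmall Q hQ hQZ q hq hqm hgen => by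
    obtain ⟨m⟩ := hG η (hZ hη)
    exact prop_of_cyclic hP hZ hsmall m hη hQ hQZ hq hqm hgen) hF hF₀

/-- Dévissage. -/
theorem TwoOfThree.holds [IsNoetherian X] {P : X.Modules → Prop} (hP : TwoOfThree P)
    (hG : ∀ η : X, Nonempty (HasModel P η)) {F : X.Modules} (hF : Coh.IsCoh F) : P F :=
  hP.on.holds (fun η _ => hG η) hF (Set.subset_univ _)

end Groth.Agent.CohFound
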