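import Groth.Agent.Lib.CohFound.AmpleVan
import Groth.Agent.Lib.CohFound.Chow
import Groth.Agent.Lib.CohFound.Devissage
import Groth.Agent.Lib.RelAmple18.Generation

/-!
# Models with finite cohomology on proper schemes
-/

set_option autoImplicit false

universe u

open CategoryTheory TopologicalSpace Opposite CategoryTheory.Limits AlgebraicGeometry

namespace Groth.Agent.CohFound

section Opens

variable {X : Scheme.{u}}

/-- Vanishing on an open from vanishing for the restriction. -/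
theorem subsingleton_hc_open_of_restrict (M : X.Modules) (W : X.Opens) (p : ℕ)
    (h : Subsingleton (Hc ((abF (W : Scheme.{u})).obj (M.restrict W.ι)) p ⊤)) :
    Subsingleton (Hc ((abF X).obj M) p W) := by
  obtain ⟨e⟩ := nonempty_hc_abF_restrict W.ι M p ⊤
  rw [Scheme.Hom.image_top_eq_opensRange, Scheme.Opens.opensRange_ι] at e
  exact @Equiv.subsingleton _ _ e.symm.toEquiv h

/-- Vanishing passes to basic opens of an open subscheme. -/
theorem subsingleton_hc_basicOpen (M : X.Modules) (hM : Coh.IsQCoh M) (W : X.Opens)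
    [CompactSpace (W : Scheme.{u})] [QuasiSeparatedSpace (W : Scheme.{u})] (g : Γ(X, W)) (p : ℕ)
    (h : Subsingleton (Hc ((abF (W : Scheme.{u})).obj (M.restrict W.ι)) p ⊤)) :
    Subsingleton (Hc ((abF X).obj M) p (X.basicOpen g)) := by
  have : (M.restrict W.ι).IsQuasicoherent := M1.isQCoh_restrict hM W.ι
  let g' : Γ((W : Scheme.{u}), ⊤) := M1.ores (M1.image_ι_top W).le g
  obtain ⟨e⟩ := nonempty_HHon_basicOpen (M.restrict W.ι) g' p
  obtain ⟨e₂⟩ := nonempty_HHon_addEquiv (M.restrict W.ι) ((W : Scheme.{u}).basicOpen g') p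
  obtain ⟨e₃⟩ := nonempty_hc_abF_restrict W.ι M p ((W : Scheme.{u}).basicOpen g')
  have hsub : Subsingleton (Coh.HH (W : Scheme.{u}) (M.restrict W.ι) p) :=
    (subsingleton_HH_iff _ p).2 h
  have h1 : Subsingleton (LocalizedModule (Submonoid.powers g') (Coh.HH (W : Scheme.{u}) (M.restrict W.ι) p)) :=
    ⟨fun a b => by
      induction a using LocalizedModule.induction_on with
      | h m s =>
        induction b using LocalizedModule.induction_on with
        | h m' s' => exact LocalizedModule.mk_eq.2 ⟨1, Subsingleton.elim _ _⟩⟩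
  have h2 := @Equiv.subsingleton _ _ ((e₂.symm.trans e).toEquiv) h1
  have h3 := @Equiv.subsingleton _ _ e₃.symm.toEquiv h2
  have himg : W.ι ''ᵁ ((W : Scheme.{u}).basicOpen g') = X.basicOpen g := by
    rw [Scheme.image_basicOpen, Scheme.Opens.ι_appIso, Iso.refl_inv]
    refine (Scheme.basicOpen_res X g (homOfLE (M1.image_ι_top W).le).op).trans ?_
    rw [M1.image_ι_top]
    exact inf_eq_right.mpr (X.basicOpen_le g)
  rw [himg] at h3
  exact h3

end Opens

section Basis

variable {A : Type u} [CommRing A] {X : Scheme.{u}}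

/-- A nonempty finitely generated module killed by the maximal ideal has a basis over the residue
field. -/
theorem exists_residue_basis {R M : Type u} [CommRing R] [IsLocalRing R] [AddCommGroup M] [Module R M]
    [Module.Finite R M] (_hk : ∀ c ∈ IsLocalRing.maximalIdeal R, ∀ a : M, c • a = 0) (a₀ : M) (ha₀ : a₀ ≠ 0) :
    ∃ (r : ℕ) (e : Fin r → M), 0 < r ∧ (∀ a : M, ∃ c : Fin r → R, ∑ j, c j • e j = a) ∧
      ∀ c : Fin r → R, ∑ j, c j • e j = 0 → ∀ j, c j ∈ IsLocalRing.maximalIdeal R := by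
  classical
  have hex : ∃ r : ℕ, ∃ e : Fin r → M, Submodule.span R (Set.range e) = ⊤ := Module.Finite.exists_fin
  obtain ⟨e, he⟩ := Nat.find_spec hex
  refine ⟨Nat.find hex, e, Nat.pos_of_ne_zero fun h0 => ha₀ ?_, fun a => ?_, fun c hc j => ?_⟩
  · have : a₀ ∈ Submodule.span R (Set.range e) := (by rw [he]; exact Submodule.mem_top)
    have he' : Set.range e = ∅ := by
      rw [Set.range_eq_empty_iff]; exact ⟨fun i => (h0 ▸ i : Fin 0).elim0⟩
    rw [he', Submodule.span_empty] at this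
    exact (Submodule.mem_bot R).1 this
  · exact Submodule.mem_span_range_iff_exists_fun R |>.1 ((by rw [he]; exact Submodule.mem_top))
  · by_contra hj
    obtain ⟨u, hu⟩ := IsLocalRing.notMem_maximalIdeal.1 hj
    obtain ⟨k, hk'⟩ : ∃ k, Nat.find hex = k + 1 := ⟨Nat.find hex - 1, by have := j.2; omega⟩
    let e' : Fin (k + 1) → M := e ∘ Fin.cast hk'.symm
    let j' : Fin (k + 1) := Fin.cast hk' j
    refine Nat.find_min hex (m := k) (by omega) ⟨e' ∘ j'.succAbove, top_le_iff.1 ?_⟩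
    rw [← he, Submodule.span_le]
    rintro _ ⟨i, rfl⟩
    have hmem : ∀ i, i ≠ j → e i ∈ Submodule.span R (Set.range (e' ∘ j'.succAbove)) := fun i hi => by
      obtain ⟨l, hl⟩ := Fin.exists_succAbove_eq (x := Fin.cast hk' i) (y := j')
        (fun h => hi (Fin.ext (by simpa [j'] using congrArg Fin.val h)))
      exact Submodule.subset_span ⟨l, by simp [e', hl]⟩
    by_cases hi : i = j
    · subst hi
      have hsum := Finset.add_sum_erase _ (fun i => c i • e i) (Finset.mem_univ i)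
      rw [hc] at hsum
      have : e i = (↑u⁻¹ : R) • -(∑ l ∈ Finset.univ.erase i, c l • e l) := by
        rw [← eq_neg_of_add_eq_zero_left hsum, ← hu, smul_smul, Units.inv_mul, one_smul]
      rw [this]
      exact Submodule.smul_mem _ _ (Submodule.neg_mem _ (Submodule.sum_mem _ fun l hl =>
        Submodule.smul_mem _ _ (hmem l (Finset.ne_of_mem_erase hl))))
    · exact hmem i hi

end Basis

section Model

variable {A : Type u} [CommRing A] [IsNoetherianRing A] {X : Scheme.{u}}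
  (f₀ : X ⟶ Spec (CommRingCat.of A)) [IsProper f₀]

/-- Finite cohomology in all degrees. -/
def FinP (M : X.Modules) : Prop := ∀ n, HFin (Coh.toGlobal f₀) M n ⊤

omit [IsProper f₀] in
theorem twoOfThree_finP : TwoOfThree (FinP f₀) where
  of_isZero M _ hM n := HFin.of_subsingleton (subsingleton_of_forall_eq 0 fun x => by
    rw [← mp_id ((abF X).obj M) n ⊤ x, ← CategoryTheory.Functor.map_id, (IsZero.iff_id_eq_zero M).1 hM,
      Functor.map_zero, mp_zero])
  mid S hS _ _ _ h₁ h₃ n := HFin.of_exact (h₁ n) (h₃ n) (equivariant_mp S.f n ⊤) (equivariant_mp S.g n ⊤)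
    (fun x hx => exact₂ (shortExact_abF hS) n ⊤ x hx)
  left S hS _ _ _ h₂ h₃ n := by
    cases n with
    | zero => exact (h₂ 0).of_injective (equivariant_mp S.f 0 ⊤) (mp_f_injective (shortExact_abF hS) ⊤)
    | succ n =>
      exact HFin.of_exact (h₃ n) (h₂ (n + 1)) (equivariant_delta (shortExact_abF hS) n ⊤)
        (equivariant_mp S.f (n + 1) ⊤) (fun x hx => exact₁ (shortExact_abF hS) n ⊤ x hx)
  right S hS _ _ _ h₁ h₂ n := HFin.of_exact (h₂ n) (h₁ (n + 1)) (equivariant_mp S.g n ⊤)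
    (equivariant_delta (shortExact_abF hS) n ⊤) (fun x hx => exact₃ (shortExact_abF hS) n ⊤ x hx)

omit [IsNoetherianRing A] [IsProper f₀] in
theorem finP_of_sigma {r : ℕ} (hr : 0 < r) (Q : X.Modules) (h : FinP f₀ (∐ fun _ : Fin r => Q)) :
    FinP f₀ Q := fun n => by
  classical
  let π : (∐ fun _ : Fin r => Q) ⟶ Q := Sigma.desc fun j => if j = ⟨0, hr⟩ then 𝟙 Q else 0
  refine (h n).of_surjective (equivariant_mp π n ⊤) fun y =>
    ⟨mp ((abF X).map (Sigma.ι (fun _ : Fin r => Q) ⟨0, hr⟩)) n ⊤ y, ?_⟩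
  rw [← mp_comp, ← CategoryTheory.Functor.map_comp, Sigma.ι_desc, if_pos rfl, CategoryTheory.Functor.map_id]
  exact mp_id _ n ⊤ y

omit [IsNoetherianRing A] in
theorem toGlobal_morphismRestrict {X X' : Scheme.{u}} (π : X' ⟶ X) {V : X.Opens} (hV : IsAffineOpen V)
    (b : Γ(X, V)) (h : (⊤ : (π ⁻¹ᵁ V : Scheme.{u}).Opens) ≤ ⊤) :
    M1.ores h (Coh.toGlobal ((π ∣_ V) ≫ hV.isoSpec.hom) b) =
      M1.ores (M1.image_ι_top (π ⁻¹ᵁ V)).le (π.app V b) := by
  refine (M1.ores_id h _).trans ?_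
  have h2 : hV.isoSpec.hom.appTop ((Scheme.ΓSpecIso (CommRingCat.of Γ(X, V))).inv b) = V.topIso.inv b := by
    rw [hV.isoSpec_hom_appTop]
    exact congrArg V.topIso.inv (ConcreteCategory.congr_hom (Scheme.ΓSpecIso (CommRingCat.of Γ(X, V))).inv_hom_id b)
  have h3 : (π ∣_ V).appTop (V.topIso.inv b) =
      π.appLE V ((π ⁻¹ᵁ V).ι ''ᵁ ⊤) (M1.image_ι_top (π ⁻¹ᵁ V)).le b := by
    refine (ConcreteCategory.congr_hom (morphismRestrict_app' π V ⊤) _).trans ?_
    exact ConcreteCategory.congr_hom (π.map_appLE (image_morphismRestrict_preimage π V ⊤).le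
      (eqToHom (Scheme.Opens.ι_image_top V)).op) b
  exact (congrArg (π ∣_ V).appTop h2).trans h3

include f₀ in
/-- Over an affine open of the target, large powers of a suitable ample module have no higher
cohomology and a finite module of sections. -/
theorem exists_local_data {X' : Scheme.{u}} (π : X' ⟶ X) [IsProper π] {L : X'.Modules}
    (hL : CohB1.IsAmple L) {V : X.Opens} (hV : IsAffineOpen V) :
    ∃ d k₀ : ℕ, 0 < d ∧ ∀ m : ℕ, d ∣ m → d * k₀ ≤ m →
      (∀ (g : Γ(X, V)) (p : ℕ),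
        Subsingleton (Hc ((abF X').obj (CohB1.tensorPow L m)) (p + 1) (π ⁻¹ᵁ X.basicOpen g))) ∧
      Module.Finite Γ(X, V) Γ((Scheme.Modules.pushforward π).obj (CohB1.tensorPow L m), V) := by
  have : IsLocallyNoetherian X := LocallyOfFiniteType.isLocallyNoetherian f₀
  have : IsNoetherianRing Γ(X, V) := IsLocallyNoetherian.component_noetherian ⟨V, hV⟩
  let W := π ⁻¹ᵁ V
  let q : (W : Scheme.{u}) ⟶ Spec (CommRingCat.of Γ(X, V)) := (π ∣_ V) ≫ hV.isoSpec.hom
  have : IsProper (π ∣_ V) := inferInstance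
  have : IsProper q := inferInstance
  have : CompactSpace (W : Scheme.{u}) := QuasiCompact.compactSpace_of_compactSpace q
  let LW := (Scheme.Modules.pullback W.ι).obj L
  have hLW : CohB1.IsAmple LW := Amp.isAmple_pullback_of_isInducing W.ι W.ι.isOpenEmbedding.isInducing hL
  have : QuasiSeparatedSpace (W : Scheme.{u}) := Amp.quasiSeparatedSpace_of_isAmple hLW
  obtain ⟨d, hd, hvan⟩ := exists_vanishing_of_isAmple q hLW
  obtain ⟨k₀, hk₀⟩ := hvan (Coh.structureModule (W : Scheme.{u}))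
    (M1.isCoh_structureModule (W : Scheme.{u}))
  refine ⟨d, k₀, hd, fun m hdm hm => ?_⟩
  obtain ⟨k, rfl⟩ := hdm
  let M := CohB1.tensorPow L (d * k)
  have hMinv : PicF.IsInvertible M := Amp.isInvertible_tensorPow hL.1 _
  have hMcoh : Coh.IsCoh M := isCoh_of_isFinLocFree (M2.isFinLocFree_of_isInvertible hMinv)
  let e : M.restrict W.ι ≅ CohB1.tensorMod (Coh.structureModule (W : Scheme.{u})) (CohB1.tensorPow LW (d * k)) :=
    (Scheme.Modules.restrictFunctorIsoPullback W.ι).app M ≪≫ M2.pullTensorPowIso W.ι L _ ≪≫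
      (M2.tensorLUnit _).symm
  refine ⟨fun g p => ?_, ?_⟩
  · have hv := subsingleton_hc_of_iso e.symm (p + 1) ⊤
      (hk₀ k (Nat.le_of_mul_le_mul_left hm hd) (p + 1) p.succ_pos)
    have := subsingleton_hc_basicOpen M hMcoh.1 W (π.app V g) (p + 1) hv
    rwa [← Scheme.preimage_basicOpen] at this
  · have hfin : HFin (Coh.toGlobal q) (M.restrict W.ι) 0 ⊤ :=
      hFin_of_isAmple q hLW (M.restrict W.ι)
        ⟨M1.isQCoh_restrict hMcoh.1 W.ι, M1.isFT_restrict hMcoh.2 W.ι⟩ 0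
    let := hMod (Coh.toGlobal q) (M.restrict W.ι) 0 ⊤
    have : Module.Finite Γ(X, V) (Hc ((abF (W : Scheme.{u})).obj (M.restrict W.ι)) 0 ⊤) := hfin
    let T : Hc ((abF (W : Scheme.{u})).obj (M.restrict W.ι)) 0 ⊤ →+
        Γ((Scheme.Modules.pushforward π).obj M, V) :=
      (M1.mres M (M1.image_ι_top W).ge).hom.comp (hc0 _ ⊤).toAddMonoidHom
    have hT : ∀ (b : Γ(X, V)) x, T (b • x) = b • T x := by
      intro b x
      have h1 : hc0 ((abF (W : Scheme.{u})).obj (M.restrict W.ι)) ⊤ (b • x) =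
          (gEnd (M.restrict W.ι) (Coh.toGlobal q b)).hom.app (op ⊤)
            (hc0 ((abF (W : Scheme.{u})).obj (M.restrict W.ι)) ⊤ x) := hc0_mp _ _ _
      change M1.mres M _ (hc0 _ ⊤ (b • x)) =
        π.app V b • (show Γ(M, W) from M1.mres M _ (hc0 _ ⊤ x))
      rw [h1]
      let s : Γ(M, W.ι ''ᵁ ⊤) := hc0 ((abF (W : Scheme.{u})).obj (M.restrict W.ι)) ⊤ x
      change M1.mres M (M1.image_ι_top W).ge (M1.ores (le_top : (⊤ : (W : Scheme.{u}).Opens) ≤ ⊤)
        (Coh.toGlobal q b) • (show Γ(M.restrict W.ι, ⊤) from s)) = π.app V b • M1.mres M _ s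
      rw [toGlobal_morphismRestrict π hV b le_top]
      refine (congrArg _ (M1.restrict_ι_smul M _ _)).trans ?_
      rw [M1.mres_smul, M1.ores_ores, M1.ores_id]
      rfl
    let Tl : Hc ((abF (W : Scheme.{u})).obj (M.restrict W.ι)) 0 ⊤ →ₗ[Γ(X, V)]
        Γ((Scheme.Modules.pushforward π).obj M, V) := { T with map_smul' := hT }
    refine Module.Finite.of_surjective Tl fun y => ?_
    refine ⟨(hc0 _ ⊤).symm (M1.mres M (M1.image_ι_top W).le y), ?_⟩
    refine (congrArg (M1.mres M (M1.image_ι_top W).ge) ((hc0 ((abF (W : Scheme.{u})).obj (M.restrict W.ι)) ⊤).apply_symm_apply _)).trans ?_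
    exact (M1.mres_mres M _ _ y).trans (M1.mres_id M _ y)

/-- The model at a point. -/
theorem nonempty_hasModel [IsNoetherian X] (η : X) : Nonempty (HasModel (FinP f₀) η) := by
  classical
  obtain ⟨X', π, z, N, j, hπ, hj, hjf, hz, hrange, hkill⟩ := exists_chow f₀ η
  let q' := π ≫ f₀
  have : IsProper π := hπ
  have : IsClosedImmersion j := hj
  let L := (Scheme.Modules.pullback j).obj (_root_.Twist.twist (CohB1.polyGrading N A) (1 : ℤ))
  have hL : CohB1.IsAmple L := Amp.isAmple_pullback_of_isAffineHom j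
    (Twist.isAmple_twist (CohB1.polyGrading N A) _ (fun i => ProjSpace.X_mem' N A i)
      (ProjSpace.irrelevant_le_span N A) (d := 1) one_pos)
  choose V hV hxV using fun x : X => exists_isAffineOpen_mem_and_subset (x := x) (U := ⊤) trivial
  obtain ⟨S, hS⟩ := isCompact_univ.elim_finite_subcover (fun x => (V x : Set X)) (fun x => (V x).isOpen)
    fun x _ => Set.mem_iUnion.2 ⟨x, (hxV x).1⟩
  choose d k₀ hd hdata using fun x : S => exists_local_data f₀ π hL (hV x.1)
  obtain ⟨N₀, hN₀⟩ := RA.exists_gen_pow hL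
  let D := ∏ x : S, d x
  have hD : 0 < D := Finset.prod_pos fun x _ => hd x
  let m := D * (N₀ + Finset.univ.sum k₀)
  have hdm : ∀ x : S, d x ∣ m ∧ d x * k₀ x ≤ m := fun x => by
    have h1 : d x ∣ D := Finset.dvd_prod_of_mem d (Finset.mem_univ x)
    refine ⟨h1.mul_right _, Nat.mul_le_mul (Nat.le_of_dvd hD h1) ?_⟩
    exact (Finset.single_le_sum (fun i _ => Nat.zero_le (k₀ i)) (Finset.mem_univ x)).trans (Nat.le_add_left _ _)
  have hNm : N₀ ≤ m := (Nat.le_add_right _ _).trans (Nat.le_mul_of_pos_left _ hD)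
  let M := CohB1.tensorPow L m
  have hMinv : PicF.IsInvertible M := Amp.isInvertible_tensorPow hL.1 m
  have hMcoh : Coh.IsCoh M := isCoh_of_isFinLocFree (M2.isFinLocFree_of_isInvertible hMinv)
  let G := (Scheme.Modules.pushforward π).obj M
  have hGq : Coh.IsQCoh G := M1.isQCoh_push π hMcoh.1
  have hSmem : ∀ y : X, ∃ x : S, y ∈ V x.1 := fun y => by
    obtain ⟨x, hx, hy⟩ := Set.mem_iUnion₂.1 (hS (Set.mem_univ y))
    exact ⟨⟨x, hx⟩, hy⟩
  have hG : Coh.IsCoh G := ⟨hGq, by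
    refine M1.isFT_of_openImmersion_cover (fun x : S => (hV x.1).fromSpec) (fun y => ?_) fun x => ?_
    · obtain ⟨x, hx⟩ := hSmem y
      exact ⟨x, by rw [IsAffineOpen.range_fromSpec]; exact hx⟩
    · exact (M1.isFT_iff_finite_spec _ (M1.isQCoh_fromSpec hGq (hV x.1))).mpr
        (haveI := (hdata x m (hdm x).1 (hdm x).2).2; Module.Finite.equiv (M1.affineSecEquiv G (hV x.1)).symm)⟩
  have hsupp : CohB1.support G ⊆ closure {η} := fun x hx => by
    by_contra hxZ
    refine hx ⟨fun a b => ?_⟩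
    have h0 : ∀ a : G.presheaf.stalk x, a = 0 := fun a => by
      obtain ⟨U, hU, s, rfl⟩ := G.presheaf.exists_germ_eq a
      let O : X.Opens := ⟨(closure ({η} : Set X))ᶜ, isClosed_closure.isOpen_compl⟩
      rw [← M1.germ_mres G (inf_le_left : U ⊓ O ≤ U) (x := x) ⟨hU, hxZ⟩]
      have h0 : M1.mres G (inf_le_left : U ⊓ O ≤ U) s = 0 :=
        M1.section_ext (M := M) (U := π ⁻¹ᵁ (U ⊓ O)) _ _ fun y hy => absurd (hrange ⟨y, rfl⟩) hy.2
      rw [h0, map_zero]
    rw [h0 a, h0 b]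
  have hkills : ∀ c ∈ IsLocalRing.maximalIdeal (X.presheaf.stalk η), ∀ a : G.presheaf.stalk η, c • a = 0 := by
    intro c hc a
    obtain ⟨U, hU, r, rfl⟩ := X.presheaf.exists_germ_eq c
    obtain ⟨U', hU', s, rfl⟩ := G.presheaf.exists_germ_eq a
    rw [← X.presheaf.germ_res_apply (homOfLE (inf_le_left : U ⊓ U' ≤ U)) η ⟨hU, hU'⟩ r,
      ← M1.germ_mres G (inf_le_right : U ⊓ U' ≤ U') (x := η) ⟨hU, hU'⟩ s]
    refine (M1.germ_smul G _ _ _).symm.trans ?_
    have he : X.evaluation (U ⊓ U') η ⟨hU, hU'⟩ (X.presheaf.map (homOfLE inf_le_left).op r) = 0 := by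
      change X.residue η (X.presheaf.germ _ η _ _) = 0
      refine (congrArg (X.residue η) (X.presheaf.germ_res_apply _ _ _ _)).trans ?_
      exact (IsLocalRing.residue_eq_zero_iff _).2 hc
    have h0 := hkill (U ⊓ U') ⟨hU, hU'⟩ _ he
    change G.presheaf.germ _ η _ (π.app (U ⊓ U') _ • (show Γ(M, π ⁻¹ᵁ (U ⊓ U')) from _)) = 0
    rw [h0, zero_smul]
    exact map_zero _
  obtain ⟨a₀, ha₀⟩ : ∃ a : G.presheaf.stalk η, a ≠ 0 := by
    obtain ⟨t, ht⟩ := hN₀ m hNm z
    let s : Γ(G, ⊤) := show Γ(M, π ⁻¹ᵁ ⊤) from Amp.gval t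
    refine ⟨G.presheaf.germ ⊤ η trivial s, fun h0 => ?_⟩
    have hgen := (Amp.mem_genLocus_iff hMinv t).1 ht
    obtain ⟨V', hV', i₁, i₂, he⟩ := G.presheaf.germ_eq η (U := ⊤) (V := ⊤) trivial trivial s 0
      (h0.trans (map_zero _).symm)
    have hzV : z ∈ π ⁻¹ᵁ V' := show π z ∈ V' from hz.symm ▸ hV'
    have hs0 : M1.mres M (le_top : π ⁻¹ᵁ V' ≤ ⊤) (Amp.gval t) = 0 := he.trans (map_zero _)
    have : Amp.gm M z (U := ⊤) trivial (Amp.gval t) = 0 := by
      change M.presheaf.germ ⊤ z trivial (Amp.gval t) = 0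
      rw [← M1.germ_mres M (le_top : π ⁻¹ᵁ V' ≤ ⊤) hzV, hs0, map_zero]
    rw [this] at hgen
    exact Amp.not_gen_zero hMinv z hgen
  have : Module.Finite (X.presheaf.stalk η) (G.presheaf.stalk η) := M1.finite_stalk hG.1 hG.2 η
  obtain ⟨r, e, hr, hspan, hindep⟩ := exists_residue_basis hkills a₀ ha₀
  refine ⟨{ G := G, r := r, isCoh := hG, supp := hsupp, pos := hr, e := e, kills := hkills, span := hspan,
            indep := hindep, prop := fun n => ?_, of_sigma := fun Q _ h => finP_of_sigma f₀ hr Q h }⟩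
  let B : Set (Opens (sp X)) := {U | ∃ (x : S) (g : Γ(X, V x.1)), X.basicOpen g = U}
  have hB : Opens.IsBasis B := by
    refine Opens.isBasis_iff_nbhd.2 fun {U y} hy => ?_
    obtain ⟨x, hx⟩ := hSmem y
    obtain ⟨g, hg, hyg⟩ := (hV x.1).exists_basicOpen_le ⟨y, hy⟩ hx
    exact ⟨_, ⟨x, g, rfl⟩, hyg, hg⟩
  refine (hFin_push_iff π (Coh.toGlobal f₀) M hB n (fun p _ U hU => ?_) ⊤).2 ?_
  · obtain ⟨x, g, rfl⟩ := hU
    exact (hdata x m (hdm x).1 (hdm x).2).1 g p
  · have : IsProper (π ≫ f₀) := inferInstance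
    exact hFin_of_isAmple (π ≫ f₀) hL M hMcoh n

end Model

end Groth.Agent.CohFound
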