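import Groth.Agent.Lib.CohFound.DevissageModel
import Groth.Agent.Lib.CohFound.ProperModel
import Groth.Prelude.Def_CohB1

/-!
# Forms of dévissage
-/

set_option autoImplicit false

universe u

open CategoryTheory Limits AlgebraicGeometry TopologicalSpace Opposite

namespace Groth.Agent.CohFound

variable {X : Scheme.{u}}

/-- The zero object from two-out-of-three and one module with the property. -/
theorem prop_of_isZero {P : X.Modules → Prop} (hP : ∀ M N : X.Modules, Nonempty (M ≅ N) → P M → P N)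
    {Z₀ : Set X}
    (h : ∀ S : ShortComplex X.Modules, S.ShortExact → Coh.IsCoh S.X₁ → Coh.IsCoh S.X₂ → Coh.IsCoh S.X₃ →
      CohB1.support S.X₂ ⊆ Z₀ → P S.X₂ → P S.X₃ → P S.X₁)
    {G : X.Modules} (hG : Coh.IsCoh G) (hG₀ : CohB1.support G ⊆ Z₀) (hPG : P G) [IsNoetherian X]
    (M : X.Modules) (hM : IsZero M) : P M := by
  have hS := shortExact_kernel (𝟙 G)
  have hz : IsZero (kernel (𝟙 G)) := isZero_kernel_of_mono (𝟙 G)
  exact hP _ _ ⟨hz.iso hM⟩ (h _ hS (M1.isCoh_kernel hG hG.1 (𝟙 G)) hG hG hG₀ hPG hPG)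

/-- A model from a module killed by the reduced ideal with stalk of length one. -/
theorem nonempty_model_of_length_one {P : X.Modules → Prop}
    (hP : ∀ M N : X.Modules, Nonempty (M ≅ N) → P M → P N) (G : X.Modules) (hG : Coh.IsCoh G) (η : X)
    (Z₁ : Closeds X) (hZ₁ : (Z₁ : Set X) = closure {η}) (hsupp : CohB1.support G ⊆ Z₁)
    (hk : ClSub.KilledByIdeal (Scheme.IdealSheafData.vanishingIdeal Z₁) G)
    (hlen : Module.length (X.presheaf.stalk η) (G.presheaf.stalk η) = 1) (hPG : P G) :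
    Nonempty (HasModel P η) := by
  have hs : IsSimpleModule (X.presheaf.stalk η) (G.presheaf.stalk η) := Module.length_eq_one_iff.1 hlen
  have := IsSimpleModule.nontrivial (X.presheaf.stalk η) (G.presheaf.stalk η)
  obtain ⟨g, hg⟩ := exists_ne (0 : G.presheaf.stalk η)
  refine ⟨HasModel.ofCyclic hP G hG (hsupp.trans hZ₁.le) g hg (fun a => ?_)
    (kills_of_killedByIdeal G hG.1 η Z₁ hZ₁ hk) hPG⟩
  exact Submodule.mem_span_singleton.1 ((IsSimpleModule.span_singleton_eq_top (X.presheaf.stalk η) hg).symm ▸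
    Submodule.mem_top)

/-- A model from a module killed by the reduced ideal, for properties closed under summands. -/
theorem nonempty_model_of_mem_support [IsLocallyNoetherian X] {P : X.Modules → Prop}
    (hsum : ∀ (M N : X.Modules) (i : N ⟶ M) (r : M ⟶ N), i ≫ r = 𝟙 N → Coh.IsCoh M → Coh.IsCoh N →
      P M → P N) (G : X.Modules) (hG : Coh.IsCoh G) (η : X)
    (Z₁ : Closeds X) (hZ₁ : (Z₁ : Set X) = closure {η}) (hsupp : CohB1.support G ⊆ Z₁)
    (hk : ClSub.KilledByIdeal (Scheme.IdealSheafData.vanishingIdeal Z₁) G)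
    (hη : η ∈ CohB1.support G) (hPG : P G) : Nonempty (HasModel P η) := by
  classical
  have hkills := kills_of_killedByIdeal G hG.1 η Z₁ hZ₁ hk
  obtain ⟨a₀, ha₀⟩ : ∃ a : G.presheaf.stalk η, a ≠ 0 := by
    by_contra h
    push Not at h
    exact (M1.notMem_support_iff G η).2 h hη
  have : Module.Finite (X.presheaf.stalk η) (G.presheaf.stalk η) := M1.finite_stalk hG.1 hG.2 η
  obtain ⟨r, e, hr, hspan, hindep⟩ := exists_residue_basis hkills a₀ ha₀
  refine ⟨{ G := G, r := r, isCoh := hG, supp := hsupp.trans hZ₁.le, pos := hr, e := e, kills := hkills,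
            span := hspan, indep := hindep, prop := hPG, of_sigma := fun Q hQ h => ?_ }⟩
  have hS : Coh.IsCoh (∐ fun _ : Fin r => Q) := by
    have hfree := M1.isFP_of_isFinLocFree (M2.isFinLocFree_of_ofRank (M2.isFinLocFreeOfRank_freeMod X r))
    exact ⟨M1.isQCoh_of_isIso (M2.freeModTensorIso X r Q) (M2.isQCoh_tensor (M1.isFP_isQCoh hfree) hQ.1),
      M1.isFT_of_isIso (M2.freeModTensorIso X r Q)
        (M2.isFT_tensor (M1.isFP_isQCoh hfree) hQ.1 (M1.isFP_isFT hfree) hQ.2)⟩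
  exact hsum _ Q (Sigma.ι (fun _ : Fin r => Q) ⟨0, hr⟩)
    (Sigma.desc fun j => if j = ⟨0, hr⟩ then 𝟙 Q else 0) (by rw [Sigma.ι_desc, if_pos rfl]) hS hQ h

variable [IsNoetherian X]

/-- Two out of three on all of a Noetherian scheme, models with residue field stalks. -/
theorem holds_twoOfThree [Nonempty X] (P : X.Modules → Prop)
    (hP : ∀ M N : X.Modules, Nonempty (M ≅ N) → P M → P N)
    (h₁ : ∀ S : ShortComplex X.Modules, S.ShortExact → Coh.IsCoh S.X₁ → Coh.IsCoh S.X₂ → Coh.IsCoh S.X₃ →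
      (P S.X₁ → P S.X₂ → P S.X₃) ∧ (P S.X₁ → P S.X₃ → P S.X₂) ∧ (P S.X₂ → P S.X₃ → P S.X₁))
    (h₂ : ∀ (Z : Scheme.{u}) (i : Z ⟶ X) [IsClosedImmersion i] [IsIntegral Z],
      ∃ G : X.Modules, Coh.IsCoh G ∧ CohB1.support G = Set.range i ∧
        Nonempty (↑(G.presheaf.stalk (i (genericPoint Z))) ≃ₗ[X.presheaf.stalk (i (genericPoint Z))]
          IsLocalRing.ResidueField (X.presheaf.stalk (i (genericPoint Z)))) ∧ P G)
    (M : X.Modules) (hM : Coh.IsCoh M) : P M := by
  have hmodel : ∀ η : X, Nonempty (HasModel P η) := fun η => by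
    obtain ⟨Z, i, hi, hZ, hr, hη, -⟩ := exists_integral_point η
    obtain ⟨G, hG, hs, hκ, hPG⟩ := h₂ Z i
    subst hη
    exact nonempty_model_of_residueField hP G hG (hs.trans hr).le hκ hPG
  have hX : TwoOfThree P :=
    { of_isZero := fun M _ hM => by
        obtain ⟨m⟩ := hmodel (Classical.arbitrary X)
        exact prop_of_isZero hP (Z₀ := Set.univ) (fun S hS a b c _ => (h₁ S hS a b c).2.2) m.isCoh
          (Set.subset_univ _) m.prop M hM
      mid := fun S hS a b c => (h₁ S hS a b c).2.1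
      left := fun S hS a b c => (h₁ S hS a b c).2.2
      right := fun S hS a b c => (h₁ S hS a b c).1 }
  exact hX.holds hmodel hM

/-- Two out of three on an irreducible closed subset. -/
theorem holds_irreducible (Z₀ : Set X) (hZ₀ : IsClosed Z₀) (ξ : X) (hξ : ξ ∈ Z₀ ∧ closure {ξ} = Z₀)
    (P : X.Modules → Prop) (hP : ∀ M N : X.Modules, Nonempty (M ≅ N) → P M → P N)
    (h₁ : ∀ S : ShortComplex X.Modules, S.ShortExact → Coh.IsCoh S.X₁ → Coh.IsCoh S.X₂ → Coh.IsCoh S.X₃ →
      CohB1.support S.X₂ ⊆ Z₀ →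
      (P S.X₁ → P S.X₂ → P S.X₃) ∧ (P S.X₁ → P S.X₃ → P S.X₂) ∧ (P S.X₂ → P S.X₃ → P S.X₁))
    (h₂ : ∀ (Z : Scheme.{u}) (i : Z ⟶ X), IsClosedImmersion i → IsIntegral Z →
      Set.range i ⊆ Z₀ → Set.range i ≠ Z₀ →
      ∀ (I : Z.Modules) (ι : I ⟶ Coh.structureModule Z), Mono ι → Coh.IsQCoh I → P ((Coh.push i).obj I))
    (h₃ : ∃ G : X.Modules, Coh.IsCoh G ∧ CohB1.support G = Z₀ ∧
      Nonempty (↑(G.presheaf.stalk ξ) ≃ₗ[X.presheaf.stalk ξ] IsLocalRing.ResidueField (X.presheaf.stalk ξ)) ∧ P G)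
    (M : X.Modules) (hM : Coh.IsCoh M) (hsupp : CohB1.support M ⊆ Z₀) : P M := by
  obtain ⟨G, hG, hGs, hκ, hPG⟩ := h₃
  have hX : TwoOfThreeOn P Z₀ :=
    { of_isZero := fun M _ hM => prop_of_isZero hP (fun S hS a b c d => (h₁ S hS a b c d).2.2) hG hGs.le hPG M hM
      mid := fun S hS a b c d => (h₁ S hS a b c d).2.1
      left := fun S hS a b c d => (h₁ S hS a b c d).2.2
      right := fun S hS a b c d => (h₁ S hS a b c d).1 }
  refine hX.holds (fun η hη => ?_) hM hsupp
  by_cases h : η = ξ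
  · subst h
    exact nonempty_model_of_residueField hP G hG (hGs.le.trans hξ.2.ge) hκ hPG
  obtain ⟨Z, i, hi, hZ, hr, hηi, -⟩ := exists_integral_point η
  have hle : Set.range i ⊆ Z₀ := hr ▸ hZ₀.closure_subset_iff.2 (Set.singleton_subset_iff.2 hη)
  have hne : Set.range i ≠ Z₀ := fun e => h <| by
    have h1 : IsGenericPoint η Z₀ := hr.symm.trans e
    exact h1.eq hξ.2
  have hPO := h₂ Z i hi hZ hle hne (Coh.structureModule Z) (𝟙 _) inferInstance
    (M1.isQCoh_structureModule Z)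
  subst hηi
  obtain ⟨g, hg, hgen, hkill⟩ := exists_cyclic_push_structureModule i
  have hZn : IsLocallyNoetherian Z := LocallyOfFiniteType.isLocallyNoetherian i
  exact ⟨HasModel.ofCyclic hP _ (isCoh_push_closedImm i (M1.isCoh_structureModule Z))
    ((support_push_subset i _).trans hr.le) g hg hgen hkill hPO⟩

end Groth.Agent.CohFound
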