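import Groth.Agent.Lib.ModM1.ClosedImm
import Groth.Agent.Lib.ModM1.Coh
import Groth.Agent.Lib.TensorMod.PullTensor
import Groth.Agent.Lib.TensorMod.QCohTensor
import Groth.Agent.Lib.PushFin12.Basic

/-!
# Projection formula along closed immersions
-/

universe u

open CategoryTheory Limits AlgebraicGeometry TopologicalSpace Opposite TensorProduct

set_option backward.isDefEq.respectTransparency false

namespace Groth.Agent.CohFound

variable {X Z : Scheme.{u}} (i : Z ⟶ X) [IsClosedImmersion i]

/-- The ideal of a closed immersion kills direct images. -/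
theorem ker_smul_push (N : Z.Modules) (U : X.affineOpens) (a : Γ(X, U.1)) (ha : a ∈ i.ker.ideal U)
    (s : Γ((Scheme.Modules.pushforward i).obj N, U.1)) : a • s = 0 := by
  have ha' : i.app U.1 a = 0 := RingHom.mem_ker.1 (by rwa [Scheme.Hom.ker_apply] at ha)
  change i.app U.1 a • (show Γ(N, i ⁻¹ᵁ U.1) from s) = 0
  rw [ha', zero_smul]

/-- The ideal of a closed immersion kills tensor products with a direct image. -/
theorem ker_smul_tensor (G E : X.Modules) (hG : Coh.IsQCoh G)
    (h : ∀ (U : X.affineOpens) (a : Γ(X, U.1)), a ∈ i.ker.ideal U → ∀ s : Γ(G, U.1), a • s = 0)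
    (U : X.affineOpens) (a : Γ(X, U.1)) (ha : a ∈ i.ker.ideal U)
    (s : Γ(CohB1.tensorMod G E, U.1)) : a • s = 0 := by
  haveI := hG
  refine M1.section_ext _ _ fun x hx => ?_
  rw [M1.germ_smul, map_zero]
  have hkill : ∀ m : G.presheaf.stalk x, X.presheaf.germ U.1 x hx a • m = 0 := fun m => by
    obtain ⟨c, m₀, hc, hm⟩ := M1.exists_germ_smul_eq G U.2 hx m
    refine hc.smul_eq_zero.1 ?_
    rw [smul_comm, hm, ← M1.germ_smul, h U a ha m₀, map_zero]
  apply (M2.stalkEquiv G E x).injective
  rw [map_smul, map_zero]
  generalize M2.stalkEquiv G E x ((CohB1.tensorMod G E).presheaf.germ U.1 x hx s) = z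
  induction z using TensorProduct.induction_on with
  | zero => exact smul_zero _
  | tmul p q => rw [TensorProduct.smul_tmul', hkill, TensorProduct.zero_tmul]
  | add p q hp hq => rw [smul_add, hp, hq, add_zero]

/-- Direct image along a closed immersion reflects isomorphisms. -/
theorem isIso_of_isIso_push {N N' : Z.Modules} (φ : N ⟶ N')
    [IsIso ((Scheme.Modules.pushforward i).map φ)] : IsIso φ := by
  rw [M1.isIso_iff_stalk]
  intro z
  have hp : ∀ M : Z.Modules, Function.Bijective
      (TopCat.Presheaf.stalkPushforward AddCommGrpCat.{u} i.base M.presheaf z) := fun M => by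
    have := TopCat.Presheaf.stalkPushforward.stalkPushforward_iso_of_isInducing (C := AddCommGrpCat.{u})
      (f := i.base) i.isClosedEmbedding.isInducing M.presheaf z
    exact ConcreteCategory.bijective_of_isIso _
  have hb := (M1.isIso_iff_stalk ((Scheme.Modules.pushforward i).map φ)).1 inferInstance (i z)
  have hnat : ∀ a, (M1.stalkAb z).map φ (TopCat.Presheaf.stalkPushforward AddCommGrpCat.{u} i.base N.presheaf z a) =
      TopCat.Presheaf.stalkPushforward AddCommGrpCat.{u} i.base N'.presheaf z
        ((M1.stalkAb (i z)).map ((Scheme.Modules.pushforward i).map φ) a) := fun a => by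
    obtain ⟨U, hU, s, rfl⟩ := ((Scheme.Modules.pushforward i).obj N).presheaf.exists_germ_eq a
    rw [M1.germ_naturality]
    erw [TopCat.Presheaf.stalkPushforward_germ_apply, TopCat.Presheaf.stalkPushforward_germ_apply]
    exact M1.germ_naturality φ (i ⁻¹ᵁ U) z hU s
  refine (Function.Bijective.of_comp_iff _ (hp N)).1 ?_
  rw [show (⇑((M1.stalkAb z).map φ) ∘ ⇑(TopCat.Presheaf.stalkPushforward AddCommGrpCat.{u} i.base N.presheaf z)) =
    ⇑(TopCat.Presheaf.stalkPushforward AddCommGrpCat.{u} i.base N'.presheaf z) ∘
      ⇑((M1.stalkAb (i z)).map ((Scheme.Modules.pushforward i).map φ)) from funext hnat]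
  exact (hp N').comp hb

/-- The counit of a closed immersion is an isomorphism on quasi-coherent modules. -/
theorem isIso_counit_closedImm (N : Z.Modules) (hN : Coh.IsQCoh N) :
    IsIso ((Scheme.Modules.pullbackPushforwardAdjunction i).counit.app N) := by
  have := M1.isIso_unit_of_ker_smul i ((Scheme.Modules.pushforward i).obj N) (M1.isQCoh_push i hN)
    (ker_smul_push i N)
  have : IsIso ((Scheme.Modules.pushforward i).map ((Scheme.Modules.pullbackPushforwardAdjunction i).counit.app N)) := by
    have h := (Scheme.Modules.pullbackPushforwardAdjunction i).right_triangle_components N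
    rw [← IsIso.eq_inv_comp, Category.comp_id] at h
    rw [h]; infer_instance
  exact isIso_of_isIso_push i _

/-- Projection formula along a closed immersion. -/
theorem nonempty_push_tensor_iso (N : Z.Modules) (hN : Coh.IsQCoh N) (E : X.Modules) (hE : Coh.IsQCoh E) :
    Nonempty ((Scheme.Modules.pushforward i).obj (CohB1.tensorMod N ((Scheme.Modules.pullback i).obj E)) ≅
      CohB1.tensorMod ((Scheme.Modules.pushforward i).obj N) E) := by
  let G := (Scheme.Modules.pushforward i).obj N
  have hG : Coh.IsQCoh G := M1.isQCoh_push i hN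
  have := M1.isIso_unit_of_ker_smul i (CohB1.tensorMod G E) (M2.isQCoh_tensor hG hE)
    (ker_smul_tensor i G E hG (ker_smul_push i N))
  have := isIso_counit_closedImm i N hN
  let e : (Scheme.Modules.pullback i).obj (CohB1.tensorMod G E) ≅
      CohB1.tensorMod N ((Scheme.Modules.pullback i).obj E) :=
    M2.pullTensorIso i G E ≪≫
      M2.tensorIso (asIso ((Scheme.Modules.pullbackPushforwardAdjunction i).counit.app N)) (Iso.refl _)
  exact ⟨((Scheme.Modules.pushforward i).mapIso e).symm ≪≫
    (asIso ((Scheme.Modules.pullbackPushforwardAdjunction i).unit.app (CohB1.tensorMod G E))).symm⟩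

/-- Direct images of coherent modules along closed immersions are coherent. -/
theorem isCoh_push_closedImm {N : Z.Modules} (hN : Coh.IsCoh N) :
    Coh.IsCoh ((Scheme.Modules.pushforward i).obj N) :=
  ⟨M1.isQCoh_push i hN.1, (PushFin12.isFT_iff i N hN.1).1 hN.2⟩

end Groth.Agent.CohFound
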