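import Mathlib.RingTheory.MvPolynomial.Basic
import Mathlib.Algebra.Polynomial.AlgebraMap
import Mathlib.Algebra.MvPolynomial.CommRing
import Mathlib.RingTheory.Ideal.Operations

/-!
# The map from a polynomial ring onto the Rees algebra
-/

set_option autoImplicit false

universe u

namespace Groth.Agent.CohFound.Rees

variable {A : Type u} [CommRing A] {r : ℕ} (a : Fin r → A)

/-- `Xᵢ ↦ aᵢ t`. -/
noncomputable def reesHom : MvPolynomial (Fin r) A →ₐ[A] Polynomial A :=
  MvPolynomial.aeval fun i => Polynomial.C (a i) * Polynomial.X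

lemma reesHom_C (x : A) : reesHom a (MvPolynomial.C x) = Polynomial.C x :=
  MvPolynomial.aeval_C _ _

lemma reesHom_X (i : Fin r) : reesHom a (MvPolynomial.X i) = Polynomial.C (a i) * Polynomial.X :=
  MvPolynomial.aeval_X _ _

/-- Coefficients lie in the powers of the ideal. -/
theorem coeff_reesHom_mem (P : MvPolynomial (Fin r) A) :
    ∀ k, (reesHom a P).coeff k ∈ Ideal.span (Set.range a) ^ k := by
  induction P using MvPolynomial.induction_on with
  | C x =>
    intro k
    rw [reesHom_C, Polynomial.coeff_C]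
    split_ifs with h
    · subst h
      simp
    · exact zero_mem _
  | add p q hp hq =>
    intro k
    rw [map_add, Polynomial.coeff_add]
    exact add_mem (hp k) (hq k)
  | mul_X p i hp =>
    intro k
    rw [map_mul, reesHom_X, ← mul_assoc]
    cases k with
    | zero =>
      rw [Polynomial.coeff_mul_X_zero]
      exact zero_mem _
    | succ k =>
      rw [Polynomial.coeff_mul_X, Polynomial.coeff_mul_C, pow_succ]
      exact Ideal.mul_mem_mul (hp k) (Ideal.subset_span ⟨i, rfl⟩)

lemma exists_reesHom_one {x : A} (hx : x ∈ Ideal.span (Set.range a)) :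
    ∃ P, reesHom a P = Polynomial.C x * Polynomial.X := by
  induction hx using Submodule.span_induction with
  | mem x hx =>
    obtain ⟨i, rfl⟩ := hx
    exact ⟨MvPolynomial.X i, reesHom_X a i⟩
  | zero => exact ⟨0, by simp⟩
  | add x y _ _ hx hy =>
    obtain ⟨P, hP⟩ := hx
    obtain ⟨Q, hQ⟩ := hy
    exact ⟨P + Q, by rw [map_add, hP, hQ, map_add, add_mul]⟩
  | smul c x _ hx =>
    obtain ⟨P, hP⟩ := hx
    exact ⟨MvPolynomial.C c * P, by rw [map_mul, reesHom_C, hP, smul_eq_mul, map_mul, mul_assoc]⟩

/-- Every element of `Iⁿ` gives a monomial in the range. -/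
theorem exists_reesHom : ∀ (n : ℕ) {x : A}, x ∈ Ideal.span (Set.range a) ^ n →
    ∃ P, reesHom a P = Polynomial.C x * Polynomial.X ^ n
  | 0, x, _ => ⟨MvPolynomial.C x, by rw [reesHom_C, pow_zero, mul_one]⟩
  | n + 1, x, hx => by
    rw [pow_succ] at hx
    induction hx using Submodule.mul_induction_on' with
    | mem_mul_mem y hy z hz =>
      obtain ⟨P, hP⟩ := exists_reesHom n hy
      obtain ⟨Q, hQ⟩ := exists_reesHom_one a hz
      exact ⟨P * Q, by rw [map_mul, hP, hQ, map_mul, pow_succ]; ring⟩
    | add x _ y _ hx hy =>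
      obtain ⟨P, hP⟩ := hx
      obtain ⟨Q, hQ⟩ := hy
      exact ⟨P + Q, by rw [map_add, hP, hQ, map_add, add_mul]⟩

end Groth.Agent.CohFound.Rees
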