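import Groth.Agent.Lib.CohFound.PolyBC
import Groth.Agent.Lib.CohFound.ReesAlg
import Groth.Agent.Lib.DirImg11.Basic
import Groth.Agent.Lib.ModM1.Push
import Groth.Agent.Lib.ModM1.Pull
import Groth.Agent.Lib.FormalH7.ModPow
import Mathlib.RingTheory.Polynomial.Basic
import Mathlib.Algebra.Polynomial.Basis

/-!
# The Rees module of a coherent sheaf as a coherent sheaf over a polynomial ring

For `I = (a₁, …, a_r)` and `M` on `X` over `A`, the direct sum of the `Iⁿ M` is a quotient of the
pullback of `M` to `X_B`, `B = A[X₁, …, X_r]`.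
-/

set_option autoImplicit false
set_option maxHeartbeats 1000000
set_option backward.isDefEq.respectTransparency.types false

universe u

open CategoryTheory TopologicalSpace Opposite CategoryTheory.Limits AlgebraicGeometry

namespace Groth.Agent.CohFound.Rees

section Linear

variable {X Y : Scheme.{u}}

lemma smulModΓ_natural {M N : X.Modules} (φ : M ⟶ N) (s : Coh.Γtop X) :
    Formal.smulModΓ M s ≫ φ = φ ≫ Formal.smulModΓ N s := by
  refine Scheme.Modules.hom_ext _ _ fun U => ?_
  ext t
  exact φ.app_smul _ t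

lemma smulModΓ_mul (M : X.Modules) (s t : Coh.Γtop X) :
    Formal.smulModΓ M (s * t) = Formal.smulModΓ M t ≫ Formal.smulModΓ M s :=
  by
  refine Scheme.Modules.hom_ext _ _ fun U => ?_
  ext x
  exact congrArg (fun χ : Coh.toAb M ⟶ Coh.toAb M => χ.hom.app (op U) x) (Coh.smulAb_mul M s t)

lemma smulModΓ_add (M : X.Modules) (s t : Coh.Γtop X) :
    Formal.smulModΓ M (s + t) = Formal.smulModΓ M s + Formal.smulModΓ M t :=
  by
  refine Scheme.Modules.hom_ext _ _ fun U => ?_
  ext x
  exact congrArg (fun χ : Coh.toAb M ⟶ Coh.toAb M => χ.hom.app (op U) x) (Coh.smulAb_add M s t)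

lemma smulModΓ_one (M : X.Modules) : Formal.smulModΓ M 1 = 𝟙 M :=
  by
  refine Scheme.Modules.hom_ext _ _ fun U => ?_
  ext x
  exact congrArg (fun χ : Coh.toAb M ⟶ Coh.toAb M => χ.hom.app (op U) x) (Coh.smulAb_one M)

lemma smulModΓ_zero (M : X.Modules) : Formal.smulModΓ M 0 = 0 :=
  by
  refine Scheme.Modules.hom_ext _ _ fun U => ?_
  ext x
  exact congrArg (fun χ : Coh.toAb M ⟶ Coh.toAb M => χ.hom.app (op U) x) (Coh.smulAb_zero M)

lemma smulModΓ_push (f : X ⟶ Y) (N : X.Modules) (s : Coh.Γtop Y) :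
    Formal.smulModΓ ((Scheme.Modules.pushforward f).obj N) s =
      (Scheme.Modules.pushforward f).map (Formal.smulModΓ N (f.appTop s)) := by
  refine Scheme.Modules.hom_ext _ _ fun U => ?_
  ext t
  change f.app U (M1.ores (le_top : U ≤ (⊤ : Y.Opens)) s) • (show Γ(N, f ⁻¹ᵁ U) from t) =
    M1.ores (le_top : f ⁻¹ᵁ U ≤ (⊤ : X.Opens)) (f.appTop s) • (show Γ(N, f ⁻¹ᵁ U) from t)
  congr 1
  exact ConcreteCategory.congr_hom (f.naturality (homOfLE (le_top : U ≤ ⊤)).op) s

lemma toGlobal_comp {R S : Type u} [CommRing R] [CommRing S] (φ : R →+* S) (f : X ⟶ Spec (CommRingCat.of R))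
    (f' : Y ⟶ Spec (CommRingCat.of S)) (g : Y ⟶ X)
    (hg : g ≫ f = f' ≫ Spec.map (CommRingCat.ofHom φ)) (s : R) :
    g.appTop (Coh.toGlobal f s) = Coh.toGlobal f' (φ s) := by
  have h1 := Scheme.ΓSpecIso_inv_naturality (CommRingCat.ofHom φ)
  have h2 := congrArg Scheme.Hom.appTop hg
  rw [Scheme.Hom.comp_appTop, Scheme.Hom.comp_appTop] at h2
  have h2' := congrArg (fun χ => χ.hom ((Scheme.ΓSpecIso (CommRingCat.of R)).inv s)) h2
  have h1' := congrArg (fun χ => χ.hom s) h1
  exact h2'.trans (congrArg f'.appTop h1').symm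

end Linear

section Over

variable {A : Type u} [CommRing A] {X : Scheme.{u}} [X.Over (Spec (CommRingCat.of A))] (M : X.Modules)

lemma smulMod_one' : Formal.smulMod A M 1 = 𝟙 M := by rw [Formal.smulMod, map_one, smulModΓ_one]

lemma smulMod_mul' (x y : A) : Formal.smulMod A M (x * y) = Formal.smulMod A M y ≫ Formal.smulMod A M x := by
  rw [Formal.smulMod, map_mul, smulModΓ_mul]; rfl

end Over

variable {A : Type u} [CommRing A] {r : ℕ} (a : Fin r → A) {X : Scheme.{u}}
  [X.Over (Spec (CommRingCat.of A))] (M : X.Modules)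

/-- The base change to the polynomial ring in `r` variables. -/
noncomputable abbrev XB (r : ℕ) (X : Scheme.{u}) [X.Over (Spec (CommRingCat.of A))] : Scheme.{u} :=
  pullback (Spec.map (CommRingCat.ofHom (algebraMap A (MvPolynomial (Fin r) A))))
    (X ↘ Spec (CommRingCat.of A))

/-- The base change to the polynomial ring in one variable. -/
noncomputable abbrev XC (X : Scheme.{u}) [X.Over (Spec (CommRingCat.of A))] : Scheme.{u} :=
  pullback (Spec.map (CommRingCat.ofHom (algebraMap A (Polynomial A)))) (X ↘ Spec (CommRingCat.of A))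

noncomputable abbrev pB (r : ℕ) (X : Scheme.{u}) [X.Over (Spec (CommRingCat.of A))] : XB (A := A) r X ⟶ X :=
  pullback.snd _ _

noncomputable abbrev qB (r : ℕ) (X : Scheme.{u}) [X.Over (Spec (CommRingCat.of A))] :
    XB (A := A) r X ⟶ Spec (CommRingCat.of (MvPolynomial (Fin r) A)) :=
  pullback.fst _ _

noncomputable abbrev qC (X : Scheme.{u}) [X.Over (Spec (CommRingCat.of A))] :
    XC (A := A) X ⟶ Spec (CommRingCat.of (Polynomial A)) :=
  pullback.fst _ _

/-- The map induced by `Xᵢ ↦ aᵢ t`. -/
noncomputable def gmap : XC (A := A) X ⟶ XB (A := A) r X :=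
  pullback.lift (qC X ≫ Spec.map (CommRingCat.ofHom (reesHom a).toRingHom)) (pullback.snd _ _) (by
    rw [Category.assoc, ← Spec.map_comp, ← CommRingCat.ofHom_comp, AlgHom.toRingHom_eq_coe, AlgHom.comp_algebraMap]
    exact pullback.condition)

lemma gmap_pB : gmap (X := X) a ≫ pB r X = pullback.snd _ _ := pullback.lift_snd _ _ _

lemma gmap_qB : gmap (X := X) a ≫ qB r X = qC X ≫ Spec.map (CommRingCat.ofHom (reesHom a).toRingHom) :=
  pullback.lift_fst _ _ _

instance isAffineHom_pB : IsAffineHom (pB (A := A) r X) :=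
  haveI : IsAffineHom (Spec.map (CommRingCat.ofHom (algebraMap A (MvPolynomial (Fin r) A)))) :=
    isAffineHom_of_isAffine _
  MorphismProperty.pullback_snd _ _ ‹_›

lemma isAffineHom_sndC (A : Type u) [CommRing A] (X : Scheme.{u}) [X.Over (Spec (CommRingCat.of A))] : IsAffineHom (pullback.snd (Spec.map (CommRingCat.ofHom (algebraMap A (Polynomial A))))
    (X ↘ Spec (CommRingCat.of A))) :=
  haveI : IsAffineHom (Spec.map (CommRingCat.ofHom (algebraMap A (Polynomial A)))) := isAffineHom_of_isAffine _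
  MorphismProperty.pullback_snd _ _ ‹_›

/-- The projection of `X_C`. -/
noncomputable abbrev pC : XC (A := A) X ⟶ X := gmap a ≫ pB r X

lemma isPullback_pC : IsPullback (qC X) (pC (X := X) a)
    (Spec.map (CommRingCat.ofHom (algebraMap A (Polynomial A)))) (X ↘ Spec (CommRingCat.of A)) := by
  rw [show pC (X := X) a = pullback.snd _ _ from gmap_pB a]
  exact IsPullback.of_hasPullback _ _

/-- The global function of a polynomial on `X_B`. -/
noncomputable abbrev gB (P : MvPolynomial (Fin r) A) : Coh.Γtop (XB (A := A) r X) := Coh.toGlobal (qB r X) P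

/-- The global function of a polynomial on `X_C`. -/
noncomputable abbrev gC (c : Polynomial A) : Coh.Γtop (XC (A := A) X) := Coh.toGlobal (qC X) c

lemma gmap_gB (P : MvPolynomial (Fin r) A) :
    (gmap (X := X) a).appTop (gB P) = gC (X := X) (reesHom a P) :=
  toGlobal_comp (reesHom a).toRingHom (qB r X) (qC X) (gmap a) (gmap_qB a) P

lemma pC_toGlobal (x : A) :
    (pC (X := X) a).appTop (Coh.toGlobal (X ↘ Spec (CommRingCat.of A)) x) = gC (X := X) (Polynomial.C x) :=
  toGlobal_comp (algebraMap A (Polynomial A)) _ (qC X) _ (isPullback_pC a).w.symm x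

/-- The pullback of `M` to `X_C`. -/
noncomputable abbrev MC : (XC (A := A) X).Modules := (Scheme.Modules.pullback (pC (X := X) a)).obj M

/-- The unit followed by multiplication by `c`. -/
noncomputable def E (c : Polynomial A) : M ⟶ (Scheme.Modules.pushforward (pC (X := X) a)).obj (MC a M) :=
  bcComp (qC X) (pC a) M ((Scheme.ΓSpecIso (CommRingCat.of (Polynomial A))).inv c)

lemma E_eq (c : Polynomial A) :
    E a M c = (Scheme.Modules.pullbackPushforwardAdjunction (pC (X := X) a)).unit.app M ≫
      (Scheme.Modules.pushforward (pC (X := X) a)).map (Formal.smulModΓ _ (gC c)) := rfl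

lemma E_add (c c' : Polynomial A) : E a M (c + c') = E a M c + E a M c' := by
  rw [E_eq, E_eq, E_eq, gC, map_add, smulModΓ_add, CategoryTheory.Functor.map_add, Preadditive.comp_add]

lemma E_zero : E a M 0 = 0 := by
  rw [E_eq, gC, map_zero, smulModΓ_zero, CategoryTheory.Functor.map_zero, comp_zero]

lemma E_smul (c c' : Polynomial A) :
    E a M c ≫ (Scheme.Modules.pushforward (pC (X := X) a)).map (Formal.smulModΓ _ (gC c')) = E a M (c' * c) := by
  rw [E_eq, E_eq, Category.assoc, ← CategoryTheory.Functor.map_comp, ← smulModΓ_mul, ← map_mul]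

lemma smulMod_E (x : A) (c : Polynomial A) :
    Formal.smulMod A M x ≫ E a M c = E a M (Polynomial.C x * c) := by
  rw [← E_smul, Formal.smulMod, smulModΓ_natural, smulModΓ_push, pC_toGlobal]

/-- The map `π^* M ⟶ g_* M_C`. -/
noncomputable def nu : (Scheme.Modules.pullback (pB r X)).obj M ⟶
    (Scheme.Modules.pushforward (gmap (X := X) a)).obj (MC a M) :=
  ((Scheme.Modules.pullbackPushforwardAdjunction (pB r X)).homEquiv M _).symm
    ((Scheme.Modules.pullbackPushforwardAdjunction (pC (X := X) a)).unit.app M)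

/-- The Rees module on `X_B`. -/
noncomputable abbrev NN : (XB (A := A) r X).Modules := Abelian.image (nu a M)

/-- The Rees module pushed to `X`. -/
noncomputable abbrev PN : X.Modules := (Scheme.Modules.pushforward (pB r X)).obj (NN a M)

/-- Its inclusion in `π_* M_C`. -/
noncomputable def inc : PN a M ⟶ (Scheme.Modules.pushforward (pC (X := X) a)).obj (MC a M) :=
  (Scheme.Modules.pushforward (pB r X)).map (Abelian.image.ι (nu a M))

/-- The section `M ⟶ π_* 𝓝` of degree zero. -/
noncomputable def eps : M ⟶ PN a M :=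
  (Scheme.Modules.pullbackPushforwardAdjunction (pB r X)).unit.app M ≫
    (Scheme.Modules.pushforward (pB r X)).map (Abelian.factorThruImage (nu a M))

/-- The action of a polynomial. -/
noncomputable def TT (P : MvPolynomial (Fin r) A) : PN a M ⟶ PN a M :=
  (Scheme.Modules.pushforward (pB r X)).map (Formal.smulModΓ (NN a M) (gB P))

lemma TT_mul (P Q : MvPolynomial (Fin r) A) : TT a M (P * Q) = TT a M Q ≫ TT a M P := by
  rw [TT, TT, TT, ← CategoryTheory.Functor.map_comp, ← smulModΓ_mul, ← map_mul]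

lemma TT_one : TT a M 1 = 𝟙 (PN a M) := by
  rw [TT, gB, map_one, smulModΓ_one, CategoryTheory.Functor.map_id]

lemma TT_inc (P : MvPolynomial (Fin r) A) :
    TT a M P ≫ inc a M =
      inc a M ≫ (Scheme.Modules.pushforward (pC (X := X) a)).map (Formal.smulModΓ _ (gC (reesHom a P))) := by
  refine ((CategoryTheory.Functor.map_comp (Scheme.Modules.pushforward (pB r X)) (Formal.smulModΓ (NN a M) (gB P))
    (Abelian.image.ι (nu a M))).symm.trans ?_)
  rw [smulModΓ_natural, smulModΓ_push, gmap_gB, CategoryTheory.Functor.map_comp]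
  rfl

lemma eps_inc : eps a M ≫ inc a M = E a M 1 := by
  rw [E_eq, gC, map_one, smulModΓ_one, CategoryTheory.Functor.map_id, eps, Category.assoc]
  refine (congrArg ((Scheme.Modules.pullbackPushforwardAdjunction (pB r X)).unit.app M ≫ ·)
    ((CategoryTheory.Functor.map_comp (Scheme.Modules.pushforward (pB r X)) (Abelian.factorThruImage (nu a M))
      (Abelian.image.ι (nu a M))).symm.trans (congrArg _ (Abelian.image.fac (nu a M))))).trans ?_
  exact ((Adjunction.homEquiv_unit _ _ _ _).symm.trans (Equiv.apply_symm_apply _ _)).trans (Category.comp_id _).symm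

lemma eps_TT_inc (P : MvPolynomial (Fin r) A) : eps a M ≫ TT a M P ≫ inc a M = E a M (reesHom a P) := by
  rw [TT_inc, ← Category.assoc, eps_inc, E_smul, mul_one]

instance : IsAffineHom (gmap (X := X) a) := by
  haveI : IsAffineHom (gmap (X := X) a ≫ pB r X) := by
    rw [gmap_pB]
    exact isAffineHom_sndC A X
  exact IsAffineHom.of_comp _ (pB r X)

variable [Coh.IsQCoh M]

lemma isQCoh_MC : Coh.IsQCoh (MC a M) := M1.isQCoh_pullback _ inferInstance

lemma isQCoh_push_MC : Coh.IsQCoh ((Scheme.Modules.pushforward (gmap (X := X) a)).obj (MC a M)) :=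
  M1.isQCoh_push _ (isQCoh_MC a M)

lemma isQCoh_NN : Coh.IsQCoh (NN a M) :=
  M1.isQCoh_kernel (isQCoh_push_MC a M)
    (M1.isQCoh_cokernel (M1.isQCoh_pullback _ inferInstance) (isQCoh_push_MC a M) (nu a M)) _

omit [Coh.IsQCoh M] in
/-- The Rees module is coherent. -/
lemma isCoh_NN (hM : Coh.IsCoh M) : Coh.IsCoh (NN a M) :=
  haveI := hM.1
  ⟨isQCoh_NN a M, M1.isFT_of_epi (Abelian.factorThruImage (nu a M)) (M1.isCoh_pullback (pB r X) hM).2⟩

instance mono_inc : Mono (inc a M) := by
  haveI := (Scheme.Modules.pullbackPushforwardAdjunction (pB (A := A) r X)).isRightAdjoint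
  exact CategoryTheory.Functor.map_mono _ _

lemma epi_push_factorThru :
    Epi ((Scheme.Modules.pushforward (pB r X)).map (Abelian.factorThruImage (nu a M))) :=
  DirImg11.epi_pushforward_map (M1.isQCoh_pullback _ inferInstance) (isQCoh_NN a M) _

/-- Maps out of the Rees module are determined by the `P · ε`. -/
theorem PN_hom_ext {N : X.Modules} (φ ψ : PN a M ⟶ N)
    (h : ∀ P, eps a M ≫ TT a M P ≫ φ = eps a M ≫ TT a M P ≫ ψ) : φ = ψ := by
  classical
  haveI := epi_push_factorThru a M
  rw [← cancel_epi ((Scheme.Modules.pushforward (pB r X)).map (Abelian.factorThruImage (nu a M)))]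
  let b := (MvPolynomial.basisMonomials (Fin r) A).reindex Equiv.ulift.{u}.symm
  haveI := isIso_basisDesc_spec (qB r X) (pB r X) (IsPullback.of_hasPullback _ _) M b
  rw [← cancel_epi (basisDesc (qB r X) (pB r X) M
    fun i => (Scheme.ΓSpecIso (CommRingCat.of (MvPolynomial (Fin r) A))).inv (b i))]
  refine Sigma.hom_ext _ _ fun i => ?_
  rw [reassoc_of% ι_basisDesc, reassoc_of% ι_basisDesc]
  have e : bcComp (qB r X) (pB r X) M ((Scheme.ΓSpecIso (CommRingCat.of (MvPolynomial (Fin r) A))).inv (b i)) ≫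
      (Scheme.Modules.pushforward (pB r X)).map (Abelian.factorThruImage (nu a M)) = eps a M ≫ TT a M (b i) := by
    rw [bcComp, eps, TT, Category.assoc, Category.assoc, ← CategoryTheory.Functor.map_comp,
      ← CategoryTheory.Functor.map_comp, ← smulModΓ_natural]
    rfl
  rw [reassoc_of% e, reassoc_of% e]
  exact h (b i)

/-- The coefficient of `tⁿ`. -/
noncomputable def coef (n : ℕ) : (Scheme.Modules.pushforward (pC (X := X) a)).obj (MC a M) ⟶ M :=
  haveI := isIso_basisDesc_spec (qC X) (pC a) (isPullback_pC a) M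
    ((Polynomial.basisMonomials A).reindex Equiv.ulift.{u}.symm)
  inv (basisDesc (qC X) (pC a) M fun i => (Scheme.ΓSpecIso (CommRingCat.of (Polynomial A))).inv
      ((Polynomial.basisMonomials A).reindex Equiv.ulift.{u}.symm i)) ≫
    Sigma.desc fun i => if i.down = n then 𝟙 M else 0

lemma E_coef_monomial (m n : ℕ) :
    E a M (Polynomial.X ^ m) ≫ coef a M n = if m = n then 𝟙 M else 0 := by
  have hm : (Polynomial.basisMonomials A).reindex Equiv.ulift.{u}.symm (ULift.up m) = Polynomial.X ^ m := by
    simp [Polynomial.X_pow_eq_monomial]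
  haveI := isIso_basisDesc_spec (qC X) (pC a) (isPullback_pC a) M
    ((Polynomial.basisMonomials A).reindex Equiv.ulift.{u}.symm)
  have e : E a M (Polynomial.X ^ m) = Sigma.ι (fun _ : ULift.{u} ℕ => M) (ULift.up m) ≫
      basisDesc (qC X) (pC a) M fun i => (Scheme.ΓSpecIso (CommRingCat.of (Polynomial A))).inv
        ((Polynomial.basisMonomials A).reindex Equiv.ulift.{u}.symm i) := by
    rw [ι_basisDesc, hm]
    rfl
  rw [e, coef, Category.assoc, IsIso.hom_inv_id_assoc, Sigma.ι_desc]

/-- Coefficients of `c • unit`. -/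
lemma E_coef (c : Polynomial A) (n : ℕ) : E a M c ≫ coef a M n = Formal.smulMod A M (c.coeff n) := by
  induction c using Polynomial.induction_on' with
  | add p q hp hq =>
    rw [E_add, Preadditive.add_comp, hp, hq, Polynomial.coeff_add, Formal.smulMod, Formal.smulMod,
      Formal.smulMod, map_add, smulModΓ_add]
  | monomial k x =>
    rw [← Polynomial.C_mul_X_pow_eq_monomial, ← smulMod_E, Category.assoc, E_coef_monomial,
      Polynomial.coeff_C_mul_X_pow]
    rcases eq_or_ne k n with rfl | hk
    · simp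
    · rw [if_neg hk, if_neg (Ne.symm hk), comp_zero, Formal.smulMod, map_zero, smulModΓ_zero]

end Groth.Agent.CohFound.Rees
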