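import Groth.Agent.Lib.CohFound.ReesCoh
import Mathlib.RingTheory.AdicCompletion.Basic

/-!
# The theorem on formal functions

For `X` proper over a Noetherian `A`, the kernels of `H^p(X, M) → H^p(X, M/IⁿM)` form an `I`-good
filtration, the system `H^p(X, M/IⁿM)` is uniformly Mittag-Leffler, and the completion of `H^p(X, M)`
is its limit.
-/

set_option autoImplicit false
set_option maxHeartbeats 1000000
set_option backward.isDefEq.respectTransparency.types false

universe u

open CategoryTheory TopologicalSpace Opposite CategoryTheory.Limits AlgebraicGeometry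

namespace Groth.Agent.CohFound.FF

open Rees

variable {A : Type u} [CommRing A] {X : Scheme.{u}} [X.Over (Spec (CommRingCat.of A))] (I : Ideal A)
  (M : X.Modules) (p : ℕ)

lemma hhExt_smul (x : A) (h : Coh.HH X M p) :
    hhExt M p (x • h) = hm (Formal.smulMod A M x) p (hhExt M p h) :=
  hExt_map _ p h

omit [X.Over (Spec (CommRingCat.of A))] in
lemma hm_zero {N N' : X.Modules} (x : Hc ((abF X).obj N) p ⊤) : hm (0 : N ⟶ N') p x = 0 :=
  (congrArg (fun χ => mp χ p ⊤ x) ((abF X).map_zero N N')).trans (mp_zero _ _ p ⊤ x)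

/-- `0 → Iⁿ M → M → M/Iⁿ M → 0`. -/
noncomputable abbrev ses (n : ℕ) : ShortComplex X.Modules :=
  ShortComplex.mk (uu I M n) (Formal.modPowπ I n M) (kernel.condition _)

lemma ses_shortExact (n : ℕ) : (ses I M n).ShortExact where
  exact := ShortComplex.exact_kernel _
  mono_f := inferInstanceAs (Mono (kernel.ι _))
  epi_g := FormalH7.epi_modPowπ I n M

lemma mulJ_π (m n : ℕ) (h : m ≤ n) (y : A) (hy : y ∈ I ^ (n - m)) :
    (uu I M m ≫ Formal.smulMod A M y) ≫ Formal.modPowπ I n M = 0 := by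
  rw [← mulJ_uu I M m n h y hy, Category.assoc]
  exact (congrArg (mulJ I M m n h y hy ≫ ·) (kernel.condition _)).trans comp_zero

/-- The kernel of `H^p(X, M) → H^p(X, M/Iⁿ M)`. -/
noncomputable def R (n : ℕ) : Submodule A (Coh.HH X M p) where
  carrier := {h | hm (Formal.modPowπ I n M) p (hhExt M p h) = 0}
  add_mem' {x y} hx hy := by
    rw [Set.mem_ofPred_eq, map_add, map_add, hx, hy, add_zero]
  zero_mem' := by rw [Set.mem_ofPred_eq, map_zero, map_zero]
  smul_mem' x h hh := by
    rw [Set.mem_ofPred_eq, hhExt_smul, ← hm_comp, FormalH7.smulMod_naturality, hm_comp, hh, map_zero]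

lemma mem_R {n : ℕ} {h : Coh.HH X M p} : h ∈ R I M p n ↔ hm (Formal.modPowπ I n M) p (hhExt M p h) = 0 :=
  Iff.rfl

lemma hhExt_toHHmodPow (n : ℕ) (h : Coh.HH X M p) :
    hhExt (Formal.modPow I (n + 1) M) p (Formal.toHHmodPow I M p n h) =
      hm (Formal.modPowπ I (n + 1) M) p (hhExt M p h) :=
  hExt_map _ p h

lemma ker_toHHmodPow (n : ℕ) :
    ((Formal.toHHmodPow I M p n).ker : Set (Coh.HH X M p)) = R I M p (n + 1) := by
  ext h
  rw [SetLike.mem_coe, AddMonoidHom.mem_ker, SetLike.mem_coe, mem_R, ← hhExt_toHHmodPow]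
  exact (AddEquiv.map_eq_zero_iff _).symm

lemma exists_uu_eq {n : ℕ} {h : Coh.HH X M p} (hh : h ∈ R I M p n) :
    ∃ w, hm (uu I M n) p w = hhExt M p h :=
  exact₂ (shortExact_abF (ses_shortExact I M n)) p ⊤ _ hh

lemma uu_mem_R {n : ℕ} (w : Hc ((abF X).obj (J I M n)) p ⊤) :
    (hhExt M p).symm (hm (uu I M n) p w) ∈ R I M p n := by
  rw [mem_R, AddEquiv.apply_symm_apply, ← hm_comp]
  exact (congrArg (fun χ => hm χ p w) (kernel.condition _)).trans (hm_zero p w)

lemma smul_R_le (m n : ℕ) (h : m ≤ n) : I ^ (n - m) • R I M p m ≤ R I M p n :=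
  Submodule.smul_le.2 fun y hy x hx => by
    obtain ⟨w, hw⟩ := exists_uu_eq I M p hx
    rw [mem_R, hhExt_smul, ← hw, ← hm_comp, ← hm_comp, ← Category.assoc, mulJ_π I M m n h y hy]
    exact hm_zero p w

lemma R_antitone {m n : ℕ} (h : m ≤ n) : R I M p n ≤ R I M p m := fun x hx => by
  obtain ⟨w, hw⟩ := exists_uu_eq I M p hx
  have e : uu I M n ≫ Formal.modPowπ I m M = 0 := by
    refine J_hom_ext I M fun y hy => ?_
    rw [gen_uu_assoc, comp_zero]
    exact (FormalH7.smulFamily_comp_eq_zero_iff _).1 (cokernel.condition _) y (Ideal.pow_le_pow_right h hy)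
  rw [mem_R, ← hw, ← hm_comp, e]
  exact hm_zero p w

variable [IsNoetherianRing A] [IsProper (X ↘ Spec (CommRingCat.of A))]

/-- The kernels are generated in bounded degree. -/
theorem exists_R_le (hM : Coh.IsCoh M) :
    ∃ k₀ : ℕ, ∀ n, k₀ ≤ n → ∀ T : Submodule A (Coh.HH X M p),
      (∀ m, m ≤ k₀ → m ≤ n → I ^ (n - m) • R I M p m ≤ T) → R I M p n ≤ T := by
  obtain ⟨r, a, ha⟩ := Submodule.fg_iff_exists_fin_generating_family.1 (IsNoetherian.noetherian I)
  obtain rfl : Ideal.span (Set.range a) = I := ha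
  haveI := hM.1
  obtain ⟨k₀, hk₀⟩ := exists_generation a M hM p fun _ => Set.univ
  refine ⟨k₀, fun n hn T hT x hx => ?_⟩
  obtain ⟨w, hw⟩ := exists_uu_eq _ M p hx
  suffices (hhExt M p).symm (hm (uu _ M n) p w) ∈ T by rwa [hw, AddEquiv.symm_apply_apply] at this
  refine AddSubgroup.closure_induction (p := fun z _ => (hhExt M p).symm (hm (uu _ M n) p z) ∈ T)
    ?_ ?_ ?_ ?_ (hk₀ n hn w trivial)
  · rintro _ ⟨m, h, y, hy, hmk, v, -, rfl⟩
    have e : (hhExt M p).symm (hm (uu _ M n) p (hm (mulJ _ M m n h y hy) p v)) =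
        y • (hhExt M p).symm (hm (uu _ M m) p v) := by
      apply (hhExt M p).injective
      rw [hhExt_smul, AddEquiv.apply_symm_apply, AddEquiv.apply_symm_apply, ← hm_comp, ← hm_comp, mulJ_uu]
    rw [e]
    exact hT m hmk h (Submodule.smul_mem_smul hy (uu_mem_R _ M p v))
  · rw [map_zero, map_zero]
    exact zero_mem _
  · intro y z _ _ hy hz
    rw [map_add, map_add]
    exact add_mem hy hz
  · intro y _ hy
    rw [map_neg, map_neg]
    exact neg_mem hy

/-- The kernels form an `I`-good filtration. -/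
theorem exists_R_good (hM : Coh.IsCoh M) :
    ∃ k₀ : ℕ, ∀ n, k₀ ≤ n → R I M p (n + 1) = I • R I M p n := by
  obtain ⟨k₀, hk₀⟩ := exists_R_le I M p hM
  refine ⟨k₀, fun n hn => le_antisymm (hk₀ (n + 1) (by omega) _ fun m hm _ => ?_) ?_⟩
  · rw [show n + 1 - m = (n - m) + 1 by omega, pow_succ', Submodule.mul_smul]
    exact smul_mono_right I (smul_R_le I M p m n (hm.trans hn))
  · have := smul_R_le I M p n (n + 1) (Nat.le_succ n)
    rwa [show n + 1 - n = 1 by omega, pow_one] at this

/-- The kernels are adically small. -/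
theorem exists_R_small (hM : Coh.IsCoh M) :
    ∃ c : ℕ, ∀ n, c ≤ n → R I M p n ≤ I ^ (n - c) • (⊤ : Submodule A (Coh.HH X M p)) := by
  obtain ⟨k₀, hk₀⟩ := exists_R_le I M p hM
  refine ⟨k₀, fun n hn => hk₀ n hn _ fun m hm _ => ?_⟩
  exact (Submodule.smul_mono (Ideal.pow_le_pow_right (by omega)) le_top)

/-- Classes of `Iᵏ M` dying in `M` die in `Iⁿ M` for `n` well below `k`. -/
theorem exists_ker_vanish (hM : Coh.IsCoh M) :
    ∃ c : ℕ, ∀ n k, n + c ≤ k → ∀ (τ : J I M k ⟶ J I M n), τ ≫ uu I M n = uu I M k →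
      ∀ w : Hc ((abF X).obj (J I M k)) p ⊤, hm (uu I M k) p w = 0 → hm τ p w = 0 := by
  obtain ⟨r, a, ha⟩ := Submodule.fg_iff_exists_fin_generating_family.1 (IsNoetherian.noetherian I)
  obtain rfl : Ideal.span (Set.range a) = I := ha
  haveI := hM.1
  obtain ⟨k₀, hk₀⟩ := exists_generation a M hM p fun n => {x | hm (uu _ M n) p x = 0}
  refine ⟨k₀, fun n k hnk τ hτ w hw => ?_⟩
  refine AddSubgroup.closure_induction (p := fun z _ => hm τ p z = 0) ?_ (map_zero _) ?_ ?_
    (hk₀ k (by omega) w hw)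
  · rintro _ ⟨m, h, y, hy, hmk, v, hv, rfl⟩
    have hy' : y ∈ Ideal.span (Set.range a) ^ n := Ideal.pow_le_pow_right (by omega) hy
    have hfac : mulJ _ M m k h y hy ≫ τ = uu _ M m ≫ Rees.gen _ M n y hy' := by
      rw [← cancel_mono (uu _ M n), Category.assoc, hτ, mulJ_uu, Category.assoc, Rees.gen_uu]
    rw [← hm_comp, hfac, hm_comp, show hm (uu _ M m) p v = 0 from hv, map_zero]
  · intro y z _ _ hy hz
    rw [map_add, hy, hz, add_zero]
  · intro y _ hy
    rw [map_neg, hy, neg_zero]

/-- Uniform Mittag-Leffler. -/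
theorem exists_mittagLeffler (hM : Coh.IsCoh M) :
    ∃ c : ℕ, ∀ n k, n + c ≤ k → ∀ (φ : Formal.modPow I k M ⟶ Formal.modPow I n M),
      Formal.modPowπ I k M ≫ φ = Formal.modPowπ I n M →
        ∀ z, ∃ h, hm (Formal.modPowπ I n M) p h = hm φ p z := by
  obtain ⟨c, hc⟩ := exists_ker_vanish I M (p + 1) hM
  refine ⟨c, fun n k hnk φ hφ z => ?_⟩
  let τ : J I M k ⟶ J I M n := kernel.lift _ (uu I M k) (by
    show uu I M k ≫ Formal.modPowπ I n M = 0
    rw [← hφ, ← Category.assoc]
    exact (congrArg (· ≫ φ) (kernel.condition _)).trans zero_comp)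
  have hτ : τ ≫ uu I M n = uu I M k := kernel.lift_ι _ _ _
  let f : ses I M k ⟶ ses I M n := ShortComplex.homMk τ (𝟙 M) φ
    (hτ.trans (Category.comp_id _).symm) ((Category.id_comp _).trans hφ.symm)
  have hk := shortExact_abF (ses_shortExact I M k)
  have hn := shortExact_abF (ses_shortExact I M n)
  refine exact₃ hn p ⊤ _ ?_
  refine (delta_natural hk hn ((abF X).mapShortComplex.map f) p ⊤ z).symm.trans ?_
  exact hc n k hnk τ hτ _ (mp_delta hk p ⊤ z)

omit [IsNoetherianRing A] [IsProper (X ↘ Spec (CommRingCat.of A))] in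
lemma modPowπ_completion_map : ∀ (n k : ℕ) (h : n ≤ k),
    Formal.modPowπ I (k + 1) M ≫ (Formal.completion I M).map (homOfLE h).op = Formal.modPowπ I (n + 1) M := by
  intro n k h
  induction h with
  | refl =>
    exact (congrArg (Formal.modPowπ I (n + 1) M ≫ ·) ((Formal.completion I M).map_id (op n))).trans
      (Category.comp_id _)
  | @step k h ih =>
    have e : (Formal.completion I M).map (homOfLE (Nat.le.step h)).op =
        Formal.modPowTrans I (k + 1) M ≫ (Formal.completion I M).map (homOfLE h).op := by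
      rw [show (homOfLE (Nat.le.step h)).op = (homOfLE (Nat.le_add_right k 1)).op ≫ (homOfLE h).op from rfl,
        CategoryTheory.Functor.map_comp]
      congr 1
      exact Functor.ofOpSequence_map_homOfLE_succ _ k
    rw [e, ← ih, ← Category.assoc]
    congr 1
    exact Formal.modPowπ_trans I (k + 1) M

omit [IsNoetherianRing A] [IsProper (X ↘ Spec (CommRingCat.of A))] in
lemma hhExt_completion_map {n k : ℕ} (h : n ≤ k) (z : Formal.HHmodPow I M p k) :
    hhExt (Formal.modPow I (n + 1) M) p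
        (Sheaf.H.map ((SheafOfModules.toSheaf X.ringCatSheaf).map
          ((Formal.completion I M).map (homOfLE h).op)) p z) =
      hm ((Formal.completion I M).map (homOfLE h).op) p (hhExt (Formal.modPow I (k + 1) M) p z) :=
  hExt_map _ p z

/-- Uniform Mittag-Leffler on `Coh.HH`. -/
theorem exists_range_eq (hM : Coh.IsCoh M) :
    ∃ c : ℕ, ∀ (n k : ℕ) (h : n ≤ k), n + c ≤ k →
      Set.range (Sheaf.H.map ((SheafOfModules.toSheaf X.ringCatSheaf).map
        ((Formal.completion I M).map (homOfLE h).op)) p) = Set.range (Formal.toHHmodPow I M p n) := by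
  obtain ⟨c, hc⟩ := exists_mittagLeffler I M p hM
  refine ⟨c, fun n k h hnk => Set.Subset.antisymm ?_ ?_⟩
  · rintro _ ⟨z, rfl⟩
    obtain ⟨w, hw⟩ := hc (n + 1) (k + 1) (by omega) _ (modPowπ_completion_map I M n k h)
      (hhExt (Formal.modPow I (k + 1) M) p z)
    refine ⟨(hhExt M p).symm w, (hhExt (Formal.modPow I (n + 1) M) p).injective ?_⟩
    exact ((hhExt_toHHmodPow I M p n _).trans (by rw [AddEquiv.apply_symm_apply]; exact hw)).trans
      (hhExt_completion_map I M p h z).symm
  · rintro _ ⟨x, rfl⟩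
    refine ⟨Formal.toHHmodPow I M p k x, (hhExt (Formal.modPow I (n + 1) M) p).injective ?_⟩
    refine (hhExt_completion_map I M p h _).trans (Eq.trans ?_ (hhExt_toHHmodPow I M p n x).symm)
    refine (congrArg (hm ((Formal.completion I M).map (homOfLE h).op) p) (hhExt_toHHmodPow I M p k x)).trans ?_
    exact (hm_comp _ _ p _).symm.trans
      (congrArg (fun χ => hm χ p (hhExt M p x)) (modPowπ_completion_map I M n k h))

omit [IsNoetherianRing A] [IsProper (X ↘ Spec (CommRingCat.of A))] in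
lemma lim_map (z : Formal.HHlim I M p) (n : ℕ) : ∀ (k : ℕ) (h : n ≤ k),
    Sheaf.H.map ((SheafOfModules.toSheaf X.ringCatSheaf).map ((Formal.completion I M).map (homOfLE h).op)) p
      (z.1 k) = z.1 n := by
  intro k h
  apply (hhExt (Formal.modPow I (n + 1) M) p).injective
  rw [hhExt_completion_map]
  induction h with
  | refl =>
    refine (congrArg (fun χ => hm χ p (hhExt (Formal.modPow I (n + 1) M) p (z.1 n)))
      ((Formal.completion I M).map_id (op n))).trans (hm_id _ p _)
  | @step k h ih =>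
    rw [← ih, show (homOfLE (Nat.le.step h)).op = (homOfLE (Nat.le_add_right k 1)).op ≫ (homOfLE h).op from rfl]
    refine (congrArg (fun χ => hm χ p _) ((Formal.completion I M).map_comp _ _)).trans ((hm_comp _ _ p _).trans ?_)
    refine congrArg (hm _ p) ?_
    refine Eq.trans ?_ (congrArg (hhExt (Formal.modPow I (k + 1) M) p) (z.2 k))
    refine Eq.trans ?_ (hExt_map ((SheafOfModules.toSheaf X.ringCatSheaf).map (Formal.modPowTrans I (k + 1) M)) p
      (z.1 (k + 1))).symm
    exact congrArg (fun χ => hm χ p (hhExt (Formal.modPow I (k + 1 + 1) M) p (z.1 (k + 1))))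
      (Functor.ofOpSequence_map_homOfLE_succ _ k)

/-- Compatible classes lift degreewise. -/
theorem exists_lifts (hM : Coh.IsCoh M) (z : Formal.HHlim I M p) :
    ∃ h : ℕ → Coh.HH X M p, ∀ n, Formal.toHHmodPow I M p n (h n) = z.1 n := by
  obtain ⟨d, hd⟩ := exists_range_eq I M p hM
  refine Classical.axiomOfChoice (r := fun n h => Formal.toHHmodPow I M p n h = z.1 n) fun n => ?_
  show z.1 n ∈ Set.range (Formal.toHHmodPow I M p n)
  rw [← hd n (n + d) (by omega) le_rfl]
  exact ⟨z.1 (n + d), lim_map I M p z n (n + d) (by omega)⟩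

omit [IsNoetherianRing A] [IsProper (X ↘ Spec (CommRingCat.of A))] in
lemma toHHmodPow_eq_of_mk_eq {n : ℕ} {x y : Coh.HH X M p}
    (h : x - y ∈ (I ^ (n + 1) • ⊤ : Submodule A (Coh.HH X M p))) :
    Formal.toHHmodPow I M p n x = Formal.toHHmodPow I M p n y := by
  have h0 : R I M p 0 = ⊤ := by
    refine top_le_iff.1 fun z _ => ?_
    have hz : Formal.modPowπ I 0 M = 0 := by
      have := (FormalH7.smulFamily_comp_eq_zero_iff (Formal.modPowπ I 0 M)).1 (cokernel.condition _) 1
        (by rw [pow_zero, Ideal.one_eq_top]; trivial)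
      rwa [smulMod_one', Category.id_comp] at this
    rw [mem_R, hz]
    exact hm_zero p _
  have h1 := smul_R_le I M p 0 (n + 1) (Nat.zero_le _)
  rw [h0, Nat.sub_zero] at h1
  rw [← sub_eq_zero, ← map_sub]
  have h2 : x - y ∈ (R I M p (n + 1) : Set (Coh.HH X M p)) := h1 h
  rwa [← ker_toHHmodPow] at h2

/-- The completion of `H^p(X, M)` is the limit of the `H^p(X, M/IⁿM)`, compatibly. -/
theorem exists_completion_equiv (hM : Coh.IsCoh M) :
    ∃ e : AdicCompletion I (Coh.HH X M p) ≃+ Formal.HHlim I M p,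
      ∀ x, e (AdicCompletion.of I (Coh.HH X M p) x) = Formal.toHHlim I M p x := by
  have hrep : ∀ (x : AdicCompletion I (Coh.HH X M p)) (n : ℕ), ∃ h, Submodule.mkQ _ h = x.val n :=
    fun x n => Submodule.mkQ_surjective _ _
  choose rep hr using hrep
  let g : AdicCompletion I (Coh.HH X M p) → ∀ n, Formal.HHmodPow I M p n :=
    fun x n => Formal.toHHmodPow I M p n (rep x (n + 1))
  have gspec : ∀ x n h, Submodule.mkQ _ h = x.val (n + 1) → g x n = Formal.toHHmodPow I M p n h :=
    fun x n h hh => toHHmodPow_eq_of_mk_eq I M p ((Submodule.Quotient.eq _).1 ((hr x (n + 1)).trans hh.symm))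
  have htrans : ∀ (n : ℕ) (x : Coh.HH X M p),
      Formal.HHmodPowTrans I M p n (Formal.toHHmodPow I M p (n + 1) x) = Formal.toHHmodPow I M p n x :=
    fun n x => (Formal.toHHlim I M p x).2 n
  have gmem : ∀ x, g x ∈ Formal.HHlim I M p := fun x n => by
    refine (htrans n _).trans (gspec x n _ ?_).symm
    have := x.2 (Nat.le_succ (n + 1))
    rw [← hr x (n + 2)] at this
    exact this
  let G : AdicCompletion I (Coh.HH X M p) →+ Formal.HHlim I M p :=
    AddMonoidHom.mk' (fun x => ⟨g x, gmem x⟩) fun x y => Subtype.ext (funext fun n => by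
      refine (gspec (x + y) n (rep x (n + 1) + rep y (n + 1)) ?_).trans (map_add _ _ _)
      rw [map_add, hr, hr]
      rfl)
  obtain ⟨c, hc⟩ := exists_R_small I M p hM
  have hsmall : ∀ n j h, j + c ≤ n + 1 → Formal.toHHmodPow I M p n h = 0 →
      Submodule.mkQ (I ^ j • ⊤ : Submodule A (Coh.HH X M p)) h = 0 := fun n j h hj h0 => by
    have h1 : h ∈ (R I M p (n + 1) : Set (Coh.HH X M p)) := (ker_toHHmodPow I M p n) ▸ h0
    exact (Submodule.Quotient.mk_eq_zero _).2
      (Submodule.smul_mono_left (Ideal.pow_le_pow_right (by omega)) (hc (n + 1) (by omega) h1))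
  have hinj : Function.Injective G := by
    refine (injective_iff_map_eq_zero G).2 fun x hx => AdicCompletion.ext fun j => ?_
    have h0 : Formal.toHHmodPow I M p (j + c) (rep x (j + c + 1)) = 0 :=
      congrFun (congrArg Subtype.val hx) (j + c)
    rw [← x.2 (show j ≤ j + c + 1 by omega), ← hr x (j + c + 1)]
    exact hsmall (j + c) j _ (by omega) h0
  have hsurj : Function.Surjective G := fun z => by
    obtain ⟨h, hh⟩ := exists_lifts I M p hM z
    have hstep : ∀ n, Formal.toHHmodPow I M p n (h (n + 1) - h n) = 0 := fun n => by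
      rw [map_sub, hh, sub_eq_zero, ← z.2 n, ← hh (n + 1), htrans]
    have hle : ∀ m n, m ≤ n → Submodule.mkQ (I ^ m • ⊤ : Submodule A (Coh.HH X M p)) (h (n + c)) =
        Submodule.mkQ (I ^ m • ⊤ : Submodule A (Coh.HH X M p)) (h (m + c)) := fun m n hmn => by
      induction hmn with
      | refl => rfl
      | @step n hmn ih =>
        refine Eq.trans ?_ ih
        have : m ≤ n := hmn
        rw [← sub_eq_zero, ← map_sub, show Nat.succ n + c = n + c + 1 by omega]
        exact hsmall (n + c) m _ (by omega) (hstep (n + c))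
    let y : AdicCompletion I (Coh.HH X M p) := ⟨fun j => Submodule.mkQ _ (h (j + c)), fun {m n} hmn => hle m n hmn⟩
    refine ⟨y, Subtype.ext (funext fun n => ?_)⟩
    refine (gspec y n (h (n + 1 + c)) rfl).trans ?_
    clear_value y
    have : ∀ i, Formal.toHHmodPow I M p n (h (n + i)) = z.1 n := fun i => by
      induction i with
      | zero => exact hh n
      | succ i ih =>
        rw [← ih, ← sub_eq_zero, ← map_sub, ← AddMonoidHom.mem_ker, ← SetLike.mem_coe, ker_toHHmodPow]
        have h1 : h (n + (i + 1)) - h (n + i) ∈ (R I M p (n + i + 1) : Set (Coh.HH X M p)) :=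
          (ker_toHHmodPow I M p (n + i)) ▸ (hstep (n + i))
        exact R_antitone I M p (by omega) h1
    rw [show n + 1 + c = n + (1 + c) by omega]
    exact this _
  refine ⟨AddEquiv.ofBijective G ⟨hinj, hsurj⟩, fun x => Subtype.ext (funext fun n => gspec _ n x rfl)⟩

end Groth.Agent.CohFound.FF
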