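import Mathlib.Algebra.Category.ModuleCat.Sheaf.Abelian
import Mathlib.Algebra.Category.ModuleCat.Sheaf.Colimits
import Mathlib.Algebra.Category.ModuleCat.Sheaf.Limits
import Mathlib.Algebra.Category.ModuleCat.Presheaf.Generator
import Mathlib.Algebra.Category.ModuleCat.Presheaf.Colimits
import Mathlib.Algebra.Category.Grp.AB
import Mathlib.AlgebraicGeometry.Modules.Sheaf
import Mathlib.CategoryTheory.Abelian.GrothendieckAxioms.Sheaf
import Mathlib.CategoryTheory.Abelian.GrothendieckCategory.EnoughInjectives
import Mathlib.CategoryTheory.Abelian.Injective.Resolution
import Groth.Prelude.Def_SiteColimFix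

/-!
# Sheaves of modules form a Grothendieck abelian category

In particular `X.Modules` has enough injectives and injective resolutions, and the forgetful
functor to abelian sheaves is exact and commutes with small colimits.
-/

universe u

open CategoryTheory CategoryTheory.Limits

namespace Groth.Agent.CohFound

section

variable {C : Type u} [SmallCategory C] {J : GrothendieckTopology C} (R : Sheaf J RingCat.{u})

instance preservesColimitsOfShape_sheafOfModules_toSheaf (K : Type u) [SmallCategory K] :
    PreservesColimitsOfShape K (SheafOfModules.toSheaf.{u} R) where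
  preservesColimit {F} := by
    let L := PresheafOfModules.sheafification.{u} (𝟙 R.obj)
    let adj := PresheafOfModules.sheafificationAdjunction.{u} (𝟙 R.obj)
    have : PreservesColimitsOfShape K L := adj.leftAdjoint_preservesColimits.preservesColimitsOfShape
    have : PreservesColimitsOfShape K
        (presheafToSheaf J AddCommGrpCat.{u}) :=
      (sheafificationAdjunction J AddCommGrpCat.{u}).leftAdjoint_preservesColimits.preservesColimitsOfShape
    let G := F ⋙ SheafOfModules.forget R
    let e : F ≅ G ⋙ L := Functor.isoWhiskerLeft F (asIso adj.counit).symm
    have h := isColimitOfPreserves L (colimit.isColimit G)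
    have h' := isColimitOfPreserves (PresheafOfModules.toPresheaf R.obj ⋙ presheafToSheaf J AddCommGrpCat.{u})
      (colimit.isColimit G)
    exact preservesColimit_of_preserves_colimit_cocone
      ((IsColimit.precomposeHomEquiv e _).symm h)
      (((IsColimit.precomposeHomEquiv
        (Functor.isoWhiskerRight e (SheafOfModules.toSheaf R)) _).symm h').ofIsoColimit
          (Cocone.ext (Iso.refl _) (fun j => by rfl)))

instance hasExactColimitsOfShape_sheafOfModules (K : Type u) [SmallCategory K] [IsFiltered K] :
    HasExactColimitsOfShape K (SheafOfModules.{u} R) :=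
  HasExactColimitsOfShape.domain_of_functor K (SheafOfModules.toSheaf.{u} R)

lemma hasSeparator_sheafOfModules : HasSeparator (SheafOfModules.{u} R) := by
  let adj := PresheafOfModules.sheafificationAdjunction.{u} (𝟙 R.obj)
  let f : C → SheafOfModules.{u} R := fun X =>
    (PresheafOfModules.sheafification.{u} (𝟙 R.obj)).obj
      ((PresheafOfModules.free R.obj).obj (yoneda.obj X))
  have hf : ObjectProperty.IsSeparating (.ofObj f) := by
    intro M N φ ψ h
    apply (SheafOfModules.forget R).map_injective
    refine PresheafOfModules.freeYoneda.isSeparating R.obj _ _ ?_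
    rintro _ ⟨X⟩ g
    have := congrArg (adj.homEquiv _ _) (h _ ⟨X⟩ ((adj.homEquiv _ M).symm g))
    simp only [Adjunction.homEquiv_naturality_right, Equiv.apply_symm_apply] at this
    exact this
  exact ⟨_, hf.isSeparator_coproduct⟩

instance isGrothendieckAbelian_sheafOfModules : IsGrothendieckAbelian.{u} (SheafOfModules.{u} R) where
  ab5OfSize := ⟨fun K _ _ => inferInstance⟩
  hasSeparator := hasSeparator_sheafOfModules R

end

open AlgebraicGeometry

instance isGrothendieckAbelian_modules (X : Scheme.{u}) : IsGrothendieckAbelian.{u} X.Modules :=
  isGrothendieckAbelian_sheafOfModules X.ringCatSheaf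

instance enoughInjectives_modules (X : Scheme.{u}) : EnoughInjectives X.Modules := inferInstance

instance hasInjectiveResolutions_modules (X : Scheme.{u}) : HasInjectiveResolutions X.Modules :=
  inferInstance

end Groth.Agent.CohFound
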