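import Groth.Agent.Lib.CohFound.HFin
import Groth.Agent.Lib.CohFound.AffMor

/-!
# Finiteness of the cohomology of a direct image
-/

universe u

open CategoryTheory TopologicalSpace Opposite CategoryTheory.Limits Abelian AlgebraicGeometry

namespace Groth.Agent.CohFound

section Top

variable {X Y : TopCat.{u}}

/-- An endomorphism of a sheaf extended to its injective short exact sequence. -/
noncomputable def injSCMap {F : CohTop.Ab X} (φ : F ⟶ F) : injSC F ⟶ injSC F :=
  ShortComplex.homMk φ (Injective.factorThru (φ ≫ Injective.ι F) (Injective.ι F))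
    (cokernel.map _ _ φ (Injective.factorThru (φ ≫ Injective.ι F) (Injective.ι F))
      (Injective.comp_factorThru _ _))
    (Injective.comp_factorThru _ _).symm
    (cokernel.π_desc _ _ _).symm

/-- An equivalence descends along two surjections with corresponding kernels. -/
theorem exists_descend {A A' H H' : Type u} [AddCommGroup A] [AddCommGroup A'] [AddCommGroup H]
    [AddCommGroup H'] (p' : A' →+ H') (p : A →+ H) (hp' : Function.Surjective p')
    (hp : Function.Surjective p) (eQ : A' ≃+ A) (hker : ∀ a, p' a = 0 ↔ p (eQ a) = 0) :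
    ∃ ε : H' ≃+ H, ∀ a, ε (p' a) = p (eQ a) := by
  let g : H' →+ H := p'.liftOfSurjective hp'
    ⟨p.comp eQ.toAddMonoidHom, fun a ha => AddMonoidHom.mem_ker.2 ((hker a).1 (AddMonoidHom.mem_ker.1 ha))⟩
  have hg : ∀ a, g (p' a) = p (eQ a) := fun a => p'.liftOfRightInverse_comp_apply _ _ _ a
  refine ⟨AddEquiv.ofBijective g ⟨?_, fun x => ?_⟩, hg⟩
  · refine (injective_iff_map_eq_zero g).2 fun y hy => ?_
    obtain ⟨a, rfl⟩ := hp' y
    exact (hker a).2 ((hg a).symm.trans hy)
  · obtain ⟨a, rfl⟩ := hp x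
    exact ⟨p' (eQ.symm a), (hg _).trans (by rw [AddEquiv.apply_symm_apply])⟩

/-- The comparison of dimension shifting can be chosen to commute with endomorphisms. -/
theorem exists_addEquiv_commute_of_dimShift (Φ : CohTop.Ab X ⥤ CohTop.Ab Y) [Φ.PreservesZeroMorphisms]
    (U : Opens X) (V : Opens Y)
    (e : ∀ F : CohTop.Ab X, (Φ.obj F).obj.obj (op V) ≃+ F.obj.obj (op U))
    (he : ∀ {F G : CohTop.Ab X} (φ : F ⟶ G) s,
      e G ((Φ.map φ).hom.app (op V) s) = φ.hom.app (op U) (e F s))
    (hI : ∀ I : CohTop.Ab X, Injective I → ∀ n, Subsingleton (Hc (Φ.obj I) (n + 1) V))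
    (P : ℕ → CohTop.Ab X → Prop)
    (hP : ∀ m F, P (m + 1) F → ((injSC F).map Φ).ShortExact ∧ P m (injSC F).X₃)
    (n : ℕ) (F : CohTop.Ab X) (hF : P n F) :
    ∃ ε : Hc (Φ.obj F) n V ≃+ Hc F n U,
      ∀ (φ : F ⟶ F) x, ε (mp (Φ.map φ) n V x) = mp φ n U (ε x) := by
  induction n generalizing F with
  | zero =>
    refine ⟨(hc0 _ V).trans ((e F).trans (hc0 F U).symm), fun φ x => ?_⟩
    apply (hc0 F U).injective
    simp only [AddEquiv.trans_apply, AddEquiv.apply_symm_apply]
    rw [hc0_mp, he, hc0_mp, AddEquiv.apply_symm_apply]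
  | succ n ih =>
    obtain ⟨hS', hQ⟩ := hP n F hF
    have hS := injSC_shortExact F
    cases n with
    | zero =>
      let eQ := e (injSC F).X₃
      obtain ⟨ε, hε⟩ := exists_descend (delta₀ hS' V) (delta₀ hS U)
        (delta₀_surjective hS' V (hI _ inferInstance 0))
        (delta₀_surjective hS U (subsingleton_hc_injective _ 0 U)) eQ fun s => by
          rw [← AddMonoidHom.mem_ker, ← AddMonoidHom.mem_ker, delta₀_ker, delta₀_ker]
          constructor
          · rintro ⟨t, rfl⟩
            exact ⟨e _ t, (he (injSC F).g t).symm⟩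
          · rintro ⟨t, ht⟩
            refine ⟨(e _).symm t, eQ.injective ?_⟩
            refine (he (injSC F).g _).trans ?_
            rw [AddEquiv.apply_symm_apply]
            exact ht
      refine ⟨ε, fun φ x => ?_⟩
      obtain ⟨s, rfl⟩ := delta₀_surjective hS' V (hI _ inferInstance 0) x
      have hn' : ∀ s, mp (Φ.map φ) 1 V (delta₀ hS' V s) =
          delta₀ hS' V ((Φ.map (injSCMap φ).τ₃).hom.app (op V) s) := fun s => by
        refine (delta_natural hS' hS' (Φ.mapShortComplex.map (injSCMap φ)) 0 V _).trans ?_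
        refine congrArg (delta hS' 0 V) ((hc0 _ V).injective ?_)
        exact (hc0_mp _ V _).trans (((congrArg _ (AddEquiv.apply_symm_apply _ _))).trans
          (AddEquiv.apply_symm_apply _ _).symm)
      have hn : ∀ s, mp φ 1 U (delta₀ hS U s) =
          delta₀ hS U ((injSCMap φ).τ₃.hom.app (op U) s) := fun s => by
        refine (delta_natural hS hS (injSCMap φ) 0 U _).trans ?_
        refine congrArg (delta hS 0 U) ((hc0 _ U).injective ?_)
        exact (hc0_mp _ U _).trans (((congrArg _ (AddEquiv.apply_symm_apply _ _))).trans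
          (AddEquiv.apply_symm_apply _ _).symm)
      refine (congrArg ε (hn' s)).trans ((hε _).trans ?_)
      refine Eq.trans ?_ (congrArg (mp φ 1 U) (hε s)).symm
      exact (congrArg (delta₀ hS U) (he _ s)).trans (hn (eQ s)).symm
    | succ k =>
      obtain ⟨eq, heq⟩ := ih (injSC F).X₃ hQ
      let d' := AddEquiv.ofBijective _ (delta_bijective hS' k V (hI _ inferInstance k)
          (hI _ inferInstance (k + 1)))
      let d := AddEquiv.ofBijective _ (delta_bijective hS k U (subsingleton_hc_injective _ k U)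
          (subsingleton_hc_injective _ (k + 1) U))
      refine ⟨(d'.symm.trans eq).trans d, fun φ x => ?_⟩
      obtain ⟨y, rfl⟩ := d'.surjective x
      have hn' : mp (Φ.map φ) (k + 2) V (d' y) = d' (mp (Φ.map (injSCMap φ).τ₃) (k + 1) V y) :=
        delta_natural hS' hS' (Φ.mapShortComplex.map (injSCMap φ)) (k + 1) V y
      rw [hn']
      change d (eq (d'.symm (d' _))) = mp φ (k + 2) U (d (eq (d'.symm (d' y))))
      refine (congrArg d (congrArg eq (d'.symm_apply_apply _))).trans ?_
      refine Eq.trans ?_ (congrArg (mp φ (k + 2) U) (congrArg d (congrArg eq (d'.symm_apply_apply y)))).symm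
      exact (congrArg d (heq _ y)).trans (delta_natural hS hS (injSCMap φ) (k + 1) U (eq y)).symm

/-- Cohomology of a direct image, compatibly with endomorphisms. -/
theorem exists_hc_push_commute (f : X ⟶ Y) {B : Set (Opens Y)} (hB : Opens.IsBasis B) (n : ℕ)
    (F : CohTop.Ab X) (hF : PushAcyclicUpTo f B n F) (V : Opens Y) :
    ∃ ε : Hc ((CohTop.push f).obj F) n V ≃+ Hc F n ((Opens.map f).obj V),
      ∀ (φ : F ⟶ F) x, ε (mp ((CohTop.push f).map φ) n V x) = mp φ n _ (ε x) := by
  refine exists_addEquiv_commute_of_dimShift (CohTop.push f) ((Opens.map f).obj V) V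
    (fun F => AddEquiv.refl _) (fun φ s => rfl) (fun I hI m => ?_) (PushAcyclicUpTo f B)
    (fun m F hF => ⟨?_, hF.cokernel f⟩) n F hF
  · have := isFlasque_of_injective I
    have : TopCat.Sheaf.IsFlasque ((CohTop.push f).obj I) :=
      TopCat.Sheaf.IsFlasque.pushforward_isFlasque I f
    exact subsingleton_hc_of_isFlasque _ m V
  · exact shortExact_push f (injSC_shortExact F) hB (fun W hW => hF 0 (Nat.succ_pos _) W hW)

end Top

section Scheme

variable {X Y : Scheme.{u}} {A : Type u} [CommRing A]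

lemma abFPushIso_gEnd (f : X ⟶ Y) (M : X.Modules) (r : Γ(Y, ⊤)) :
    gEnd ((Scheme.Modules.pushforward f).obj M) r ≫ (abFPushIso f M).hom =
      (abFPushIso f M).hom ≫ (CohTop.push (f.base : sp X ⟶ sp Y)).map (gEnd M (f.appTop r)) := by
  apply CategoryTheory.Sheaf.hom_ext
  refine NatTrans.ext (funext fun V => AddCommGrpCat.ext fun x => ?_)
  change f.app V.unop (M1.ores (le_top : V.unop ≤ (⊤ : Y.Opens)) r) • (show Γ(M, f ⁻¹ᵁ V.unop) from x) =
    M1.ores (le_top : f ⁻¹ᵁ V.unop ≤ (⊤ : X.Opens)) (f.appTop r) • (show Γ(M, f ⁻¹ᵁ V.unop) from x)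
  congr 1
  exact ConcreteCategory.congr_hom (f.naturality (homOfLE (le_top : V.unop ≤ ⊤)).op) r

/-- Composing the map induced by an isomorphism with a commuting comparison. -/
theorem trans_commute {Y' : TopCat.{u}} {G G' : CohTop.Ab Y'} (i : G ≅ G') (n : ℕ) (V : Opens Y')
    {H : Type u} [AddCommGroup H] (ε : Hc G' n V ≃+ H) (α : G ⟶ G) (β : G' ⟶ G') (γ : H →+ H)
    (hi : α ≫ i.hom = i.hom ≫ β) (hε : ∀ y, ε (mp β n V y) = γ (ε y)) (x : Hc G n V) :
    (mpEquiv i n V).trans ε (mp α n V x) = γ ((mpEquiv i n V).trans ε x) := by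
  refine Eq.trans (congrArg ε ?_) (hε (mp i.hom n V x))
  exact ((mp_comp α i.hom n V x).symm.trans (congrArg (fun χ => mp χ n V x) hi)).trans (mp_comp _ _ n V x)

omit [CommRing A] in
/-- An equivariant equivalence transports finiteness over a ring acting through two rings. -/
theorem finite_compHom_iff {R S S' H H' : Type u} [CommRing R] [CommRing S] [CommRing S'] [AddCommGroup H]
    [AddCommGroup H'] [Module S H] [Module S' H'] (φ : R →+* S) (ψ : R →+* S') (T : H ≃+ H')
    (hT : ∀ a x, T (φ a • x) = ψ a • T x) :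
    @Module.Finite R H _ _ (Module.compHom H φ) ↔ @Module.Finite R H' _ _ (Module.compHom H' ψ) := by
  let := Module.compHom H φ
  let := Module.compHom H' ψ
  exact Module.Finite.equiv_iff (T.toLinearEquiv hT)

/-- An equivariant equivalence on cohomology transports finiteness. -/
theorem hFin_iff_of_addEquiv {φ : A →+* Γ(Y, ⊤)} {ψ : A →+* Γ(X, ⊤)} {N : Y.Modules} {M : X.Modules}
    {n m : ℕ} {V : Opens (sp Y)} {U : Opens (sp X)} (T : Hc ((abF Y).obj N) n V ≃+ Hc ((abF X).obj M) m U)
    (hT : ∀ a x, T (gMul N (φ a) n V x) = gMul M (ψ a) m U (T x)) : HFin φ N n V ↔ HFin ψ M m U := by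
  let := gModule N n V
  let := gModule M m U
  exact finite_compHom_iff φ ψ T fun a x => hT a x

/-- Finiteness of the cohomology of a direct image with no higher direct images. -/
theorem hFin_push_iff (f : X ⟶ Y) (φ : A →+* Γ(Y, ⊤)) (M : X.Modules) {B : Set (Opens (sp Y))}
    (hB : Opens.IsBasis B) (n : ℕ)
    (hacyc : PushAcyclicUpTo (f.base : sp X ⟶ sp Y) B n ((abF X).obj M)) (V : Opens (sp Y)) :
    HFin φ ((Scheme.Modules.pushforward f).obj M) n V ↔
      HFin (f.appTop.hom.comp φ) M n ((Opens.map (f.base : sp X ⟶ sp Y)).obj V) := by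
  obtain ⟨ε, hε⟩ := exists_hc_push_commute (f.base : sp X ⟶ sp Y) hB n ((abF X).obj M) hacyc V
  exact hFin_iff_of_addEquiv ((mpEquiv (abFPushIso f M) n V).trans ε) fun a x =>
    trans_commute (abFPushIso f M) n V ε _ _ _ (abFPushIso_gEnd f M (φ a)) (hε (gEnd M (f.appTop (φ a)))) x

end Scheme

end Groth.Agent.CohFound
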