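import Groth.Agent.Lib.CohFound.SerreVan
import Groth.Agent.Lib.CohFound.ClosedImmPush
import Groth.Agent.Lib.CohFound.EmbedPow
import Groth.Agent.Lib.CohFound.PushFin

/-!
# Proper schemes over a Noetherian ring with an ample module: finiteness and vanishing
-/

set_option autoImplicit false

universe u

open CategoryTheory TopologicalSpace Opposite CategoryTheory.Limits AlgebraicGeometry

namespace Groth.Agent.CohFound

variable {R : Type u} [CommRing R] [IsNoetherianRing R] {X : Scheme.{u}}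

/-- Direct images along affine morphisms have no higher cohomology on affine opens. -/
theorem pushAcyclic_isAffineHom {Y : Scheme.{u}} (f : X ⟶ Y) [IsAffineHom f] (M : X.Modules)
    (hM : Coh.IsQCoh M) (n : ℕ) :
    PushAcyclicUpTo (f.base : sp X ⟶ sp Y) {V : Opens (sp Y) | IsAffineOpen (V : Y.Opens)} n ((abF X).obj M) :=
  fun q _ _ hV =>
    haveI : M.IsQuasicoherent := hM
    subsingleton_hc_isAffineOpen M (hV.preimage f) q

/-- Finiteness for closed subschemes of projective space. -/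
theorem hFin_of_closedImmersion {N : ℕ} (j : X ⟶ CohB1.ProjSpace N R) [IsClosedImmersion j]
    (q : X ⟶ Spec (CommRingCat.of R)) (hq : j ≫ CohB1.ProjSpace.toSpec N R = q)
    (M : X.Modules) (hM : Coh.IsCoh M) (p : ℕ) : HFin (Coh.toGlobal q) M p ⊤ := by
  have h := ProjNum.hFin_coh N R ((Scheme.Modules.pushforward j).obj M) (isCoh_push_closedImm j hM) p
  have h' := (hFin_push_iff j (ProjNum.baseHom N R) M
    (B := {V : Opens (sp (CohB1.ProjSpace N R)) | IsAffineOpen (V : (CohB1.ProjSpace N R).Opens)})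
    (CohB1.ProjSpace N R).isBasis_affineOpens p (pushAcyclic_isAffineHom j M hM.1 p) ⊤).1 h
  have he : j.appTop.hom.comp (ProjNum.baseHom N R) = Coh.toGlobal q := by
    rw [← hq]; rfl
  rw [he] at h'
  exact h'

/-- Finiteness in the presence of an ample module. -/
theorem hFin_of_isAmple (q : X ⟶ Spec (CommRingCat.of R)) [IsProper q] {L : X.Modules}
    (hL : CohB1.IsAmple L) (M : X.Modules) (hM : Coh.IsCoh M) (p : ℕ) :
    HFin (Coh.toGlobal q) M p ⊤ := by
  obtain ⟨N, d, j, -, hj, hq, -⟩ := exists_closedImmersion_pow_of_isAmple q hL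
  exact hFin_of_closedImmersion j q hq M hM p

/-- Serre vanishing for an ample module, along a cofinal set of powers. -/
theorem exists_vanishing_of_isAmple (q : X ⟶ Spec (CommRingCat.of R)) [IsProper q] {L : X.Modules}
    (hL : CohB1.IsAmple L) :
    ∃ d : ℕ, 0 < d ∧ ∀ M : X.Modules, Coh.IsCoh M → ∃ k₀ : ℕ, ∀ k : ℕ, k₀ ≤ k → ∀ p : ℕ, 0 < p →
      Subsingleton (Hc ((abF X).obj (CohB1.tensorMod M (CohB1.tensorPow L (d * k)))) p ⊤) := by
  obtain ⟨N, d, j, hd, hj, -, ⟨τ⟩⟩ := exists_closedImmersion_pow_of_isAmple q hL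
  refine ⟨d, hd, fun M hM => ?_⟩
  have : IsClosedImmersion j := hj
  have hG := isCoh_push_closedImm j hM
  choose m₀ hm₀ using fun p : Fin N =>
    ProjNum.serre_vanishing N R (p.1 + 1) (Nat.succ_pos _) ((Scheme.Modules.pushforward j).obj M) hG
  refine ⟨Finset.univ.sup m₀, fun k hk p hp => ?_⟩
  have hcov := Groth.Agent.Twist.iSup_basicOpen_one N R
  let E : (CohB1.ProjSpace N R).Modules := _root_.Twist.twist (CohB1.polyGrading N R) (k : ℤ)
  have hE : Coh.IsQCoh E := Groth.Agent.Twist.isQCoh_twist' _ _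
  have hvan : Subsingleton (Hc ((abF (CohB1.ProjSpace N R)).obj
      (CohB1.tensorMod ((Scheme.Modules.pushforward j).obj M) E)) p ⊤) := by
    by_cases hpN : p ≤ N
    · obtain ⟨p', rfl⟩ : ∃ p', p = p' + 1 := ⟨p - 1, by omega⟩
      exact hm₀ ⟨p', by omega⟩ k ((Finset.le_sup (Finset.mem_univ _)).trans hk)
    · exact ProjNum.subsingleton_hc_qcoh N R _ (M2.isQCoh_tensor hG.1 hE) p (by omega)
  obtain ⟨ek⟩ := Groth.Agent.Twist.nonempty_iso_tensorPow (CohB1.polyGrading N R) hcov k
  let e : CohB1.tensorMod M ((Scheme.Modules.pullback j).obj E) ≅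
      CohB1.tensorMod M (CohB1.tensorPow L (d * k)) :=
    M2.tensorIso (Iso.refl M) ((Scheme.Modules.pullback j).mapIso ek ≪≫
      M2.pullTensorPowIso j _ k ≪≫ M2.tensorPowIso τ k ≪≫ M2.tensorPowPow L d k)
  obtain ⟨pe⟩ := nonempty_push_tensor_iso j M hM.1 E hE
  have hQ : Coh.IsQCoh (CohB1.tensorMod M ((Scheme.Modules.pullback j).obj E)) :=
    M2.isQCoh_tensor hM.1 (Twist.isQCoh_of_isInvertible
      (Twist.isInvertible_pullback j (Twist.isInvertible_twist _ hcov _)))
  have : (CohB1.tensorMod M ((Scheme.Modules.pullback j).obj E)).IsQuasicoherent := hQ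
  obtain ⟨ε⟩ := nonempty_hc_push_isAffineHom j (CohB1.tensorMod M ((Scheme.Modules.pullback j).obj E)) p ⊤
  exact subsingleton_hc_of_iso e p ⊤
    (@Equiv.subsingleton _ _ ε.symm.toEquiv (subsingleton_hc_of_iso pe.symm p ⊤ hvan))

end Groth.Agent.CohFound
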