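import Groth.Agent.Lib.CohFound.OpenEmb
import Groth.Agent.Lib.CohFound.ModulesInst

/-!
# The underlying abelian sheaf of an `O_X`-module
-/

universe u

open CategoryTheory TopologicalSpace Opposite CategoryTheory.Limits AlgebraicGeometry

namespace Groth.Agent.CohFound

/-- The underlying space. -/
abbrev sp (X : Scheme.{u}) : TopCat.{u} := X.toPresheafedSpace.carrier

/-- The underlying abelian sheaf of an `O_X`-module, as a functor. -/
noncomputable def abF (X : Scheme.{u}) : X.Modules ⥤ CohTop.Ab (sp X) :=
  SheafOfModules.toSheaf X.ringCatSheaf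

variable {X : Scheme.{u}}

lemma abF_map_app {M N : X.Modules} (φ : M ⟶ N) (U : X.Opens) :
    ((abF X).map φ).hom.app (op U) = φ.app U := rfl

instance : (abF X).Additive := inferInstanceAs (SheafOfModules.toSheaf X.ringCatSheaf).Additive

instance : (abF X).Faithful := inferInstanceAs (SheafOfModules.toSheaf X.ringCatSheaf).Faithful

instance : PreservesFiniteLimits (abF X) :=
  inferInstanceAs (PreservesFiniteLimits (SheafOfModules.toSheaf X.ringCatSheaf))

instance preservesColimitsOfSize_abF : PreservesColimitsOfSize.{u, u} (abF X) where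
  preservesColimitsOfShape {K} _ := preservesColimitsOfShape_sheafOfModules_toSheaf X.ringCatSheaf K

instance preservesFiniteColimits_abF : PreservesFiniteColimits (abF X) :=
  PreservesColimitsOfSize.preservesFiniteColimits.{u, u} _

lemma shortExact_abF {S : ShortComplex X.Modules} (hS : S.ShortExact) :
    (S.map (abF X)).ShortExact :=
  hS.map_of_exact (abF X)

lemma mono_of_injective_moduleApp {M N : X.Modules} (φ : M ⟶ N)
    (h : ∀ U, Function.Injective (φ.app U)) : Mono φ := by
  have : Mono ((abF X).map φ) := mono_of_injective_app _ fun U => h U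
  exact (abF X).mono_of_mono_map this

lemma isOpenEmbedding_base {Y : Scheme.{u}} (j : Y ⟶ X) [IsOpenImmersion j] :
    Topology.IsOpenEmbedding (j.base : sp Y ⟶ sp X) :=
  j.isOpenEmbedding

/-- The underlying sheaf of a restriction along an open immersion. -/
theorem nonempty_hc_abF_restrict {Y : Scheme.{u}} (j : Y ⟶ X) [IsOpenImmersion j] (M : X.Modules)
    (n : ℕ) (W : Y.Opens) :
    Nonempty (Hc ((abF Y).obj (M.restrict j)) n W ≃+ Hc ((abF X).obj M) n (j ''ᵁ W)) :=
  nonempty_hc_resEmb (isOpenEmbedding_base j) ((abF X).obj M) n W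

end Groth.Agent.CohFound
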