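import Groth.Agent.Lib.CohFound.Basic
import Mathlib.Topology.Sheaves.MayerVietoris
import Mathlib.CategoryTheory.Sites.SheafCohomology.MayerVietoris

/-!
# The Mayer–Vietoris sequence for `Hc`
-/

set_option maxHeartbeats 400000

universe u

open CategoryTheory TopologicalSpace Opposite CategoryTheory.Limits Abelian

namespace Groth.Agent.CohFound

attribute [local instance] HasBinaryBiproducts.of_hasBinaryProducts

variable {X : TopCat.{u}} (U V : Opens X)

/-- `ℤ[U ⊓ V] ⟶ ℤ[U] ⊞ ℤ[V] ⟶ ℤ[U ⊔ V]`. -/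
noncomputable abbrev mvSC : ShortComplex (CohTop.Ab X) :=
  ShortComplex.mk
    (biprod.lift ((freeFunctor X).map (homOfLE (inf_le_left : U ⊓ V ≤ U)))
      (-(freeFunctor X).map (homOfLE (inf_le_right : U ⊓ V ≤ V))))
    (biprod.desc ((freeFunctor X).map (homOfLE (le_sup_left : U ≤ U ⊔ V)))
      ((freeFunctor X).map (homOfLE (le_sup_right : V ≤ U ⊔ V)))) (by
    rw [biprod.lift_desc, Preadditive.neg_comp, ← CategoryTheory.Functor.map_comp,
      ← CategoryTheory.Functor.map_comp, homOfLE_comp, homOfLE_comp, add_neg_cancel])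

lemma mvSC_shortExact : (mvSC U V).ShortExact :=
  (Opens.mayerVietorisSquare (T := X) U V).shortComplex_shortExact

/-- The connecting map `H^n(U ⊓ V) → H^{n+1}(U ⊔ V)`. -/
noncomputable def mvδ (F : CohTop.Ab X) (n : ℕ) : Hc F n (U ⊓ V) →+ Hc F (n + 1) (U ⊔ V) :=
  (mvSC_shortExact U V).extClass.precomp F (Nat.add_comm 1 n)

lemma mvδ_apply (F : CohTop.Ab X) (n : ℕ) (x : Hc F n (U ⊓ V)) :
    mvδ U V F n x = (mvSC_shortExact U V).extClass.comp x (Nat.add_comm 1 n) := rfl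

variable {U V} {F : CohTop.Ab X} {n : ℕ}

/-- The class on `ℤ[U] ⊞ ℤ[V]` given by a pair. -/
noncomputable def mvPair (y : Hc F n U) (z : Hc F n V) :
    Ext.{u} (mvSC U V).X₂ F n :=
  (Ext.mk₀ biprod.fst).comp y (zero_add n) + (Ext.mk₀ biprod.snd).comp z (zero_add n)

lemma mvPair_inl (y : Hc F n U) (z : Hc F n V) :
    (Ext.mk₀ biprod.inl).comp (mvPair y z) (zero_add n) = y := by
  rw [mvPair, Ext.comp_add, Ext.mk₀_comp_mk₀_assoc, Ext.mk₀_comp_mk₀_assoc, biprod.inl_fst,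
    biprod.inl_snd, Ext.mk₀_id_comp, Ext.mk₀_zero, Ext.zero_comp, add_zero]

lemma mvPair_inr (y : Hc F n U) (z : Hc F n V) :
    (Ext.mk₀ biprod.inr).comp (mvPair y z) (zero_add n) = z := by
  rw [mvPair, Ext.comp_add, Ext.mk₀_comp_mk₀_assoc, Ext.mk₀_comp_mk₀_assoc, biprod.inr_fst,
    biprod.inr_snd, Ext.mk₀_id_comp, Ext.mk₀_zero, Ext.zero_comp, zero_add]

lemma mvPair_eta (x : Ext.{u} (mvSC U V).X₂ F n) :
    mvPair ((Ext.mk₀ biprod.inl).comp x (zero_add n)) ((Ext.mk₀ biprod.inr).comp x (zero_add n)) =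
      x := by
  rw [mvPair, Ext.mk₀_comp_mk₀_assoc, Ext.mk₀_comp_mk₀_assoc, ← Ext.add_comp, ← Ext.mk₀_add,
    biprod.total, Ext.mk₀_id_comp]

lemma f_mvPair (y : Hc F n U) (z : Hc F n V) :
    (Ext.mk₀ (mvSC U V).f).comp (mvPair y z) (zero_add n) =
      rs F n (inf_le_left : U ⊓ V ≤ U) y - rs F n (inf_le_right : U ⊓ V ≤ V) z := by
  rw [mvPair, Ext.comp_add, Ext.mk₀_comp_mk₀_assoc, Ext.mk₀_comp_mk₀_assoc, biprod.lift_fst,
    biprod.lift_snd, Ext.mk₀_neg, Ext.neg_comp, ← sub_eq_add_neg]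
  rfl

lemma inl_g (x : Hc F n (U ⊔ V)) :
    (Ext.mk₀ biprod.inl).comp ((Ext.mk₀ (mvSC U V).g).comp x (zero_add n)) (zero_add n) =
      rs F n (le_sup_left : U ≤ U ⊔ V) x := by
  rw [Ext.mk₀_comp_mk₀_assoc, biprod.inl_desc]
  rfl

lemma inr_g (x : Hc F n (U ⊔ V)) :
    (Ext.mk₀ biprod.inr).comp ((Ext.mk₀ (mvSC U V).g).comp x (zero_add n)) (zero_add n) =
      rs F n (le_sup_right : V ≤ U ⊔ V) x := by
  rw [Ext.mk₀_comp_mk₀_assoc, biprod.inr_desc]
  rfl

/-- Gluing: classes on `U` and `V` agreeing on `U ⊓ V` come from `U ⊔ V`. -/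
lemma mv_glue (y : Hc F n U) (z : Hc F n V)
    (h : rs F n (inf_le_left : U ⊓ V ≤ U) y = rs F n (inf_le_right : U ⊓ V ≤ V) z) :
    ∃ x : Hc F n (U ⊔ V),
      rs F n (le_sup_left : U ≤ U ⊔ V) x = y ∧ rs F n (le_sup_right : V ≤ U ⊔ V) x = z := by
  obtain ⟨x, hx⟩ := Ext.contravariant_sequence_exact₂ (mvSC_shortExact U V) F (mvPair y z)
    (by rw [f_mvPair, h, sub_self])
  refine ⟨x, ?_, ?_⟩
  · rw [← inl_g, hx, mvPair_inl]
  · rw [← inr_g, hx, mvPair_inr]

/-- A class on `U ⊔ V` dying on `U` and on `V` comes from `U ⊓ V`. -/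
lemma mv_exact (x : Hc F (n + 1) (U ⊔ V))
    (hU : rs F (n + 1) (le_sup_left : U ≤ U ⊔ V) x = 0)
    (hV : rs F (n + 1) (le_sup_right : V ≤ U ⊔ V) x = 0) :
    ∃ v : Hc F n (U ⊓ V), mvδ U V F n v = x := by
  refine Ext.contravariant_sequence_exact₃ (mvSC_shortExact U V) F x ?_ (Nat.add_comm 1 n)
  rw [← mvPair_eta ((Ext.mk₀ (mvSC U V).g).comp x (zero_add (n + 1))), inl_g, inr_g, hU, hV,
    mvPair, Ext.comp_zero, Ext.comp_zero, add_zero]

/-- A class on `U ⊓ V` killed by the connecting map is a difference of restrictions. -/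
lemma mv_diff (v : Hc F n (U ⊓ V)) (h : mvδ U V F n v = 0) :
    ∃ (y : Hc F n U) (z : Hc F n V),
      rs F n (inf_le_left : U ⊓ V ≤ U) y - rs F n (inf_le_right : U ⊓ V ≤ V) z = v := by
  obtain ⟨w, hw⟩ := Ext.contravariant_sequence_exact₁ (mvSC_shortExact U V) F v
    (Nat.add_comm 1 n) h
  refine ⟨(Ext.mk₀ biprod.inl).comp w (zero_add n), (Ext.mk₀ biprod.inr).comp w (zero_add n), ?_⟩
  rw [← f_mvPair, mvPair_eta, hw]

lemma mvδ_sub (y : Hc F n U) (z : Hc F n V) :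
    mvδ U V F n (rs F n (inf_le_left : U ⊓ V ≤ U) y - rs F n (inf_le_right : U ⊓ V ≤ V) z) = 0 := by
  rw [← f_mvPair, mvδ_apply]
  exact (mvSC_shortExact U V).extClass_comp_assoc (mvPair y z)

lemma rs_mvδ_left (v : Hc F n (U ⊓ V)) :
    rs F (n + 1) (le_sup_left : U ≤ U ⊔ V) (mvδ U V F n v) = 0 := by
  rw [← inl_g, mvδ_apply, (mvSC_shortExact U V).comp_extClass_assoc, Ext.comp_zero]

lemma rs_mvδ_right (v : Hc F n (U ⊓ V)) :
    rs F (n + 1) (le_sup_right : V ≤ U ⊔ V) (mvδ U V F n v) = 0 := by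
  rw [← inr_g, mvδ_apply, (mvSC_shortExact U V).comp_extClass_assoc, Ext.comp_zero]

lemma mp_mvδ {G : CohTop.Ab X} (φ : F ⟶ G) (v : Hc F n (U ⊓ V)) :
    mp φ (n + 1) (U ⊔ V) (mvδ U V F n v) = mvδ U V G n (mp φ n (U ⊓ V) v) := by
  rw [mp_apply, mp_apply, mvδ_apply, mvδ_apply, Ext.comp_assoc_of_third_deg_zero]

lemma rs_mvδ {U' V' : Opens X} (hU : U' ≤ U) (hV : V' ≤ V) (v : Hc F n (U ⊓ V)) :
    rs F (n + 1) (sup_le_sup hU hV) (mvδ U V F n v) =
      mvδ U' V' F n (rs F n (inf_le_inf hU hV) v) := by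
  let φ : mvSC U' V' ⟶ mvSC U V :=
    { τ₁ := (freeFunctor X).map (homOfLE (inf_le_inf hU hV))
      τ₂ := biprod.map ((freeFunctor X).map (homOfLE hU)) ((freeFunctor X).map (homOfLE hV))
      τ₃ := (freeFunctor X).map (homOfLE (sup_le_sup hU hV))
      comm₁₂ := by
        apply biprod.hom_ext <;>
          simp only [Category.assoc, biprod.map_fst, biprod.map_snd, biprod.lift_fst,
            biprod.lift_snd, biprod.lift_fst_assoc, biprod.lift_snd_assoc, Preadditive.neg_comp,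
            Preadditive.comp_neg, ← CategoryTheory.Functor.map_comp, homOfLE_comp]
      comm₂₃ := by
        apply biprod.hom_ext' <;>
          simp only [biprod.inl_map_assoc, biprod.inr_map_assoc, biprod.inl_desc, biprod.inr_desc,
            biprod.inl_desc_assoc, biprod.inr_desc_assoc,
            ← CategoryTheory.Functor.map_comp, homOfLE_comp] }
  have h := ShortComplex.ShortExact.extClass_naturality (mvSC_shortExact U' V')
    (mvSC_shortExact U V) φ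
  rw [rs_apply, rs_apply, mvδ_apply, mvδ_apply]
  rw [← Ext.comp_assoc (Ext.mk₀ φ.τ₃) (mvSC_shortExact U V).extClass v (zero_add 1)
    (Nat.add_comm 1 n) (by omega), ← h]
  exact Ext.comp_assoc _ _ _ _ (zero_add n) (by omega)

end Groth.Agent.CohFound
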