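import Groth.Agent.Lib.ModM1.Coh
import Groth.Agent.Lib.ModM1.Stalk
import Groth.Agent.Lib.TensorMod.Invertible
import Groth.Prelude.Def_Curv2
import Groth.Prelude.Def_Algz2
import Mathlib.Topology.Sheaves.Skyscraper
import Mathlib.Algebra.Category.Grp.Colimits

/-!
# Quotients of finite free modules: globally generated modules of finite type on compact spaces
-/

universe u

open CategoryTheory Limits AlgebraicGeometry TopologicalSpace Opposite

namespace Groth.Agent.CohFound

variable {X : Scheme.{u}}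

/-- Tensoring preserves epimorphisms. -/
theorem epi_tensorMap {L L' : X.Modules} (φ : L ⟶ L') [Epi φ] (N : X.Modules) :
    Epi (M2.tensorMap φ (𝟙 N)) := by
  refine ⟨fun {K} g h e => M2.tensorMod_hom_ext fun U s t => ?_⟩
  refine M1.section_ext _ _ fun x hx => ?_
  obtain ⟨V, hV, hxV, s', hs'⟩ := (M1.epi_iff_locally_surjective φ).1 inferInstance U s x hx
  have e' := congrArg (fun ψ => ψ.app V (M2.tsec L N s' (M2.res N hV t))) e
  simp only [M1.comp_app_apply, M2.tensorMap_tsec] at e'
  have ht : M2.tsec L' N (φ.app V s') (M2.res N hV t) = M2.res _ hV (M2.tsec L' N s t) := by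
    rw [M2.res_tsec, hs']
  change g.app V (M2.tsec L' N (φ.app V s') (M2.res N hV t)) =
    h.app V (M2.tsec L' N (φ.app V s') (M2.res N hV t)) at e'
  rw [ht] at e'
  have hg := M1.map_app_eq g hV (M2.tsec L' N s t)
  have hh := M1.map_app_eq h hV (M2.tsec L' N s t)
  rw [← TopCat.Presheaf.germ_res_apply K.presheaf (homOfLE hV) x hxV (g.app U _),
    ← TopCat.Presheaf.germ_res_apply K.presheaf (homOfLE hV) x hxV (h.app U _)]
  refine congrArg _ ?_
  exact hg.symm.trans (e'.trans hh)

/-- Stalks commute with colimits. -/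
instance stalkAb_preservesColimitsOfShape (x : X) {K : Type u} [SmallCategory K] :
    PreservesColimitsOfShape K (M1.stalkAb x) :=
  have : PreservesColimitsOfShape K (TopCat.Sheaf.forget AddCommGrpCat.{u} X.toPresheafedSpace.carrier ⋙
      TopCat.Presheaf.stalkFunctor AddCommGrpCat.{u} x) :=
    (Adjunction.ofIsLeftAdjoint (TopCat.Sheaf.forget AddCommGrpCat.{u} X.toPresheafedSpace.carrier ⋙
      TopCat.Presheaf.stalkFunctor AddCommGrpCat.{u} x)).leftAdjoint_preservesColimits.preservesColimitsOfShape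
  have : PreservesColimitsOfShape K (M1.toShAb X ⋙ TopCat.Sheaf.forget AddCommGrpCat.{u} X.toPresheafedSpace.carrier ⋙
      TopCat.Presheaf.stalkFunctor AddCommGrpCat.{u} x) := comp_preservesColimitsOfShape _ _
  this

/-- A map out of a free module which is zero on every summand is zero at a stalk. -/
theorem stalk_fr_hom_ext {ι : Type u} (x : X) {Q : AddCommGrpCat.{u}}
    (π : (M1.stalkAb x).obj (M1.fr ι : X.Modules) ⟶ Q)
    (h : ∀ i : ι, (M1.stalkAb x).map (M1.ιF i) ≫ π = 0) : π = 0 := by
  refine (isColimitOfPreserves (M1.stalkAb x)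
    (coproductIsCoproduct (fun _ : ι => Coh.structureModule X))).hom_ext fun ⟨i⟩ => ?_
  exact (h i).trans comp_zero.symm

/-- The image of a stalk of a free module is generated by the images of the summands. -/
theorem stalk_map_mem {ι : Type u} {G : X.Modules} (p : M1.fr ι ⟶ G) (x : X)
    (H : AddSubgroup ((M1.stalkAb x).obj G))
    (h : ∀ (i : ι) (a), (M1.stalkAb x).map p ((M1.stalkAb x).map (M1.ιF i) a) ∈ H)
    (a : (M1.stalkAb x).obj (M1.fr ι : X.Modules)) : (M1.stalkAb x).map p a ∈ H := by
  let π := AddCommGrpCat.ofHom (QuotientAddGroup.mk' H)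
  have hzero : (M1.stalkAb x).map p ≫ π = 0 :=
    stalk_fr_hom_ext x _ fun i => AddCommGrpCat.ext fun a => (QuotientAddGroup.eq_zero_iff _).2 (h i a)
  exact (QuotientAddGroup.eq_zero_iff _).1 (ConcreteCategory.congr_hom hzero a)

/-- Outside the support of the cokernel a map is surjective on stalks. -/
theorem notMem_support_cokernel_iff {M N : X.Modules} (φ : M ⟶ N) (x : X) :
    x ∉ CohB1.support (cokernel φ) ↔ Function.Surjective ((M1.stalkAb x).map φ) := by
  rw [← AddCommGrpCat.epi_iff_surjective]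
  constructor
  · intro hx
    have : Subsingleton ((M1.stalkAb x).obj (cokernel φ)) :=
      ⟨fun a c => ((M1.notMem_support_iff _ x).1 hx a).trans ((M1.notMem_support_iff _ x).1 hx c).symm⟩
    have hz := AddCommGrpCat.isZero_of_subsingleton ((M1.stalkAb x).obj (cokernel φ))
    exact Preadditive.epi_of_isZero_cokernel' (CokernelCofork.ofπ (cokernel.π ((M1.stalkAb x).map φ))
        (cokernel.condition _)) (cokernelIsCokernel _)
        (hz.of_iso (PreservesCokernel.iso (M1.stalkAb x) φ).symm)
  · intro hepi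
    refine (M1.notMem_support_iff _ x).2 fun b => ?_
    have hz : IsZero ((M1.stalkAb x).obj (cokernel φ)) :=
      (isZero_cokernel_of_epi ((M1.stalkAb x).map φ)).of_iso
        (PreservesCokernel.iso (M1.stalkAb x) φ)
    exact @Subsingleton.elim _ (AddCommGrpCat.subsingleton_of_isZero hz) b 0

/-- If generators of a stalk are in the image, the stalk map is surjective. -/
theorem surjective_stalk_of_span {M N : X.Modules} (φ : M ⟶ N) (x : X)
    (T : Set (N.presheaf.stalk x)) (hT : Submodule.span (X.presheaf.stalk x) T = ⊤)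
    (h : ∀ t ∈ T, (t : (M1.stalkAb x).obj N) ∈ ((M1.stalkAb x).map φ).hom.range) :
    Function.Surjective ((M1.stalkAb x).map φ) := fun b => by
  have hb : (b : N.presheaf.stalk x) ∈ (Algz.stalkMapₗ φ x).range := by
    refine (show (⊤ : Submodule (X.presheaf.stalk x) (N.presheaf.stalk x)) ≤ _ from ?_) Submodule.mem_top
    rw [← hT, Submodule.span_le]
    intro t ht
    obtain ⟨a, ha⟩ := h t ht
    exact ⟨a, ha⟩
  obtain ⟨a, ha⟩ := hb
  exact ⟨a, ha⟩

/-- The finite part of a map out of a free module. -/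
noncomputable def finPart {G : X.Modules} {ι : Type u} (p : M1.fr ι ⟶ G) (S : Finset ι) :
    (M1.fr (ULift.{u} S) : X.Modules) ⟶ G :=
  M1.freeHom fun i => M1.freeSec p i.down.1

lemma frMap_finPart {G : X.Modules} {ι : Type u} (p : M1.fr ι ⟶ G) {S S' : Finset ι} (h : S ⊆ S') :
    M1.frMap (fun i : ULift.{u} S => (ULift.up ⟨i.down.1, h i.down.2⟩ : ULift.{u} S')) ≫ finPart p S' =
      finPart p S := by
  refine M1.free_hom_ext fun i => ?_
  rw [finPart, finPart, ← Category.assoc, M1.ιF_frMap, M1.ιF_freeHom, M1.ιF_freeHom]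

lemma range_stalk_comp_le {M N P : X.Modules} (φ : M ⟶ N) (ψ : N ⟶ P) (x : X) :
    ((M1.stalkAb x).map (φ ≫ ψ)).hom.range ≤ ((M1.stalkAb x).map ψ).hom.range := by
  rintro _ ⟨a, rfl⟩
  exact ⟨(M1.stalkAb x).map φ a, (M1.stalk_comp_apply φ ψ x a).symm⟩

lemma range_finPart_mono {G : X.Modules} {ι : Type u} (p : M1.fr ι ⟶ G) {S S' : Finset ι} (h : S ⊆ S')
    (x : X) : ((M1.stalkAb x).map (finPart p S)).hom.range ≤ ((M1.stalkAb x).map (finPart p S')).hom.range := by
  rw [← frMap_finPart p h]
  exact range_stalk_comp_le _ _ x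

lemma ιF_finPart {G : X.Modules} {ι : Type u} (p : M1.fr ι ⟶ G) (i : ι) :
    M1.ιF i ≫ p = M1.ιF (ULift.up ⟨i, Finset.mem_singleton_self i⟩) ≫ finPart p {i} := by
  conv_lhs => rw [← M1.freeHom_freeSec p]
  rw [finPart, M1.ιF_freeHom, M1.ιF_freeHom]

/-- At each point finitely many of the generating sections suffice. -/
theorem exists_finset_surjective_stalk {G : X.Modules} (hG : Coh.IsCoh G) {ι : Type u}
    (p : M1.fr ι ⟶ G) [Epi p] (x : X) :
    ∃ S : Finset ι, Function.Surjective ((M1.stalkAb x).map (finPart p S)) := by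
  classical
  let H : AddSubgroup ((M1.stalkAb x).obj G) :=
    ⨆ S : Finset ι, ((M1.stalkAb x).map (finPart p S)).hom.range
  have hone : ∀ (i : ι) a, (M1.stalkAb x).map p ((M1.stalkAb x).map (M1.ιF i) a) ∈ H := by
    intro i a
    have h1 := (M1.stalk_comp_apply (M1.ιF i) p x a).symm
    rw [h1, ιF_finPart p i]
    have h2 := range_stalk_comp_le (M1.ιF (ULift.up ⟨i, Finset.mem_singleton_self i⟩)) (finPart p {i}) x
      (AddMonoidHom.mem_range.2 ⟨a, rfl⟩)
    exact le_iSup (fun S : Finset ι => ((M1.stalkAb x).map (finPart p S)).hom.range) {i} h2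
  have htop : ∀ b, b ∈ H := fun b => by
    obtain ⟨a, rfl⟩ := (M1.epi_iff_stalk p).1 inferInstance x b
    exact stalk_map_mem p x H hone a
  obtain ⟨T, hT⟩ := (M1.finite_stalk hG.1 hG.2 x).fg_top
  have hdir : Directed (· ≤ ·) fun S : Finset ι => ((M1.stalkAb x).map (finPart p S)).hom.range :=
    fun S₁ S₂ => ⟨S₁ ∪ S₂, range_finPart_mono p Finset.subset_union_left x,
      range_finPart_mono p Finset.subset_union_right x⟩
  have hex : ∀ b : (M1.stalkAb x).obj G, ∃ S : Finset ι,
      b ∈ ((M1.stalkAb x).map (finPart p S)).hom.range :=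
    fun b => (AddSubgroup.mem_iSup_of_directed hdir).1 (htop b)
  choose g hg using hex
  let f : T → Finset ι := fun t => g t.1
  have hf : ∀ t : T, (t.1 : (M1.stalkAb x).obj G) ∈ ((M1.stalkAb x).map (finPart p (f t))).hom.range :=
    fun t => hg t.1
  let S₀ : Finset ι := Finset.univ.sup f
  have hall : ∀ t : T, (t.1 : (M1.stalkAb x).obj G) ∈ ((M1.stalkAb x).map (finPart p S₀)).hom.range := fun t => by
    have h1 : f t ⊆ S₀ := Finset.le_sup (f := f) (Finset.mem_univ t)
    exact range_finPart_mono p h1 x (hf t)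
  refine ⟨S₀, surjective_stalk_of_span (finPart p S₀) x T hT fun t ht => ?_⟩
  exact hall ⟨t, ht⟩

/-- A globally generated module of finite type on a compact space is a quotient of a finite free
module. -/
theorem exists_epi_freeMod [CompactSpace X] [IsLocallyNoetherian X] {G : X.Modules} (hG : Coh.IsCoh G)
    (hgg : Curv2.IsGloballyGenerated G) : ∃ (k : ℕ) (p : FlatMod.freeMod X k ⟶ G), Epi p := by
  classical
  obtain ⟨ι, p', hp⟩ := hgg
  let p : M1.fr ι ⟶ G := p'
  have : Epi p := hp
  choose S hS using fun x : X => exists_finset_surjective_stalk hG p x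
  obtain ⟨P, hP⟩ := isCompact_univ.elim_finite_subcover
    (fun x => (CohB1.support (cokernel (finPart p (S x))))ᶜ)
    (fun x => (M1.isClosed_support (M1.isCoh_cokernel (M1.isQCoh_fr X _) hG _).2).isOpen_compl)
    fun x _ => Set.mem_iUnion.2 ⟨x, (notMem_support_cokernel_iff _ x).2 (hS x)⟩
  let q := finPart p (P.sup S)
  have hsurj : ∀ x : X, Function.Surjective ((M1.stalkAb x).map q) := fun x b => by
    obtain ⟨j, hj, hx⟩ := Set.mem_iUnion₂.1 (hP (Set.mem_univ x))
    exact range_finPart_mono p (Finset.le_sup (f := S) hj) x ((notMem_support_cokernel_iff _ x).1 hx b)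
  have hq : Epi q := (M1.epi_iff_stalk _).2 hsurj
  let ε : Fin (Fintype.card (ULift.{u} (P.sup S : Finset ι))) ≃ ULift.{u} (P.sup S : Finset ι) :=
    (Fintype.equivFin _).symm
  exact ⟨_, (Sigma.whiskerEquiv (f := fun _ => Coh.structureModule X) (g := fun _ => Coh.structureModule X)
    ε fun _ => Iso.refl _).hom ≫ q, @epi_comp _ _ _ _ _ _ inferInstance _ hq⟩

end Groth.Agent.CohFound
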