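import Groth.Agent.Lib.CohFound.MV

/-!
# Localisation properties of cohomology propagate along Mayer–Vietoris
-/

set_option maxHeartbeats 400000

universe u

open CategoryTheory TopologicalSpace Opposite CategoryTheory.Limits Abelian

namespace Groth.Agent.CohFound

variable {T : TopCat.{u}}

lemma eq_zero_of_rs_sup {F : CohTop.Ab T} {U V : Opens T} (x : Hc F 0 (U ⊔ V))
    (hU : rs F 0 (le_sup_left : U ≤ U ⊔ V) x = 0) (hV : rs F 0 (le_sup_right : V ≤ U ⊔ V) x = 0) :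
    x = 0 := by
  apply (hc0 F (U ⊔ V)).injective
  rw [map_zero]
  refine TopCat.Sheaf.eq_of_locally_eq₂ (F := F) (homOfLE (le_sup_left : U ≤ U ⊔ V))
    (homOfLE (le_sup_right : V ≤ U ⊔ V)) le_rfl _ _ ?_ ?_
  · rw [← hc0_rs, hU, map_zero, map_zero]
  · rw [← hc0_rs, hV, map_zero, map_zero]

/-- Classes on `U` dying on `U ⊓ D` are killed by some `e k`. -/
def InjLoc (F : CohTop.Ab T) (e : ℕ → (F ⟶ F)) (D : Opens T) (n : ℕ) (U : Opens T) : Prop :=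
  ∀ η : Hc F n U, rs F n (inf_le_left : U ⊓ D ≤ U) η = 0 → ∃ k, mp (e k) n U η = 0

/-- Classes on `U ⊓ D` extend to `U` after applying some `e k`. -/
def SurjLoc (F : CohTop.Ab T) (e : ℕ → (F ⟶ F)) (D : Opens T) (n : ℕ) (U : Opens T) : Prop :=
  ∀ ξ : Hc F n (U ⊓ D), ∃ (k : ℕ) (η : Hc F n U),
    rs F n (inf_le_left : U ⊓ D ≤ U) η = mp (e k) n _ ξ

/-- Both properties in all degrees. -/
def AllLoc (F : CohTop.Ab T) (e : ℕ → (F ⟶ F)) (D U : Opens T) : Prop :=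
  ∀ n, InjLoc F e D n U ∧ SurjLoc F e D n U

variable {F : CohTop.Ab T} {e : ℕ → (F ⟶ F)} {D U V : Opens T}

lemma mp_add' (he : ∀ a b, e (a + b) = e b ≫ e a) (a b : ℕ) {n : ℕ} {W : Opens T} (x : Hc F n W) :
    mp (e (a + b)) n W x = mp (e a) n W (mp (e b) n W x) := by
  rw [he, mp_comp]

/-- Degree zero, in terms of sections. -/
lemma injLoc_zero_of_sections
    (h : ∀ t : F.obj.obj (op U), F.obj.map (homOfLE (inf_le_left : U ⊓ D ≤ U)).op t = 0 →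
      ∃ k, (e k).hom.app (op U) t = 0) : InjLoc F e D 0 U := by
  intro η hη
  obtain ⟨k, hk⟩ := h (hc0 F U η) (by rw [← hc0_rs, hη, map_zero])
  exact ⟨k, (hc0 F U).injective (by rw [hc0_mp, map_zero, hk])⟩

/-- Degree zero, in terms of sections. -/
lemma surjLoc_zero_of_sections
    (h : ∀ s : F.obj.obj (op (U ⊓ D)), ∃ (k : ℕ) (t : F.obj.obj (op U)),
      F.obj.map (homOfLE (inf_le_left : U ⊓ D ≤ U)).op t = (e k).hom.app (op (U ⊓ D)) s) :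
    SurjLoc F e D 0 U := by
  intro ξ
  obtain ⟨k, t, ht⟩ := h (hc0 F (U ⊓ D) ξ)
  exact ⟨k, (hc0 F U).symm t, (hc0 F (U ⊓ D)).injective
    (by rw [hc0_rs, hc0_mp, AddEquiv.apply_symm_apply, ht])⟩

/-- The acyclic case. -/
lemma allLoc_of_subsingleton (h0 : InjLoc F e D 0 U ∧ SurjLoc F e D 0 U)
    (hU : ∀ q, Subsingleton (Hc F (q + 1) U)) (hD : ∀ q, Subsingleton (Hc F (q + 1) (U ⊓ D))) :
    AllLoc F e D U
  | 0 => h0
  | q + 1 => ⟨fun _ _ => ⟨0, (hU q).elim _ _⟩, fun _ => ⟨0, 0, (hD q).elim _ _⟩⟩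

variable (he : ∀ a b, e (a + b) = e b ≫ e a)
include he

theorem injLoc_sup (hU : AllLoc F e D U) (hV : AllLoc F e D V) (hI : AllLoc F e D (U ⊓ V)) (n : ℕ) :
    InjLoc F e D n (U ⊔ V) := by
  intro η hη
  have hηU : rs _ n (inf_le_left : U ⊓ D ≤ U) (rs _ n (le_sup_left : U ≤ U ⊔ V) η) = 0 := by
    rw [rs_rs, ← rs_rs _ n (inf_le_left : (U ⊔ V) ⊓ D ≤ U ⊔ V) (inf_le_inf_right D le_sup_left),
      hη, map_zero]
  have hηV : rs _ n (inf_le_left : V ⊓ D ≤ V) (rs _ n (le_sup_right : V ≤ U ⊔ V) η) = 0 := by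
    rw [rs_rs, ← rs_rs _ n (inf_le_left : (U ⊔ V) ⊓ D ≤ U ⊔ V) (inf_le_inf_right D le_sup_right),
      hη, map_zero]
  obtain ⟨a, ha⟩ := (hU n).1 _ hηU
  obtain ⟨b, hb⟩ := (hV n).1 _ hηV
  let η₁ := mp (e (a + b)) n (U ⊔ V) η
  have h₁ : rs _ n (le_sup_left : U ≤ U ⊔ V) η₁ = 0 := by
    rw [← mp_rs, add_comm, mp_add' he, ha, map_zero]
  have h₂ : rs _ n (le_sup_right : V ≤ U ⊔ V) η₁ = 0 := by
    rw [← mp_rs, mp_add' he, hb, map_zero]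
  rcases n with _ | m
  · exact ⟨a + b, eq_zero_of_rs_sup η₁ h₁ h₂⟩
  obtain ⟨v, hv⟩ := mv_exact η₁ h₁ h₂
  have hD : (U ⊔ V) ⊓ D = U ⊓ D ⊔ V ⊓ D := inf_sup_right U V D
  have hzero : mvδ (U ⊓ D) (V ⊓ D) _ m (rs _ m (inf_le_inf inf_le_left inf_le_left) v) = 0 := by
    refine (rs_mvδ (inf_le_left : U ⊓ D ≤ U) (inf_le_left : V ⊓ D ≤ V) v).symm.trans ?_
    rw [hv, ← mp_rs, ← rs_rs _ (m + 1) (inf_le_left : (U ⊔ V) ⊓ D ≤ U ⊔ V) hD.ge, hη, map_zero,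
      map_zero]
  obtain ⟨y, z, hyz⟩ := mv_diff _ hzero
  obtain ⟨c, Y, hY⟩ := (hU m).2 y
  obtain ⟨d, Z, hZ⟩ := (hV m).2 z
  let w := mp (e (c + d)) m (U ⊓ V) v -
    (rs _ m (inf_le_left : U ⊓ V ≤ U) (mp (e d) m U Y) -
      rs _ m (inf_le_right : U ⊓ V ≤ V) (mp (e c) m V Z))
  have hw : rs _ m (inf_le_left : U ⊓ V ⊓ D ≤ U ⊓ V) w = 0 := by
    have hle : U ⊓ V ⊓ D ≤ U ⊓ D ⊓ (V ⊓ D) := (inf_inf_distrib_right U V D).le
    have e1 : rs _ m (inf_le_left : U ⊓ V ⊓ D ≤ U ⊓ V)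
        (rs _ m (inf_le_left : U ⊓ V ≤ U) (mp (e d) m U Y)) =
        rs _ m (hle.trans inf_le_left) (mp (e (c + d)) m _ y) := by
      rw [rs_rs, add_comm c d, mp_add' he, ← hY, mp_rs _ _ inf_le_left, rs_rs]
    have e2 : rs _ m (inf_le_left : U ⊓ V ⊓ D ≤ U ⊓ V)
        (rs _ m (inf_le_right : U ⊓ V ≤ V) (mp (e c) m V Z)) =
        rs _ m (hle.trans inf_le_right) (mp (e (c + d)) m _ z) := by
      rw [rs_rs, mp_add' he, ← hZ, mp_rs _ _ inf_le_left, rs_rs]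
    have e3 : rs _ m (inf_le_left : U ⊓ V ⊓ D ≤ U ⊓ V) (mp (e (c + d)) m (U ⊓ V) v) =
        rs _ m hle (mp (e (c + d)) m _
          (rs _ m (inf_le_inf inf_le_left inf_le_left : U ⊓ D ⊓ (V ⊓ D) ≤ U ⊓ V) v)) := by
      rw [mp_rs, rs_rs]
    rw [map_sub, map_sub, e1, e2, e3, ← hyz, map_sub, map_sub, mp_rs _ _ inf_le_left,
      mp_rs _ _ inf_le_right, rs_rs, rs_rs, sub_self]
  obtain ⟨r, hr⟩ := (hI m).1 w hw
  refine ⟨r + (c + d) + (a + b), ?_⟩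
  rw [mp_add' he, mp_add' he r]
  change mp (e r) (m + 1) _ (mp (e (c + d)) (m + 1) _ η₁) = 0
  rw [← hv, mp_mvδ, mp_mvδ]
  have h := congrArg (mvδ U V F m) hr
  rw [map_sub, map_sub, map_zero, sub_eq_zero, map_sub, mp_rs, mp_rs, mvδ_sub] at h
  exact h

theorem surjLoc_sup (hU : AllLoc F e D U) (hV : AllLoc F e D V) (hI : AllLoc F e D (U ⊓ V)) (n : ℕ) :
    SurjLoc F e D n (U ⊔ V) := by
  intro ξ
  have hle : U ⊓ V ⊓ D ≤ U ⊓ D ⊓ (V ⊓ D) := (inf_inf_distrib_right U V D).le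
  obtain ⟨a, Y, hY⟩ := (hU n).2 (rs _ n (inf_le_inf_right D le_sup_left) ξ)
  obtain ⟨b, Z, hZ⟩ := (hV n).2 (rs _ n (inf_le_inf_right D le_sup_right) ξ)
  let w := rs _ n (inf_le_left : U ⊓ V ≤ U) (mp (e b) n U Y) -
      rs _ n (inf_le_right : U ⊓ V ≤ V) (mp (e a) n V Z)
  have hw : rs _ n (inf_le_left : U ⊓ V ⊓ D ≤ U ⊓ V) w = 0 := by
    have e1 : rs _ n (inf_le_left : U ⊓ V ⊓ D ≤ U ⊓ V)
        (rs _ n (inf_le_left : U ⊓ V ≤ U) (mp (e b) n U Y)) =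
        rs _ n (inf_le_inf_right D (inf_le_left.trans le_sup_left)) (mp (e (a + b)) n _ ξ) := by
      rw [rs_rs, ← rs_rs _ n (inf_le_left : U ⊓ D ≤ U) (inf_le_inf_right D inf_le_left),
        ← mp_rs _ _ inf_le_left, hY, ← mp_add' he, add_comm b a, mp_rs, rs_rs]
    have e2 : rs _ n (inf_le_left : U ⊓ V ⊓ D ≤ U ⊓ V)
        (rs _ n (inf_le_right : U ⊓ V ≤ V) (mp (e a) n V Z)) =
        rs _ n (inf_le_inf_right D (inf_le_left.trans le_sup_left)) (mp (e (a + b)) n _ ξ) := by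
      rw [rs_rs, ← rs_rs _ n (inf_le_left : V ⊓ D ≤ V) (inf_le_inf_right D inf_le_right),
        ← mp_rs _ _ inf_le_left, hZ, ← mp_add' he, mp_rs, rs_rs]
    rw [map_sub, e1, e2, sub_self]
  obtain ⟨c, hc⟩ := (hI n).1 w hw
  rw [map_sub, sub_eq_zero, mp_rs, mp_rs] at hc
  obtain ⟨x, hxU, hxV⟩ := mv_glue _ _ hc
  let r := rs _ n (inf_le_left : (U ⊔ V) ⊓ D ≤ U ⊔ V) x - mp (e (c + (a + b))) n _ ξ
  have hr₁ : rs _ n (inf_le_inf_right D le_sup_left : U ⊓ D ≤ (U ⊔ V) ⊓ D) r = 0 := by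
    rw [map_sub, rs_rs, ← rs_rs _ n (le_sup_left : U ≤ U ⊔ V) (inf_le_left : U ⊓ D ≤ U), hxU,
      ← mp_rs, ← mp_rs _ _ inf_le_left, ← mp_rs, hY, ← mp_add' he, ← mp_add' he,
      show c + b + a = c + (a + b) by omega, sub_self]
  have hr₂ : rs _ n (inf_le_inf_right D le_sup_right : V ⊓ D ≤ (U ⊔ V) ⊓ D) r = 0 := by
    rw [map_sub, rs_rs, ← rs_rs _ n (le_sup_right : V ≤ U ⊔ V) (inf_le_left : V ⊓ D ≤ V), hxV,
      ← mp_rs, ← mp_rs _ _ inf_le_left, ← mp_rs, hZ, ← mp_add' he, ← mp_add' he,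
      show c + a + b = c + (a + b) by omega, sub_self]
  have hD : (U ⊔ V) ⊓ D = U ⊓ D ⊔ V ⊓ D := inf_sup_right U V D
  rcases n with _ | m
  · refine ⟨c + (a + b), x, ?_⟩
    have h0 : rs _ 0 hD.ge r = 0 := eq_zero_of_rs_sup _ (by rw [rs_rs]; exact hr₁)
      (by rw [rs_rs]; exact hr₂)
    have h1 := congrArg (rs _ 0 hD.le) h0
    rw [rs_rs, rs_refl, map_zero] at h1
    exact sub_eq_zero.1 h1
  obtain ⟨v, hv⟩ := mv_exact (rs _ (m + 1) hD.ge r) (by rw [rs_rs]; exact hr₁)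
    (by rw [rs_rs]; exact hr₂)
  obtain ⟨d, W, hW⟩ := (hI m).2 (rs _ m hle v)
  refine ⟨d + (c + (a + b)), mp (e d) (m + 1) _ x - mvδ U V _ m W, ?_⟩
  have hle' : U ⊓ D ⊓ (V ⊓ D) ≤ U ⊓ V ⊓ D := (inf_inf_distrib_right U V D).ge
  have hW' : rs _ m (inf_le_inf inf_le_left inf_le_left : U ⊓ D ⊓ (V ⊓ D) ≤ U ⊓ V) W =
      mp (e d) m _ v := by
    rw [← rs_rs _ m (inf_le_left : U ⊓ V ⊓ D ≤ U ⊓ V) hle', hW, ← mp_rs, rs_rs, rs_refl]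
  have hδ : rs _ (m + 1) (inf_le_left : (U ⊔ V) ⊓ D ≤ U ⊔ V) (mvδ U V _ m W) =
      rs _ (m + 1) hD.le (mvδ (U ⊓ D) (V ⊓ D) _ m
        (rs _ m (inf_le_inf inf_le_left inf_le_left) W)) := by
    rw [← rs_mvδ (inf_le_left : U ⊓ D ≤ U) (inf_le_left : V ⊓ D ≤ V), rs_rs]
  rw [map_sub, hδ, hW', ← mp_mvδ, hv, ← mp_rs, ← mp_rs, rs_rs, rs_refl, mp_add' he d,
    sub_eq_iff_eq_add, ← map_add]
  exact congrArg _ (by simp only [r]; abel)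

end Groth.Agent.CohFound
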