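import Groth.Agent.Lib.CohFound.Qcqs
import Groth.Agent.Lib.CohFound.LocMV
import Groth.Agent.Lib.CohFound.HHBridge
import Groth.Agent.Lib.ModM1.Stalk

/-!
# Cohomology over `X_g` is the localisation of the cohomology
-/

set_option maxHeartbeats 400000

universe u

open CategoryTheory TopologicalSpace Opposite CategoryTheory.Limits Abelian AlgebraicGeometry

namespace Groth.Agent.CohFound

variable {X : Scheme.{u}}

/-- Multiplication by a global function. -/
noncomputable def gEnd (M : X.Modules) (r : Γ(X, ⊤)) : (abF X).obj M ⟶ (abF X).obj M :=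
  Coh.smulAb M r

lemma gEnd_app (M : X.Modules) (r : Γ(X, ⊤)) (U : X.Opens) (m : Γ(M, U)) :
    (gEnd M r).hom.app (op U) m = M1.ores (le_top : U ≤ ⊤) r • m := rfl

variable {M : X.Modules} {n : ℕ}

/-- The locus where `g` is invertible, as an open of the underlying space. -/
noncomputable abbrev gOpen (g : Γ(X, ⊤)) : Opens (sp X) := X.basicOpen g

/-- Multiplication on cohomology. -/
noncomputable abbrev gMul (M : X.Modules) (r : Γ(X, ⊤)) (n : ℕ) (U : Opens (sp X)) :
    Hc ((abF X).obj M) n U →+ Hc ((abF X).obj M) n U :=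
  mp (gEnd M r) n U

lemma gMul_one (U : Opens (sp X)) (x : Hc ((abF X).obj M) n U) : gMul M 1 n U x = x :=
  (congrArg (fun φ => mp φ n U x) (Coh.smulAb_one M)).trans (mp_id _ n U x)

lemma gMul_mul (r s : Γ(X, ⊤)) (U : Opens (sp X)) (x : Hc ((abF X).obj M) n U) :
    gMul M (r * s) n U x = gMul M r n U (gMul M s n U x) :=
  (congrArg (fun φ => mp φ n U x) (Coh.smulAb_mul M r s)).trans (mp_comp _ _ n U x)

lemma gMul_pow_add (g : Γ(X, ⊤)) (a b : ℕ) (U : Opens (sp X)) (x : Hc ((abF X).obj M) n U) :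
    gMul M (g ^ (a + b)) n U x = gMul M (g ^ a) n U (gMul M (g ^ b) n U x) := by
  rw [pow_add, gMul_mul]

lemma gMul_comm (r s : Γ(X, ⊤)) (U : Opens (sp X)) (x : Hc ((abF X).obj M) n U) :
    gMul M r n U (gMul M s n U x) = gMul M s n U (gMul M r n U x) := by
  rw [← gMul_mul, mul_comm, gMul_mul]

lemma rs_gMul (r : Γ(X, ⊤)) {U V : Opens (sp X)} (h : V ≤ U) (x : Hc ((abF X).obj M) n U) :
    gMul M r n V (rs _ n h x) = rs _ n h (gMul M r n U x) :=
  mp_rs (gEnd M r) n h x

/-- Classes on `U` dying on `U_g` are killed by a power of `g`. -/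
abbrev LocInj (M : X.Modules) (g : Γ(X, ⊤)) (n : ℕ) (U : Opens (sp X)) : Prop :=
  InjLoc ((abF X).obj M) (fun k => gEnd M (g ^ k)) (gOpen g) n U

/-- Classes on `U_g` extend to `U` after multiplication by a power of `g`. -/
abbrev LocSurj (M : X.Modules) (g : Γ(X, ⊤)) (n : ℕ) (U : Opens (sp X)) : Prop :=
  SurjLoc ((abF X).obj M) (fun k => gEnd M (g ^ k)) (gOpen g) n U

/-- `H^n` commutes with localisation at `g` over `U`, in all degrees. -/
abbrev LocAll (M : X.Modules) (g : Γ(X, ⊤)) (U : Opens (sp X)) : Prop :=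
  AllLoc ((abF X).obj M) (fun k => gEnd M (g ^ k)) (gOpen g) U

lemma locAll_isAffineOpen (M : X.Modules) [M.IsQuasicoherent] (g : Γ(X, ⊤)) {U : X.Opens}
    (hU : IsAffineOpen U) : LocAll M g U := by
  have hbo : X.basicOpen (M1.ores (le_top : U ≤ ⊤) g) = U ⊓ gOpen g := X.basicOpen_res g _
  refine allLoc_of_subsingleton
    ⟨injLoc_zero_of_sections fun t ht => ?_, surjLoc_zero_of_sections fun ξ => ?_⟩
    (subsingleton_hc_isAffineOpen M hU) fun q => ?_
  · have h' : ((abF X).obj M).obj.map (homOfLE hbo.le).op (((abF X).obj M).obj.map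
        (homOfLE (inf_le_left : U ⊓ gOpen g ≤ U)).op t) = 0 := by
      rw [ht, map_zero]
    rw [map_map_apply] at h'
    obtain ⟨k, hk⟩ := M1.exists_pow_smul_eq_zero_affine M hU _ _ h'
    refine ⟨k, ?_⟩
    refine (gEnd_app M (g ^ k) U _).trans ?_
    rw [map_pow]
    exact hk
  · obtain ⟨k, t, ht⟩ := M1.exists_pow_smul_eq_res_affine M hU (M1.ores (le_top : U ≤ ⊤) g)
      (((abF X).obj M).obj.map (homOfLE hbo.le).op ξ)
    refine ⟨k, t, ?_⟩
    have h := congrArg (fun z => ((abF X).obj M).obj.map (homOfLE hbo.ge).op z) ht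
    refine Eq.trans (map_map_apply ((abF X).obj M) _ _ _).symm (h.trans ?_)
    rw [M1.ores_ores, ← map_pow]
    refine (NatTrans.naturality_apply (gEnd M (g ^ k)).hom (homOfLE hbo.ge).op _).symm.trans ?_
    refine congrArg ((gEnd M (g ^ k)).hom.app (op (U ⊓ gOpen g))) ?_
    rw [map_map_apply]
    simp
  · rw [← hbo]
    exact subsingleton_hc_isAffineOpen M (hU.basicOpen _) q

lemma gEnd_pow_add (M : X.Modules) (g : Γ(X, ⊤)) (a b : ℕ) :
    gEnd M (g ^ (a + b)) = gEnd M (g ^ b) ≫ gEnd M (g ^ a) := by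
  rw [pow_add]; exact Coh.smulAb_mul M _ _

/-- Cohomology commutes with localisation at a global function, on quasi-compact opens. -/
theorem locAll_of_isCompact [QuasiSeparatedSpace X] (M : X.Modules) [M.IsQuasicoherent]
    (g : Γ(X, ⊤)) {U : X.Opens} (hU : IsCompact (U : Set X)) : LocAll M g U :=
  qcqs_induction (P := LocAll M g) (fun _ h => locAll_isAffineOpen M g h)
    (fun _ _ _ _ h₁ h₂ h₃ n => ⟨injLoc_sup (gEnd_pow_add M g) h₁ h₂ h₃ n,
      surjLoc_sup (gEnd_pow_add M g) h₁ h₂ h₃ n⟩) hU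

end Groth.Agent.CohFound
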