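import Groth.Prelude.Def_CohTop
import Mathlib.Topology.Sheaves.Abelian

/-!
# Named instances for abelian sheaves on a space

Naming these instances once avoids re-checking large anonymous proof terms in every declaration.
-/

universe u

open CategoryTheory TopologicalSpace CategoryTheory.Limits

namespace Groth.Agent.CohFound

instance (priority := high) hasSheafifyAb (X : TopCat.{u}) :
    HasSheafify (Opens.grothendieckTopology X) AddCommGrpCat.{u} := inferInstance

instance (priority := high) hasWeakSheafifyAb (X : TopCat.{u}) :
    HasWeakSheafify (Opens.grothendieckTopology X) AddCommGrpCat.{u} := inferInstance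

/-- Naming the abelian structure keeps proof terms out of the types of the `HasExt` proofs; without
it the kernel unfolds `HasExt` whenever two such proofs differ. -/
noncomputable instance (priority := high) abelianAb (X : TopCat.{u}) : Abelian (CohTop.Ab X) :=
  sheafIsAbelian

instance (priority := high) isGrothendieckAbelianAb (X : TopCat.{u}) :
    IsGrothendieckAbelian.{u} (CohTop.Ab X) := inferInstance

instance (priority := high) hasExtAb (X : TopCat.{u}) : HasExt.{u} (CohTop.Ab X) := inferInstance

instance (priority := high) enoughInjectivesAb (X : TopCat.{u}) :
    EnoughInjectives (CohTop.Ab X) := inferInstance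

instance (priority := high) hasInjectiveResolutionsAb (X : TopCat.{u}) :
    HasInjectiveResolutions (CohTop.Ab X) := inferInstance

end Groth.Agent.CohFound
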