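import Groth.Agent.Lib.CohFound.ModQuot
import Groth.Agent.Lib.Twist.Ample
import Groth.Agent.Lib.RelAmple18.Generation
import Groth.Agent.Lib.TensorMod.QCohTensor
import Groth.Agent.Lib.ModM1.LocFree

/-!
# Coherent modules on `Proj` are quotients of sums of negative twists
-/

universe u

open CategoryTheory Limits AlgebraicGeometry TopologicalSpace Opposite

namespace Groth.Agent.CohFound

/-- A finite locally free module is coherent. -/
theorem isCoh_of_isFinLocFree {X : Scheme.{u}} {M : X.Modules} (h : FlatMod.IsFinLocFree M) : Coh.IsCoh M :=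
  ⟨M1.isFP_isQCoh (M1.isFP_of_isFinLocFree h), M1.isFP_isFT (M1.isFP_of_isFinLocFree h)⟩

theorem isCoh_tensor {X : Scheme.{u}} {F G : X.Modules} (hF : Coh.IsCoh F) (hG : Coh.IsCoh G) :
    Coh.IsCoh (CohB1.tensorMod F G) :=
  ⟨M2.isQCoh_tensor hF.1 hG.1, M2.isFT_tensor hF.1 hG.1 hF.2 hG.2⟩

theorem isCoh_of_iso {X : Scheme.{u}} {M N : X.Modules} (e : M ≅ N) (h : Coh.IsCoh M) : Coh.IsCoh N :=
  ⟨M1.isQCoh_of_isIso e h.1, M1.isFT_of_isIso e h.2⟩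

variable {R A : Type u} [CommRing R] [CommRing A] [Algebra R A] (𝒜 : ℕ → Submodule R A) [GradedAlgebra 𝒜]

/-- Every coherent module is a quotient of finitely many copies of a sufficiently negative twist. -/
theorem exists_epi_twist {ι : Type*} [Finite ι] (g : ι → A) (hg : ∀ i, g i ∈ 𝒜 1)
    (hgen : (HomogeneousIdeal.irrelevant 𝒜).toIdeal ≤ Ideal.span (Set.range g))
    [IsLocallyNoetherian (Proj 𝒜)] (F : (Proj 𝒜).Modules) (hF : Coh.IsCoh F) :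
    ∃ n₀ : ℕ, ∀ m : ℕ, n₀ ≤ m → ∃ (k : ℕ) (π : (∐ fun _ : Fin k => _root_.Twist.twist 𝒜 (-(m : ℤ))) ⟶ F),
      Epi π ∧ Coh.IsCoh (∐ fun _ : Fin k => _root_.Twist.twist 𝒜 (-(m : ℤ))) := by
  have hcov : (⨆ f : 𝒜 1, Proj.basicOpen 𝒜 (f : A)) = ⊤ := top_le_iff.1 fun x _ => by
    have hx : x ∈ (⨆ i, Proj.basicOpen 𝒜 (g i)) := by
      rw [Proj.iSup_basicOpen_eq_top 𝒜 g hgen]; trivial
    obtain ⟨i, hi⟩ := Opens.mem_iSup.1 hx
    exact Opens.mem_iSup.2 ⟨⟨g i, hg i⟩, hi⟩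
  have hamp : CohB1.IsAmple (_root_.Twist.twist 𝒜 1) := Twist.isAmple_twist 𝒜 g hg hgen (d := 1) one_pos
  have : CompactSpace (Proj 𝒜) := hamp.2.1
  obtain ⟨n₀, hn₀⟩ := RA.exists_globallyGenerated hamp F hF.1 hF.2
  refine ⟨n₀, fun m hm => ?_⟩
  have hL : ∀ d : ℤ, Coh.IsCoh (_root_.Twist.twist 𝒜 d) := fun d =>
    isCoh_of_isFinLocFree (M2.isFinLocFree_of_isInvertible (Twist.isInvertible_twist 𝒜 hcov d))
  obtain ⟨ep⟩ := Twist.nonempty_iso_tensorPow 𝒜 hcov m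
  let P := CohB1.tensorPow (_root_.Twist.twist 𝒜 1) m
  let E := _root_.Twist.twist 𝒜 (-(m : ℤ))
  obtain ⟨t⟩ := Twist.nonempty_tensor_iso 𝒜 (m : ℤ) (-(m : ℤ)) hcov
  obtain ⟨z⟩ := Twist.nonempty_twist_zero_iso 𝒜
  let u : CohB1.tensorMod P E ≅ Coh.structureModule (Proj 𝒜) :=
    M2.tensorIso ep.symm (Iso.refl E) ≪≫ t ≪≫
      eqToIso (congrArg (_root_.Twist.twist 𝒜) (add_neg_cancel (m : ℤ))) ≪≫ z
  let back : CohB1.tensorMod (CohB1.tensorMod F P) E ≅ F :=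
    M2.tensorAssoc F P E ≪≫ M2.tensorIso (Iso.refl F) u ≪≫ M2.tensorRUnit F
  have hFP : Coh.IsCoh (CohB1.tensorMod F P) := isCoh_tensor hF (isCoh_of_iso ep (hL m))
  obtain ⟨k, p, hp⟩ := exists_epi_freeMod hFP (hn₀ m hm)
  have : Epi p := hp
  have := epi_tensorMap p E
  refine ⟨k, (M2.freeModTensorIso _ k E).inv ≫ M2.tensorMap p (𝟙 E) ≫ back.hom, inferInstance, ?_⟩
  exact isCoh_of_iso (M2.freeModTensorIso _ k E)
    (isCoh_tensor (isCoh_of_isFinLocFree (M2.isFinLocFree_of_ofRank (M2.isFinLocFreeOfRank_freeMod _ k)))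
      (hL _))

end Groth.Agent.CohFound
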