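import Groth.Agent.Lib.CohFound.Devissage
import Groth.Agent.Lib.CohFound.ClosedImmPush
import Groth.Agent.Lib.ModM1.ClosedImm
import Groth.Agent.Lib.RedSep.Basic
import Groth.Prelude.Def_ClSub2
import Mathlib.AlgebraicGeometry.FunctionField

/-!
# Models for dévissage
-/

set_option autoImplicit false

universe u

open CategoryTheory Limits AlgebraicGeometry TopologicalSpace Opposite

namespace Groth.Agent.CohFound

variable {X : Scheme.{u}}

/-- The reduced subscheme with generic point `η`. -/
theorem exists_integral_point (η : X) : ∃ (Z : Scheme.{u}) (i : Z ⟶ X) (_ : IsClosedImmersion i)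
    (_ : IsIntegral Z), Set.range i = closure {η} ∧ i (genericPoint Z) = η ∧
      i.ker = Scheme.IdealSheafData.vanishingIdeal ⟨closure {η}, isClosed_closure⟩ := by
  let I := Scheme.IdealSheafData.vanishingIdeal ⟨closure ({η} : Set X), isClosed_closure⟩
  let i := I.subschemeι
  have hr : Set.range i = closure {η} := by
    rw [Scheme.IdealSheafData.range_subschemeι, Scheme.IdealSheafData.coe_support_vanishingIdeal]
    rfl
  have : IsReduced I.subscheme := RedSepLib.isReduced_vanishingIdeal_subscheme _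
  obtain ⟨z, hz⟩ : η ∈ Set.range i := hr ▸ subset_closure rfl
  have hgen : IsGenericPoint z (Set.univ : Set I.subscheme) := by
    refine Set.eq_univ_of_forall fun y => ?_
    rw [i.isClosedEmbedding.isInducing.closure_eq_preimage_closure_image, Set.image_singleton, hz, ← hr]
    exact Set.mem_range_self y
  have : IrreducibleSpace I.subscheme :=
    { toPreirreducibleSpace := ⟨hgen.isIrreducible.2⟩, toNonempty := ⟨z⟩ }
  have : IsIntegral I.subscheme := isIntegral_of_irreducibleSpace_of_isReduced _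
  exact ⟨I.subscheme, i, inferInstance, inferInstance, hr,
    ((genericPoint_spec I.subscheme).eq hgen).symm ▸ hz, I.ker_subschemeι⟩

/-- The maximal ideal at the generic point of an integral closed subscheme maps to zero. -/
theorem stalkMap_eq_zero {Z : Scheme.{u}} (i : Z ⟶ X) [IsIntegral Z]
    {c : X.presheaf.stalk (i (genericPoint Z))} (hc : c ∈ IsLocalRing.maximalIdeal _) :
    i.stalkMap (genericPoint Z) c = 0 := by
  by_contra h
  have hu : IsUnit (i.stalkMap (genericPoint Z) c : Z.functionField) := isUnit_iff_ne_zero.2 h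
  exact hc (isUnit_of_map_unit (i.stalkMap (genericPoint Z)).hom c hu)

/-- The maximal ideal kills the stalk at `η` of a module killed by the ideal of the closure of `η`. -/
theorem kills_of_killedByIdeal (G : X.Modules) (hG : Coh.IsQCoh G) (η : X) (Z₁ : Closeds X)
    (hZ₁ : (Z₁ : Set X) = closure {η})
    (h : ClSub.KilledByIdeal (Scheme.IdealSheafData.vanishingIdeal Z₁) G) :
    ∀ c ∈ IsLocalRing.maximalIdeal (X.presheaf.stalk η), ∀ a : G.presheaf.stalk η, c • a = 0 := by
  obtain ⟨Z, i, _, _, hr, hη, hker⟩ := exists_integral_point η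
  obtain rfl : Z₁ = ⟨closure {η}, isClosed_closure⟩ := SetLike.coe_injective hZ₁
  subst hη
  exact fun c hc a => M1.smul_stalk_eq_zero i G hG
    (fun U r hr s => h U r (by rw [← hker]; exact hr) s) (genericPoint Z) c (stalkMap_eq_zero i hc) a

/-- Isomorphism invariance from the coproduct of one copy. -/
theorem of_sigma_one {P : X.Modules → Prop} (hP : ∀ M N : X.Modules, Nonempty (M ≅ N) → P M → P N)
    (Q : X.Modules) (h : P (∐ fun _ : Fin 1 => Q)) : P Q :=
  hP _ _ ⟨⟨Sigma.desc fun _ => 𝟙 Q, Sigma.ι (fun _ : Fin 1 => Q) 0,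
    Sigma.hom_ext _ _ fun j => by rw [Sigma.ι_desc_assoc, Category.id_comp, Category.comp_id, Fin.fin_one_eq_zero j],
    by rw [Sigma.ι_desc]⟩⟩ h

/-- A model from a stalk generated by one nonzero element. -/
def HasModel.ofCyclic {P : X.Modules → Prop} {η : X}
    (hP : ∀ M N : X.Modules, Nonempty (M ≅ N) → P M → P N) (G : X.Modules) (hG : Coh.IsCoh G)
    (hsupp : CohB1.support G ⊆ closure {η}) (g : G.presheaf.stalk η) (hg : g ≠ 0)
    (hgen : ∀ a : G.presheaf.stalk η, ∃ c : X.presheaf.stalk η, c • g = a)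
    (hkill : ∀ c ∈ IsLocalRing.maximalIdeal (X.presheaf.stalk η), ∀ a : G.presheaf.stalk η, c • a = 0)
    (hPG : P G) : HasModel P η where
  G := G
  r := 1
  isCoh := hG
  supp := hsupp
  pos := one_pos
  e _ := g
  kills := hkill
  span a := by
    obtain ⟨c, hc⟩ := hgen a
    exact ⟨fun _ => c, by simpa using hc⟩
  indep c hc j := fun hu => hg <| by
    rw [Fin.sum_univ_one] at hc
    rw [Fin.fin_one_eq_zero j] at hu
    exact hu.smul_eq_zero.1 hc
  prop := hPG
  of_sigma Q _ h := of_sigma_one hP Q h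

/-- A model from a stalk isomorphic to the residue field. -/
theorem nonempty_model_of_residueField {P : X.Modules → Prop} {η : X}
    (hP : ∀ M N : X.Modules, Nonempty (M ≅ N) → P M → P N) (G : X.Modules) (hG : Coh.IsCoh G)
    (hsupp : CohB1.support G ⊆ closure {η})
    (hκ : Nonempty (↑(G.presheaf.stalk η) ≃ₗ[X.presheaf.stalk η] IsLocalRing.ResidueField (X.presheaf.stalk η)))
    (hPG : P G) : Nonempty (HasModel P η) := by
  obtain ⟨e⟩ := hκ
  refine ⟨HasModel.ofCyclic hP G hG hsupp (e.symm 1) (fun h => one_ne_zero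
    (α := IsLocalRing.ResidueField (X.presheaf.stalk η))
    (e.symm.injective (h.trans (map_zero e.symm).symm))) (fun a => ?_) (fun c hc a => e.injective ?_) hPG⟩
  · obtain ⟨c, hc⟩ := IsLocalRing.residue_surjective (e a)
    refine ⟨c, e.injective ?_⟩
    rw [map_smul, e.apply_symm_apply, Algebra.smul_def, mul_one]
    exact hc
  · rw [map_smul, map_zero, Algebra.smul_def]
    exact mul_eq_zero_of_left ((IsLocalRing.residue_eq_zero_iff c).2 hc) _

section Structure

variable {Z : Scheme.{u}} (i : Z ⟶ X) [IsClosedImmersion i]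

/-- Stalks of a direct image along a closed immersion. -/
noncomputable abbrev pushStalk (N : Z.Modules) (z : Z) :=
  TopCat.Presheaf.stalkPushforward AddCommGrpCat.{u} i.base N.presheaf z

theorem bijective_pushStalk (N : Z.Modules) (z : Z) : Function.Bijective (pushStalk i N z) := by
  have := TopCat.Presheaf.stalkPushforward.stalkPushforward_iso_of_isInducing (C := AddCommGrpCat.{u})
    (f := i.base) i.isClosedEmbedding.isInducing N.presheaf z
  exact ConcreteCategory.bijective_of_isIso _

theorem pushStalk_germ (N : Z.Modules) (z : Z) (U : X.Opens) (hU : i z ∈ U) (s : Γ(N, i ⁻¹ᵁ U)) :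
    pushStalk i N z (((Scheme.Modules.pushforward i).obj N).presheaf.germ U (i z) hU s) =
      N.presheaf.germ (i ⁻¹ᵁ U) z hU s :=
  ConcreteCategory.congr_hom (TopCat.Presheaf.stalkPushforward_germ AddCommGrpCat.{u} i.base N.presheaf U z hU) s

theorem pushStalk_smul (N : Z.Modules) (z : Z) (c : X.presheaf.stalk (i z))
    (a : ((Scheme.Modules.pushforward i).obj N).presheaf.stalk (i z)) :
    pushStalk i N z (c • a) = i.stalkMap z c • (show N.presheaf.stalk z from pushStalk i N z a) := by
  obtain ⟨U, hU, r, rfl⟩ := X.presheaf.exists_germ_eq c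
  obtain ⟨U', hU', s, rfl⟩ := ((Scheme.Modules.pushforward i).obj N).presheaf.exists_germ_eq a
  rw [← X.presheaf.germ_res_apply (homOfLE (inf_le_left : U ⊓ U' ≤ U)) (i z) ⟨hU, hU'⟩ r,
    ← M1.germ_mres _ (inf_le_right : U ⊓ U' ≤ U') (x := i z) ⟨hU, hU'⟩ s]
  refine (congrArg (pushStalk i N z) (M1.germ_smul _ _ _ _).symm).trans ?_
  refine (pushStalk_germ i N z _ _ _).trans ((M1.germ_smul N _ _ _).trans ?_)
  exact congrArg₂ (fun (u : Z.presheaf.stalk z) (v : N.presheaf.stalk z) => u • v)
    (Scheme.Hom.germ_stalkMap_apply i (U ⊓ U') z ⟨hU, hU'⟩ _).symm (pushStalk_germ i N z _ _ _).symm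

theorem support_push_subset (N : Z.Modules) :
    CohB1.support ((Scheme.Modules.pushforward i).obj N) ⊆ Set.range i := fun x hx => by
  by_contra h
  exact hx ⟨fun a b => (M1.eq_zero_stalk_push i N h a).trans (M1.eq_zero_stalk_push i N h b).symm⟩

/-- The structure sheaf of an integral closed subscheme is cyclic at the generic point. -/
theorem exists_cyclic_push_structureModule [IsIntegral Z] :
    let G := (Scheme.Modules.pushforward i).obj (Coh.structureModule Z)
    ∃ g : G.presheaf.stalk (i (genericPoint Z)), g ≠ 0 ∧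
      (∀ a, ∃ c : X.presheaf.stalk (i (genericPoint Z)), c • g = a) ∧
      ∀ c ∈ IsLocalRing.maximalIdeal (X.presheaf.stalk (i (genericPoint Z))),
        ∀ a : G.presheaf.stalk (i (genericPoint Z)), c • a = 0 := by
  intro G
  let ξ := genericPoint Z
  let g : G.presheaf.stalk (i ξ) := G.presheaf.germ ⊤ (i ξ) trivial (show Γ(Coh.structureModule Z, i ⁻¹ᵁ ⊤) from (1 : Γ(Z, ⊤)))
  have hg : pushStalk i _ ξ g = (Coh.structureModule Z).presheaf.germ ⊤ ξ trivial (1 : Γ(Z, ⊤)) :=
    pushStalk_germ i _ ξ ⊤ trivial _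
  have hz : ∀ b : (Coh.structureModule Z).presheaf.stalk ξ, ∃ c : X.presheaf.stalk (i ξ),
      i.stalkMap ξ c • (show (Coh.structureModule Z).presheaf.stalk ξ from pushStalk i _ ξ g) = b := fun b => by
    obtain ⟨V, hV, t, rfl⟩ := (Coh.structureModule Z).presheaf.exists_germ_eq b
    obtain ⟨c, hc⟩ := i.stalkMap_surjective ξ (Z.presheaf.germ V ξ hV t)
    refine ⟨c, ?_⟩
    rw [hg, hc, ← M1.germ_mres (Coh.structureModule Z) (le_top : V ≤ ⊤) hV (1 : Γ(Z, ⊤)), ← M1.germ_smul]
    congr 1
    change (show Γ(Z, V) from t) * Z.presheaf.map (homOfLE (le_top : V ≤ ⊤)).op (1 : Γ(Z, ⊤)) = (show Γ(Z, V) from t)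
    rw [map_one, mul_one]
  refine ⟨g, fun h => ?_, fun a => ?_, fun c hc a => (bijective_pushStalk i _ ξ).1 ?_⟩
  · have h0 : pushStalk i _ ξ g = 0 := (congrArg _ h).trans (map_zero (pushStalk i (Coh.structureModule Z) ξ).hom)
    rw [hg] at h0
    have h1 : Z.presheaf.germ ⊤ ξ trivial (1 : Γ(Z, ⊤)) = 0 := by
      obtain ⟨W, hW, i₁, i₂, he⟩ := (Coh.structureModule Z).presheaf.germ_eq ξ (U := ⊤) (V := ⊤) trivial trivial
        _ (0 : Γ(Coh.structureModule Z, ⊤)) (h0.trans (map_zero _).symm)
      rw [← Z.presheaf.germ_res_apply i₁ ξ hW]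
      exact (congrArg (Z.presheaf.germ W ξ hW) (he.trans (map_zero _))).trans (map_zero _)
    rw [map_one] at h1
    exact one_ne_zero h1
  · obtain ⟨c, hc⟩ := hz (pushStalk i _ ξ a)
    exact ⟨c, (bijective_pushStalk i _ ξ).1 ((pushStalk_smul i _ ξ c g).trans hc)⟩
  · rw [pushStalk_smul, stalkMap_eq_zero i hc, zero_smul]
    exact (map_zero (pushStalk i (Coh.structureModule Z) ξ).hom).symm

end Structure

end Groth.Agent.CohFound
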