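import Groth.Agent.Lib.CohFound.DevissageModel
import Groth.Agent.Lib.CohFound.SerreVan
import Groth.Agent.Lib.Ample18.Avoid
import Groth.Agent.Lib.CohFound.ProjQuot
import Groth.Prelude.Def_ClSub2

/-!
# Serre's criterion for ampleness
-/

set_option autoImplicit false

universe u

open CategoryTheory Limits AlgebraicGeometry TopologicalSpace Opposite TensorProduct

namespace Groth.Agent.CohFound

variable {X : Scheme.{u}}

/-- Elements of the maximal ideal times an invertible stalk do not generate. -/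
theorem not_gen_of_mem {L : X.Modules} {x : X} {a : L.presheaf.stalk x}
    (ha : a ∈ IsLocalRing.maximalIdeal (X.presheaf.stalk x) • (⊤ : Submodule (X.presheaf.stalk x) _)) :
    ¬ Amp.Gen a := fun h => by
  obtain ⟨c, hc, hca⟩ : ∃ c ∈ IsLocalRing.maximalIdeal (X.presheaf.stalk x), c • a = a := by
    refine (?_ : ∀ b ∈ IsLocalRing.maximalIdeal (X.presheaf.stalk x) •
      (⊤ : Submodule (X.presheaf.stalk x) (L.presheaf.stalk x)),
        ∃ c ∈ IsLocalRing.maximalIdeal (X.presheaf.stalk x), c • a = b) a ha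
    intro b hb
    refine Submodule.smul_induction_on hb (fun r hr t _ => ?_) fun y z hy hz => ?_
    · obtain ⟨d, rfl⟩ := h.2 t
      exact ⟨r * d, Ideal.mul_mem_right _ _ hr, mul_smul r d a⟩
    · obtain ⟨⟨c, hc, rfl⟩, ⟨d, hd, rfl⟩⟩ := And.intro hy hz
      exact ⟨c + d, Ideal.add_mem _ hc hd, add_smul c d a⟩
  have := h.1 (show c • a = (1 : X.presheaf.stalk x) • a by rw [hca, one_smul])
  exact (IsLocalRing.maximalIdeal.isMaximal _).ne_top ((Ideal.eq_top_iff_one _).2 (this ▸ hc))

/-- A map into the structure sheaf with values in the maximal ideal stays so after tensoring. -/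
theorem mem_smul_top_of_tensor {B : X.Modules} (φ : B ⟶ Coh.structureModule X) (E : X.Modules) {y : X}
    (h : ∀ b : B.presheaf.stalk y, stL φ y b ∈ IsLocalRing.maximalIdeal (X.presheaf.stalk y) •
      (⊤ : Submodule (X.presheaf.stalk y) ((Coh.structureModule X).presheaf.stalk y)))
    (z : (CohB1.tensorMod B E).presheaf.stalk y) :
    stL (M2.tensorMap φ (𝟙 E) ≫ (M2.tensorLUnit E).hom) y z ∈
      IsLocalRing.maximalIdeal (X.presheaf.stalk y) • (⊤ : Submodule (X.presheaf.stalk y) (E.presheaf.stalk y)) := by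
  let m := IsLocalRing.maximalIdeal (X.presheaf.stalk y)
  have hmap : ∀ {M N : Type u} [AddCommGroup M] [AddCommGroup N] [Module (X.presheaf.stalk y) M]
      [Module (X.presheaf.stalk y) N] (f : M →ₗ[X.presheaf.stalk y] N) {a : M},
      a ∈ m • (⊤ : Submodule (X.presheaf.stalk y) M) → f a ∈ m • (⊤ : Submodule (X.presheaf.stalk y) N) := by
    intro M N _ _ _ _ f a ha
    have := Submodule.mem_map_of_mem (f := f) ha
    rw [Submodule.map_smul''] at this
    exact Submodule.smul_mono le_rfl le_top this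
  let e := M2.stalkEquiv (Coh.structureModule X) E y
  have h1 : stL (M2.tensorMap φ (𝟙 E)) y z ∈ m • (⊤ : Submodule (X.presheaf.stalk y) _) := by
    have h2 : LinearMap.rTensor (E.presheaf.stalk y) (CurveCoh17.stalkLin φ y) (M2.stalkEquiv B E y z) ∈
        m • (⊤ : Submodule (X.presheaf.stalk y) _) := by
      induction M2.stalkEquiv B E y z using TensorProduct.induction_on with
      | zero => rw [map_zero]; exact zero_mem _
      | add a b ha hb => rw [map_add]; exact add_mem ha hb
      | tmul p q => exact hmap ((TensorProduct.mk _ _ _).flip q) (h p)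
    rw [← CurveCoh17.stalkEquiv_natural] at h2
    have := hmap e.symm.toLinearMap h2
    rwa [LinearEquiv.coe_coe, LinearEquiv.symm_apply_apply] at this
  rw [stL_comp]
  exact hmap (stL (M2.tensorLUnit E).hom y) h1

/-- A nonzero germ of a module supported at a closed point extends to a global section. -/
theorem exists_global_of_support {T : X.Modules} {x : X} (hx : IsClosed ({x} : Set X))
    (hT : CohB1.support T ⊆ {x}) (t : T.presheaf.stalk x) :
    ∃ σ : Γ(T, ⊤), T.presheaf.germ ⊤ x trivial σ = t := by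
  classical
  have h0 : ∀ y ≠ x, ∀ a : T.presheaf.stalk y, a = 0 := fun y hy =>
    (M1.notMem_support_iff T y).1 fun h => hy (hT h)
  let f : ∀ y : (⊤ : X.Opens), (T.presheaf.stalk y.1 : Type u) := fun y =>
    if h : y.1 = x then (by rw [h]; exact t) else 0
  obtain ⟨σ, hσ, -⟩ := Curve17.existsUnique_of_germPred T f fun y => by
    by_cases h : y.1 = x
    · obtain ⟨U, hU, s, hs⟩ := T.presheaf.exists_germ_eq t
      refine ⟨U, h.symm ▸ hU, homOfLE le_top, s, fun z => ?_⟩
      obtain ⟨z, hz⟩ := z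
      by_cases hz' : z = x
      · subst hz'
        simpa [f] using hs.symm
      · exact (h0 z hz' _).trans (h0 z hz' _).symm
    · refine ⟨⟨{x}ᶜ, hx.isOpen_compl⟩, h, homOfLE le_top, 0, fun z => ?_⟩
      exact (h0 z.1 z.2 _).trans (h0 z.1 z.2 _).symm
  exact ⟨σ, (hσ ⟨x, trivial⟩).trans (by simp [f])⟩

/-- A section of a power separating a closed point from the complement of an affine neighbourhood. -/
theorem exists_hasSec_closedPoint [IsNoetherian X] {L : X.Modules} (hL : PicF.IsInvertible L)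
    (h : ∀ M : X.Modules, Coh.IsCoh M → ∃ n₀ : ℕ, ∀ n, n₀ ≤ n →
      Subsingleton (Hc ((abF X).obj (CohB1.tensorMod M (CohB1.tensorPow L n))) 1 ⊤))
    {x : X} (hx : IsClosed ({x} : Set X)) {U : X.Opens} (hxU : x ∈ U) :
    ∃ (n : ℕ) (G : X.Opens), Amp.HasSec L (n + 1) G ∧ x ∈ G ∧ G ≤ U := by
  let I := Scheme.IdealSheafData.vanishingIdeal ⟨(U : Set X)ᶜ, U.isOpen.isClosed_compl⟩
  let i := I.subschemeι
  have : IsLocallyNoetherian I.subscheme := LocallyOfFiniteType.isLocallyNoetherian i
  have hr : Set.range i = (U : Set X)ᶜ := by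
    rw [Scheme.IdealSheafData.range_subschemeι, Scheme.IdealSheafData.coe_support_vanishingIdeal]
    rfl
  let B := ClSub.idealMod I
  let ι : B ⟶ Coh.structureModule X := ClSub.idealModι I
  have : Mono ι := inferInstanceAs (Mono (kernel.ι (ClSub.toSubscheme I)))
  have hB : Coh.IsCoh B := M1.isCoh_kernel (M1.isCoh_structureModule X)
    (isCoh_push_closedImm i (M1.isCoh_structureModule I.subscheme)).1 (ClSub.toSubscheme I)
  let S₀ : ShortComplex X.Modules := ShortComplex.mk ι (ClSub.toSubscheme I) (kernel.condition _)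
  have hexB : S₀.Exact := ShortComplex.exact_kernel (ClSub.toSubscheme I)
  have hxr : x ∉ Set.range i := by rw [hr]; exact fun h' => h' hxU
  have hιx : Function.Bijective (stL ι x) := ⟨stL_injective_of_mono ι x, fun b =>
    (M1.exact_iff_stalk_eq_zero S₀).1 hexB x b (M1.eq_zero_stalk_push i _ hxr _)⟩
  have hout : ∀ y ∉ U, ∀ b : B.presheaf.stalk y, stL ι y b ∈
      IsLocalRing.maximalIdeal (X.presheaf.stalk y) •
        (⊤ : Submodule (X.presheaf.stalk y) ((Coh.structureModule X).presheaf.stalk y)) := by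
    intro y hy b
    obtain ⟨z, rfl⟩ : y ∈ Set.range i := hr ▸ hy
    obtain ⟨V, hV, s, rfl⟩ := B.presheaf.exists_germ_eq b
    rw [stL_germ]
    let a : Γ(X, V) := ι.app V s
    have ha : i.app V a = 0 :=
      congrArg (fun φ : B ⟶ _ => φ.app V s) (kernel.condition (ClSub.toSubscheme I))
    have hm : X.presheaf.germ V (i z) hV a ∈ IsLocalRing.maximalIdeal (X.presheaf.stalk (i z)) := fun hu => by
      have := hu.map (i.stalkMap z).hom
      rw [Scheme.Hom.germ_stalkMap_apply, ha, map_zero] at this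
      exact not_isUnit_zero this
    have e : (Coh.structureModule X).presheaf.germ V (i z) hV (ι.app V s) =
        X.presheaf.germ V (i z) hV a •
          (Coh.structureModule X).presheaf.germ V (i z) hV (show Γ(Coh.structureModule X, V) from (1 : Γ(X, V))) := by
      rw [← M1.germ_smul]
      congr 1
      exact (mul_one a).symm
    rw [e]
    exact Submodule.smul_mem_smul hm trivial
  let N : Submodule (X.presheaf.stalk x) (B.presheaf.stalk x) := IsLocalRing.maximalIdeal (X.presheaf.stalk x) • ⊤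
  have hA : Coh.IsCoh (cutAt B x N) := isCoh_cutAt' B x N hB fun g hg =>
    ⟨1, fun a => by rw [pow_one]; exact Submodule.smul_mem_smul hg trivial⟩
  let Q := cokernel (cutι B x N)
  let π : B ⟶ Q := cokernel.π _
  have hQsupp : ∀ y ≠ x, ∀ q : Q.presheaf.stalk y, q = 0 := fun y hy q => by
    obtain ⟨b, rfl⟩ := stL_surjective_of_epi π y q
    obtain ⟨V, hV, s, rfl⟩ := B.presheaf.exists_germ_eq b
    let W : X.Opens := V ⊓ ⟨{x}ᶜ, hx.isOpen_compl⟩
    obtain ⟨f, hf⟩ := (exists_cutι_iff B x N (M1.mres B (inf_le_left : W ≤ V) s)).2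
      fun hη => absurd rfl hη.2
    rw [← M1.germ_mres B (inf_le_left : W ≤ V) (x := y) ⟨hV, hy⟩ s, ← hf, ← stL_germ, ← stL_comp,
      cokernel.condition, stL_zero]
  have hkillQ : ∀ c ∈ IsLocalRing.maximalIdeal (X.presheaf.stalk x), ∀ q : Q.presheaf.stalk x, c • q = 0 :=
    fun c hc q => by
      obtain ⟨b, rfl⟩ := stL_surjective_of_epi π x q
      obtain ⟨e, he⟩ := (range_stL_cutι B x N).ge (Submodule.smul_mem_smul hc (Submodule.mem_top (x := b)))
      rw [← map_smul, ← he, ← stL_comp, cokernel.condition, stL_zero]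
  obtain ⟨n₀, hn₀⟩ := h _ hA
  let E := CohB1.tensorPow L (n₀ + 1)
  have hE : PicF.IsInvertible E := Amp.isInvertible_tensorPow hL _
  let S : ShortComplex X.Modules := ShortComplex.mk (cutι B x N) π (cokernel.condition _)
  have hS : S.ShortExact := { exact := ShortComplex.exact_cokernel _ }
  have hT := shortExact_abF (shortExact_tensor_invertible hS hE)
  let T := CohB1.tensorMod Q E
  have hTs : CohB1.support T ⊆ {x} := fun y hy => by
    by_contra h'
    refine (M1.notMem_support_iff T y).2 (fun a => (M2.stalkEquiv Q E y).injective ?_) hy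
    rw [map_zero]
    induction M2.stalkEquiv Q E y a using TensorProduct.induction_on with
    | zero => rfl
    | tmul p q => rw [hQsupp y h' p, TensorProduct.zero_tmul]
    | add u v hu hv => rw [hu, hv, add_zero]
  obtain ⟨g, hg⟩ := Amp.exists_stalk_gen hE x
  obtain ⟨b₁, hb₁⟩ := hιx.2 ((Coh.structureModule X).presheaf.germ ⊤ x trivial
    (show Γ(Coh.structureModule X, ⊤) from (1 : Γ(X, ⊤))))
  have hb₁N : b₁ ∉ N := fun hmem => by
    refine not_gen_of_mem (a := stL ι x b₁) ?_ (hb₁ ▸ Amp.gen_one x (U := ⊤) trivial)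
    have := Submodule.mem_map_of_mem (f := stL ι x) hmem
    rw [Submodule.map_smul''] at this
    exact Submodule.smul_mono le_rfl le_top this
  have hq₁ : stL π x b₁ ≠ 0 := fun h0 => hb₁N <| by
    obtain ⟨e, rfl⟩ := M1.exact_elem hS.exact x b₁ h0
    exact (range_stL_cutι B x N).le ⟨e, rfl⟩
  let eg := (LinearEquiv.ofBijective (LinearMap.toSpanSingleton (X.presheaf.stalk x) (E.presheaf.stalk x) g) hg).symm
  have ht₀ : stL π x b₁ ⊗ₜ[X.presheaf.stalk x] g ≠ 0 := fun h0 => hq₁ <| by
    have := congrArg ((TensorProduct.rid _ _).toLinearMap.comp (LinearMap.lTensor (Q.presheaf.stalk x) eg.toLinearMap)) h0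
    rw [map_zero, LinearMap.comp_apply, LinearMap.lTensor_tmul, LinearEquiv.coe_coe, LinearEquiv.coe_coe,
      TensorProduct.rid_tmul, show eg g = 1 from (LinearEquiv.symm_apply_eq _).2 (by simp [LinearMap.toSpanSingleton_apply]), one_smul] at this
    exact this
  obtain ⟨σ, hσ⟩ := exists_global_of_support hx hTs ((M2.stalkEquiv Q E x).symm (stL π x b₁ ⊗ₜ g))
  obtain ⟨w, hw⟩ := exact₃ hT 0 ⊤ ((hc0 ((abF X).obj T) ⊤).symm σ) (@Subsingleton.elim _ (hn₀ (n₀ + 1) n₀.le_succ) _ _)
  let s : Γ(CohB1.tensorMod B E, ⊤) := hc0 _ ⊤ w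
  have hs : (M2.tensorMap π (𝟙 E)).app ⊤ s = σ := by
    refine (hc0_mp ((abF X).map ((M2.tensorR E).map π)) ⊤ w).symm.trans ?_
    exact (congrArg (hc0 ((abF X).obj T) ⊤) hw).trans ((hc0 ((abF X).obj T) ⊤).apply_symm_apply σ)
  let ψ : CohB1.tensorMod B E ⟶ E := M2.tensorMap ι (𝟙 E) ≫ (M2.tensorLUnit E).hom
  let v : Γ(E, ⊤) := ψ.app ⊤ s
  let G := CohB1.genLocus E (M1.secHom v)
  have hmem : ∀ y, y ∈ G ↔ Amp.Gen (stL ψ y ((CohB1.tensorMod B E).presheaf.germ ⊤ y trivial s)) := fun y => by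
    rw [stL_germ]
    refine (Amp.mem_genLocus_iff hE _).trans ?_
    rw [Amp.gval_secHom]
  refine ⟨n₀, G, ⟨M1.secHom v, rfl⟩, ?_, fun y hy => ?_⟩
  · rw [hmem]
    by_contra hng
    obtain ⟨gx, hgx⟩ := Amp.exists_stalk_gen hE x
    obtain ⟨c, hc⟩ := hgx.2 (stL ψ x ((CohB1.tensorMod B E).presheaf.germ ⊤ x trivial s))
    have hcm : c ∈ IsLocalRing.maximalIdeal (X.presheaf.stalk x) := fun hu => hng <| by
      rw [← hc]
      exact (hgx.ne_zero_smul c).2 hu
    have hψ : Function.Bijective (stL ψ x) := by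
      have h1 : Function.Bijective (stL (M2.tensorMap ι (𝟙 E)) x) := by
        have h2 : Function.Bijective (LinearMap.rTensor (E.presheaf.stalk x) (CurveCoh17.stalkLin ι x)) :=
          (LinearEquiv.rTensor (E.presheaf.stalk x) (LinearEquiv.ofBijective (CurveCoh17.stalkLin ι x) hιx)).bijective
        have h3 : (M2.stalkEquiv _ E x) ∘ (stL (M2.tensorMap ι (𝟙 E)) x) =
            (LinearMap.rTensor (E.presheaf.stalk x) (CurveCoh17.stalkLin ι x)) ∘ (M2.stalkEquiv B E x) :=
          funext fun a => CurveCoh17.stalkEquiv_natural ι E x a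
        refine (Function.Bijective.of_comp_iff' (M2.stalkEquiv _ E x).bijective _).1 ?_
        rw [h3]
        exact h2.comp (M2.stalkEquiv B E x).bijective
      have h4 : Function.Bijective (stL (M2.tensorLUnit E).hom x) :=
        ⟨stL_injective_of_mono _ x, stL_surjective_of_epi _ x⟩
      have h5 : ⇑(stL ψ x) = (stL (M2.tensorLUnit E).hom x) ∘ (stL (M2.tensorMap ι (𝟙 E)) x) :=
        funext fun a => stL_comp _ _ x a
      rw [h5]
      exact h4.comp h1
    obtain ⟨z, hz⟩ := hψ.2 gx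
    have hsz : (CohB1.tensorMod B E).presheaf.germ ⊤ x trivial s = c • z := hψ.1 (by rw [map_smul, hz]; exact hc.symm)
    have h0 : stL (M2.tensorMap π (𝟙 E)) x ((CohB1.tensorMod B E).presheaf.germ ⊤ x trivial s) = 0 := by
      rw [hsz, map_smul]
      refine (M2.stalkEquiv Q E x).injective ?_
      rw [map_smul, map_zero]
      induction M2.stalkEquiv Q E x (stL (M2.tensorMap π (𝟙 E)) x z) using TensorProduct.induction_on with
      | zero => rw [smul_zero]
      | tmul p q => rw [TensorProduct.smul_tmul', hkillQ c hcm p, TensorProduct.zero_tmul]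
      | add a b ha hb => rw [smul_add, ha, hb, add_zero]
    rw [stL_germ, hs, hσ] at h0
    exact ht₀ ((M2.stalkEquiv Q E x).symm.injective (h0.trans (map_zero _).symm))
  · by_contra hyU
    exact not_gen_of_mem (mem_smul_top_of_tensor ι E (hout y hyU) _) ((hmem y).1 hy)

/-- Serre's criterion. -/
theorem isAmple_of_vanishing [IsNoetherian X] {L : X.Modules} (hL : PicF.IsInvertible L)
    (h : ∀ M : X.Modules, Coh.IsCoh M → ∃ n₀ : ℕ, ∀ n, n₀ ≤ n →
      Subsingleton (Hc ((abF X).obj (CohB1.tensorMod M (CohB1.tensorPow L n))) 1 ⊤)) :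
    CohB1.IsAmple L := by
  refine Amp.isAmple_iff.2 ⟨hL, inferInstance, ?_⟩
  let Ω : Set X := {y | ∃ (n : ℕ) (G : X.Opens), Amp.HasSec L (n + 1) G ∧ y ∈ G ∧ IsAffineOpen G}
  have hΩ : IsOpen Ω := isOpen_iff_forall_mem_open.2 fun y ⟨n, G, hG, hy, hA⟩ =>
    ⟨G, fun z hz => ⟨n, G, hG, hz, hA⟩, G.isOpen, hy⟩
  suffices hall : Ω = Set.univ from fun y => (hall ▸ Set.mem_univ y : y ∈ Ω)
  by_contra hne
  obtain ⟨y, hy⟩ := (Set.ne_univ_iff_exists_notMem Ω).1 hne
  obtain ⟨x, hxΩ, hxc⟩ := hΩ.isClosed_compl.exists_closed_singleton ⟨y, hy⟩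
  obtain ⟨U, hU, hxU, -⟩ := exists_isAffineOpen_mem_and_subset (x := x) (U := ⊤) trivial
  obtain ⟨n, G, hG, hxG, hGU⟩ := exists_hasSec_closedPoint hL h hxc hxU
  refine hxΩ ⟨n, G, hG, hxG, ?_⟩
  have := Amp.isAffineOpen_inf_hasSec hL hG hU
  rwa [inf_eq_left.mpr hGU] at this

end Groth.Agent.CohFound
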