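import Groth.Agent.Lib.CohFound.SerreAffineExt
import Groth.Agent.Lib.ModM1.Extend

/-!
# Vanishing of `H¹` from vanishing on submodules of finite type
-/

set_option autoImplicit false

universe u

open CategoryTheory TopologicalSpace Opposite CategoryTheory.Limits AlgebraicGeometry

namespace Groth.Agent.CohFound

variable {X : Scheme.{u}}

/-- A sum of two quasi-coherent modules of finite type is of finite type. -/
theorem isFT_biprod {M N : X.Modules} (hM : Coh.IsQCoh M) (hM' : CohB1.IsFT M) (hN : Coh.IsQCoh N)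
    (hN' : CohB1.IsFT N) : CohB1.IsFT (M ⊞ N) := by
  refine M1.isFT_of_finite_sections (M1.isQCoh_biprod hM hN) fun U hU => ?_
  have := M1.finite_sections hM hM' hU
  have := M1.finite_sections hN hN' hU
  let g : Γ(M, U) × Γ(N, U) →ₗ[Γ(X, U)] Γ(M ⊞ N, U) :=
    { toFun := fun s => (biprod.inl : M ⟶ M ⊞ N).app U s.1 + (biprod.inr : N ⟶ M ⊞ N).app U s.2
      map_add' := fun a b => by simp only [Prod.fst_add, Prod.snd_add, map_add]; abel
      map_smul' := fun r a => by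
        simp only [Prod.smul_fst, Prod.smul_snd, Scheme.Modules.Hom.app_smul, RingHom.id_apply, smul_add] }
  refine Module.Finite.of_surjective g fun s => ⟨((biprod.fst : M ⊞ N ⟶ M).app U s, (biprod.snd : M ⊞ N ⟶ N).app U s), ?_⟩
  exact congrArg (fun φ : M ⊞ N ⟶ M ⊞ N => φ.app U s) biprod.total

/-- Sections over quasi-compact opens lie in a submodule of finite type. -/
theorem exists_ft_sub_mem [CompactSpace X] [QuasiSeparatedSpace X] {I : X.Modules} (hI : Coh.IsQCoh I)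
    {κ : Type u} [Finite κ] (W : κ → X.Opens) (hW : ∀ k, IsCompact (W k : Set X))
    (a : ∀ k, Γ(I, W k)) : ∃ q : M1.Sub I, Coh.IsQCoh q.P ∧ CohB1.IsFT q.P ∧
      ∀ k, q.mem (W k) (a k) := by
  classical
  have h1 : ∀ k, ∃ q : M1.Sub I, Coh.IsQCoh q.P ∧ CohB1.IsFT q.P ∧ q.mem (W k) (a k) := by
    intro k
    let a' : Γ(I.restrict (W k).ι, ⊤) := M1.mres I (M1.image_ι_top (W k)).le (a k)
    let g : (M1.fr PUnit.{u + 1} : ((W k : X.Opens) : Scheme.{u}).Modules) ⟶ I.restrict (W k).ι :=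
      M1.freeHom fun _ => a'
    let H := M1.Sub.im g
    have hHq : Coh.IsQCoh H.P := M1.Sub.isQCoh_im g (M1.isQCoh_fr _ _) (M1.isQCoh_restrict hI _)
    have hHf : CohB1.IsFT H.P := M1.Sub.isFT_im g (M1.isFT_fr _ _)
    let p := M1.Sub.ext (W k).ι H
    have hp : M1.Sub.FTOn p (W k) := by
      obtain ⟨e, -⟩ := M1.Sub.exists_iso (p.res (W k).ι) H (M1.Sub.mem_res_ext (W k).ι H)
      exact ⟨M1.isQCoh_of_isIso e.symm hHq, M1.isFT_of_isIso e.symm hHf⟩
    obtain ⟨q, hq1, hq2, hag⟩ := M1.Sub.exists_extend_qcqs hI p (W k) (hW k) hp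
    refine ⟨q, hq1, hq2, (hag _ le_rfl _).1 ((p.mem_congr (M1.image_ι_top (W k)).symm (a k)).1 ?_)⟩
    refine (M1.Sub.mem_res (W k).ι p ⊤ a').1 ((M1.Sub.mem_res_ext (W k).ι H ⊤ a').2 ?_)
    have e : g.app ⊤ ((M1.ιF (X := ((W k : X.Opens) : Scheme.{u})) PUnit.unit).app ⊤ (M1.one ⊤)) = a' := by
      rw [← M1.comp_app_apply, M1.ιF_freeHom, M1.secHom_app_one]
    exact e ▸ M1.Sub.im_mem_app g ⊤ _
  choose q hq1 hq2 hq3 using h1
  suffices ∀ l : List κ, ∃ r : M1.Sub I, Coh.IsQCoh r.P ∧ CohB1.IsFT r.P ∧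
      ∀ k ∈ l, r.mem (W k) (a k) by
    have hl := this
    have := Fintype.ofFinite κ
    obtain ⟨r, h1, h2, h3⟩ := hl Finset.univ.toList
    exact ⟨r, h1, h2, fun k => h3 k (by simp)⟩
  intro l
  induction l with
  | nil =>
    let z : (M1.fr PEmpty.{u + 1} : X.Modules) ⟶ I := M1.freeHom fun i => i.elim
    exact ⟨M1.Sub.im z, M1.Sub.isQCoh_im z (M1.isQCoh_fr _ _) hI, M1.Sub.isFT_im z (M1.isFT_fr _ _),
      by simp⟩
  | cons k l ih =>
    obtain ⟨r, hr1, hr2, hr3⟩ := ih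
    let φ : (q k).P ⊞ r.P ⟶ I := biprod.desc (q k).i r.i
    refine ⟨M1.Sub.im φ, M1.Sub.isQCoh_im φ (M1.isQCoh_biprod (hq1 k) hr1) hI,
      M1.Sub.isFT_im φ (isFT_biprod (hq1 k) (hq2 k) hr1 hr2), fun k' hk' => ?_⟩
    rcases List.mem_cons.1 hk' with rfl | hk'
    · obtain ⟨b, hb⟩ := hq3 k'
      rw [← hb, ← show biprod.inl ≫ φ = (q k').i from biprod.inl_desc _ _, M1.comp_app_apply]
      exact M1.Sub.im_mem_app φ _ _
    · obtain ⟨b, hb⟩ := hr3 k' hk'
      rw [← hb, ← show biprod.inr ≫ φ = r.i from biprod.inr_desc _ _, M1.comp_app_apply]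
      exact M1.Sub.im_mem_app φ _ _

/-- `H¹` is supported on submodules of finite type. -/
theorem subsingleton_hc_one_of_ft [CompactSpace X] [QuasiSeparatedSpace X] {I : X.Modules}
    (hI : Coh.IsQCoh I) (h : ∀ q : M1.Sub I, Coh.IsQCoh q.P → CohB1.IsFT q.P →
      Subsingleton (Hc ((abF X).obj q.P) 1 ⊤)) : Subsingleton (Hc ((abF X).obj I) 1 ⊤) := by
  classical
  let F := (abF X).obj I
  have hS := injSC_shortExact F
  refine subsingleton_of_forall_eq 0 fun ξ => ?_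
  obtain ⟨c, rfl⟩ := exact₁ hS 0 ⊤ ξ (Subsingleton.elim _ _)
  let σ : (injSC F).X₃.obj.obj (op ⊤) := hc0 (injSC F).X₃ ⊤ c
  have := hS.epi_g
  have := hS.mono_f
  have hloc : ∀ y : X, ∃ W : X.Opens, IsAffineOpen W ∧ y ∈ W ∧ ∃ t,
      (injSC F).g.hom.app (op W) t = (injSC F).X₃.obj.map (homOfLE (le_top : (W : Opens (sp X)) ≤ ⊤)).op σ := by
    intro y
    obtain ⟨V, hV, hyV, t, ht⟩ := locally_lift_of_epi (injSC F).g ⊤ σ (x := y) trivial
    obtain ⟨W, hW, hyW, hWV⟩ := exists_isAffineOpen_mem_and_subset (X := X) (x := y) (U := V) hyV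
    refine ⟨W, hW, hyW, (injSC F).X₂.obj.map (homOfLE hWV).op t, ?_⟩
    rw [NatTrans.naturality_apply, ht]
    exact map_map_apply _ hV hWV σ
  choose W hW hyW t ht using hloc
  obtain ⟨T, hT⟩ := isCompact_univ.elim_finite_subcover (fun y : X => (W y : Set X))
    (fun y => (W y).isOpen) fun y _ => Set.mem_iUnion.2 ⟨y, hyW y⟩
  let res : ∀ {U V : Opens (sp X)} (G : CohTop.Ab (sp X)) (_ : V ≤ U), G.obj.obj (op U) → G.obj.obj (op V) :=
    fun G hle => G.obj.map (homOfLE hle).op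
  have hdiff : ∀ p : T × T, ∃ a : F.obj.obj (op (W p.1.1 ⊓ W p.2.1)),
      (injSC F).f.hom.app (op (W p.1.1 ⊓ W p.2.1)) a =
        res (injSC F).X₂ inf_le_left (t p.1.1) - res (injSC F).X₂ inf_le_right (t p.2.1) := fun p =>
    exact_app hS.exact _ (by
      rw [map_sub, sub_eq_zero]
      simp only [res]
      rw [NatTrans.naturality_apply, NatTrans.naturality_apply, ht, ht, map_map_apply, map_map_apply])
  choose a ha using hdiff
  obtain ⟨q, hq1, hq2, hq3⟩ := exists_ft_sub_mem hI (fun p : T × T => W p.1.1 ⊓ W p.2.1)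
    (fun p => QuasiSeparatedSpace.inter_isCompact _ _ (W _).isOpen (hW _).isCompact (W _).isOpen
      (hW _).isCompact) a
  let i : (abF X).obj q.P ⟶ (injSC F).X₂ := (abF X).map q.i ≫ (injSC F).f
  have : Mono ((abF X).map q.i) := inferInstance
  let S' : ShortComplex (CohTop.Ab (sp X)) := ShortComplex.mk i (cokernel.π i) (cokernel.condition i)
  have hS' : S'.ShortExact := { exact := ShortComplex.exact_cokernel i }
  let f : S' ⟶ injSC F :=
    { τ₁ := (abF X).map q.i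
      τ₂ := 𝟙 _
      τ₃ := cokernel.desc i (injSC F).g (by rw [Category.assoc, (injSC F).zero, comp_zero])
      comm₁₂ := (Category.comp_id _).symm
      comm₂₃ := (Category.id_comp _).trans (cokernel.π_desc _ _ _).symm }
  have hcomp : TopCat.Presheaf.IsCompatible (cokernel i).obj (fun k : T => (W k.1 : Opens (sp X)))
      (fun k => (cokernel.π i).hom.app (op (W k.1)) (t k.1)) := by
    intro k l
    obtain ⟨b, hb⟩ := hq3 (k, l)
    rw [← sub_eq_zero]
    change res (cokernel i) inf_le_left _ - res (cokernel i) inf_le_right _ = 0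
    simp only [res]
    rw [← NatTrans.naturality_apply, ← NatTrans.naturality_apply, ← map_sub]
    rw [show (injSC F).X₂.obj.map (homOfLE (inf_le_left : W k.1 ⊓ W l.1 ≤ W k.1)).op (t k.1) -
        (injSC F).X₂.obj.map (homOfLE (inf_le_right : W k.1 ⊓ W l.1 ≤ W l.1)).op (t l.1) =
          i.hom.app (op (W k.1 ⊓ W l.1)) b from (ha (k, l)).symm.trans (congrArg _ hb.symm)]
    exact congrArg (fun φ => φ.hom.app (op (W k.1 ⊓ W l.1)) b) (cokernel.condition i)
  have hcov : (⊤ : Opens (sp X)) ≤ ⨆ k : T, (W k.1 : Opens (sp X)) := fun y _ => by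
    obtain ⟨z, hz, hy⟩ := Set.mem_iUnion₂.1 (hT (Set.mem_univ y))
    exact Opens.mem_iSup.2 ⟨⟨z, hz⟩, hy⟩
  obtain ⟨σ', hσ', -⟩ := TopCat.Sheaf.existsUnique_gluing' (cokernel i) _ ⊤ (fun k => homOfLE le_top) hcov
    _ hcomp
  have hτ : f.τ₃.hom.app (op ⊤) σ' = σ := by
    refine TopCat.Sheaf.eq_of_locally_eq' (injSC F).X₃ _ ⊤ (fun k : T => homOfLE le_top) hcov _ _ fun k => ?_
    rw [← NatTrans.naturality_apply]
    refine (congrArg (f.τ₃.hom.app (op (W k.1 : Opens (sp X)))) (hσ' k)).trans ?_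
    exact (congrArg (fun φ : (injSC F).X₂ ⟶ (injSC F).X₃ => φ.hom.app (op (W k.1 : Opens (sp X))) (t k.1))
      (f.comm₂₃.symm.trans (Category.id_comp _))).trans (ht k.1)
  let c' : Hc S'.X₃ 0 ⊤ := (hc0 _ ⊤).symm σ'
  have hc : mp f.τ₃ 0 ⊤ c' = c := (hc0 _ ⊤).injective (by
    rw [hc0_mp, AddEquiv.apply_symm_apply]; exact hτ)
  rw [← hc]
  refine (delta_natural hS' hS f 0 ⊤ c').symm.trans ?_
  exact (congrArg _ (@Subsingleton.elim _ (h q hq1 hq2) (delta hS' 0 ⊤ c') 0)).trans (map_zero _)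

/-- Serre's criterion with ideals of finite type. -/
theorem isAffine_of_h1_ft [CompactSpace X] [QuasiSeparatedSpace X]
    (h : ∀ (I : X.Modules) (i : I ⟶ Coh.structureModule X), Mono i →
      Coh.IsQCoh I → CohB1.IsFT I → Subsingleton (Coh.HH X I 1)) : IsAffine X :=
  isAffine_of_h1IdealVan fun _ i _ hI => subsingleton_hc_one_of_ft hI fun q hq hq' =>
    (subsingleton_HH_iff _ 1).1 (h q.P (q.i ≫ i) inferInstance hq hq')

end Groth.Agent.CohFound
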