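import Groth.Agent.Lib.CohFound.RelVan
import Groth.Agent.Lib.TensorMod.IdealMod
import Groth.Agent.Lib.Twist.Triv
import Groth.Agent.Lib.ModM1.FibreProd
import Groth.Agent.Lib.ModM1.Extend
import Groth.Prelude.Def_ClSub2

/-!
# Serre's criterion for affineness
-/

set_option autoImplicit false

universe u

open CategoryTheory TopologicalSpace Opposite CategoryTheory.Limits AlgebraicGeometry

namespace Groth.Agent.CohFound

variable (X : Scheme.{u})

/-- `H¹` of every quasi-coherent ideal vanishes. -/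
def H1IdealVan : Prop :=
  ∀ (I : X.Modules) (i : I ⟶ Coh.structureModule X), Mono i → Coh.IsQCoh I →
    Subsingleton (Hc ((abF X).obj I) 1 ⊤)

variable {X}

/-- Sections of the ideal of a closed subscheme over an open missing it are everything. -/
theorem subschemeι_app_eq_zero_of_disjoint (I : X.IdealSheafData) {W : X.Opens}
    (h : Disjoint (W : Set X) I.support) (s : Γ(X, W)) : I.subschemeι.app W s = 0 := by
  have : I.subschemeι ⁻¹ᵁ W = ⊥ := by
    refine le_bot_iff.1 fun z hz => ?_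
    refine (Set.disjoint_left.1 h hz ?_).elim
    rw [← I.range_subschemeι]
    exact ⟨z, rfl⟩
  have : Subsingleton Γ(I.subscheme, I.subschemeι ⁻¹ᵁ W) := by rw [this]; infer_instance
  exact Subsingleton.elim _ _

/-- Sections of the ideal of a closed subscheme vanish on it. -/
theorem notMem_basicOpen_of_app_eq_zero (I : X.IdealSheafData) {W : X.Opens} {s : Γ(X, W)}
    (hs : I.subschemeι.app W s = 0) {y : X} (hy : y ∈ I.support) : y ∉ X.basicOpen s := by
  intro hys
  rw [← SetLike.mem_coe, ← I.range_subschemeι] at hy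
  obtain ⟨z, rfl⟩ := hy
  have h : z ∈ I.subschemeι ⁻¹ᵁ X.basicOpen s := hys
  rw [Scheme.preimage_basicOpen, hs, Scheme.basicOpen_zero] at h
  exact h

/-- A global function which is invertible at a closed point and vanishes outside a given open
neighbourhood. -/
theorem exists_basicOpen_le_of_h1 (h : H1IdealVan X) {x : X} (hx : IsClosed ({x} : Set X))
    {U : X.Opens} (hxU : x ∈ U) : ∃ f : Γ(X, ⊤), x ∈ X.basicOpen f ∧ X.basicOpen f ≤ U := by
  let V : X.Opens := ⟨{x}ᶜ, hx.isOpen_compl⟩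
  let I := Scheme.IdealSheafData.vanishingIdeal
    ⟨(U : Set X)ᶜ ∪ {x}, U.isOpen.isClosed_compl.union hx⟩
  have hs : (I.support : Set X) = (U : Set X)ᶜ ∪ {x} := by
    rw [Scheme.IdealSheafData.coe_support_vanishingIdeal]
    rfl
  let B := ClSub.idealMod I
  let ι : B ⟶ Coh.structureModule X := ClSub.idealModι I
  have : Mono ι := inferInstanceAs (Mono (kernel.ι (ClSub.toSubscheme I)))
  have hV : U ⊔ V = ⊤ := eq_top_iff.2 fun y _ => by
    by_cases hy : y = x
    · exact Opens.mem_sup.2 (.inl (hy ▸ hxU))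
    · exact Opens.mem_sup.2 (.inr hy)
  have hsub : Subsingleton (Hc ((abF X).obj B) 1 (U ⊔ V)) := by
    rw [hV]; exact h B ι inferInstance (M2.isQCoh_idealMod I)
  obtain ⟨a₀, ha₀⟩ := M2.exists_idealIncl_eq I (1 : Γ(X, U ⊓ V))
    (subschemeι_app_eq_zero_of_disjoint I (Set.disjoint_left.2 fun y hy hy' => by
      rw [hs] at hy'
      exact hy'.elim (fun h' => h' hy.1) hy.2) _)
  obtain ⟨a', b', hab⟩ := mv_diff (F := (abF X).obj B) (U := U) (V := V)
    ((hc0 _ _).symm a₀) (@Subsingleton.elim _ hsub _ _)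
  let a : Γ(X, U) := M2.idealIncl I (hc0 ((abF X).obj B) U a')
  let b : Γ(X, V) := M2.idealIncl I (hc0 ((abF X).obj B) V b')
  have key : X.presheaf.map (homOfLE (inf_le_left : U ⊓ V ≤ U)).op a -
      X.presheaf.map (homOfLE (inf_le_right : U ⊓ V ≤ V)).op b = 1 := by
    rw [← ha₀, ← M2.idealIncl_res, ← M2.idealIncl_res, sub_eq_iff_eq_add, ← M2.idealIncl_add]
    congr 1
    have e := congrArg (hc0 ((abF X).obj B) (U ⊓ V)) hab
    rw [map_sub, hc0_rs, hc0_rs, AddEquiv.apply_symm_apply, sub_eq_iff_eq_add] at e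
    exact e
  let O := (abF X).obj (Coh.structureModule X)
  obtain ⟨w, hwU, hwV⟩ := mv_glue (F := O) (U := U) (V := V) ((hc0 O U).symm (1 - a : Γ(X, U)))
    ((hc0 O V).symm (-b : Γ(X, V))) ((hc0 O _).injective (by
      rw [hc0_rs, hc0_rs, AddEquiv.apply_symm_apply, AddEquiv.apply_symm_apply]
      change X.presheaf.map (homOfLE (inf_le_left : U ⊓ V ≤ U)).op (1 - a) =
        X.presheaf.map (homOfLE (inf_le_right : U ⊓ V ≤ V)).op (-b)
      rw [map_sub, map_one, map_neg, ← key]
      abel))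
  let f : Γ(X, ⊤) := X.presheaf.map (homOfLE hV.ge).op (hc0 O (U ⊔ V) w)
  have hfU : X.presheaf.map (homOfLE (le_top : U ≤ ⊤)).op f = 1 - a := by
    have e := congrArg (hc0 O U) hwU
    rw [hc0_rs, AddEquiv.apply_symm_apply] at e
    refine Eq.trans ?_ e
    exact (ConcreteCategory.comp_apply (X.presheaf.map _) (X.presheaf.map _) _).symm.trans
      (by rw [← Functor.map_comp]; rfl)
  have hfV : X.presheaf.map (homOfLE (le_top : V ≤ ⊤)).op f = -b := by
    have e := congrArg (hc0 O V) hwV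
    rw [hc0_rs, AddEquiv.apply_symm_apply] at e
    refine Eq.trans ?_ e
    exact (ConcreteCategory.comp_apply (X.presheaf.map _) (X.presheaf.map _) _).symm.trans
      (by rw [← Functor.map_comp]; rfl)
  refine ⟨f, ?_, fun y hy => ?_⟩
  · have hxa : x ∉ X.basicOpen a := notMem_basicOpen_of_app_eq_zero I
      (M2.subschemeι_app_idealIncl I _) (by rw [← SetLike.mem_coe, hs]; exact .inr rfl)
    have h1 : x ∈ X.basicOpen (1 - a) := by
      rw [Scheme.mem_basicOpen _ _ _ hxU, map_sub, map_one]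
      exact (IsLocalRing.isUnit_or_isUnit_one_sub_self _).resolve_left fun hu =>
        hxa ((Scheme.mem_basicOpen _ _ _ hxU).2 hu)
    rw [← hfU, Scheme.basicOpen_res] at h1
    exact h1.2
  · by_contra hyU
    have hyV : y ∈ V := fun e => hyU ((Set.mem_singleton_iff.1 e).symm ▸ hxU)
    have h1 : y ∈ X.basicOpen (-b) := by
      rw [← hfV, Scheme.basicOpen_res]
      exact ⟨hyV, hy⟩
    refine notMem_basicOpen_of_app_eq_zero I (s := b) (y := y) (M2.subschemeι_app_idealIncl I _)
      (by rw [← SetLike.mem_coe, hs]; exact .inl hyU) ?_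
    rw [Scheme.mem_basicOpen _ _ _ hyV] at h1 ⊢
    rwa [map_neg, IsUnit.neg_iff] at h1

/-- All quasi-coherent submodules have vanishing `H¹`. -/
def SubH1Van (M : X.Modules) : Prop :=
  ∀ (F : X.Modules) (i : F ⟶ M), Mono i → Coh.IsQCoh F → Subsingleton (Hc ((abF X).obj F) 1 ⊤)

theorem SubH1Van.zero {M : X.Modules} (hM : IsZero M) : SubH1Van M := fun F i _ _ => by
  have hF : IsZero ((abF X).obj F) := (abF X).map_isZero (IsZero.of_mono i hM)
  refine subsingleton_of_forall_eq 0 fun c => ?_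
  rw [← mp_id ((abF X).obj F) 1 ⊤ c, hF.eq_of_src (𝟙 _) 0, mp_zero]

theorem SubH1Van.biprod {A B : X.Modules} (hA : SubH1Van A) (hB : SubH1Van B) (hBq : Coh.IsQCoh B) :
    SubH1Van (A ⊞ B) := fun F i _ hF => by
  let g : F ⟶ B := i ≫ biprod.snd
  let S : ShortComplex X.Modules := ShortComplex.mk (kernel.ι g) (Abelian.factorThruImage g)
    (by rw [← cancel_mono (Abelian.image.ι g), Category.assoc, Abelian.image.fac, zero_comp, kernel.condition])
  have hS : S.ShortExact :=
    { exact := ShortComplex.exact_of_f_is_kernel _ (KernelFork.IsLimit.ofι _ _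
        (fun φ hφ => kernel.lift g φ (by rw [← Abelian.image.fac g, ← Category.assoc, hφ, zero_comp]))
        (fun φ hφ => kernel.lift_ι _ _ _) fun φ hφ m hm => by
          rw [← cancel_mono (kernel.ι g), kernel.lift_ι]; exact hm) }
  have hSab := shortExact_abF hS
  have hm : Mono (kernel.ι g ≫ i ≫ biprod.fst) := by
    refine Preadditive.mono_of_cancel_zero _ fun {T} φ hφ => ?_
    have h1 : φ ≫ kernel.ι g ≫ i = 0 := biprod.hom_ext _ _ (by simpa using hφ) (by
      simp only [Category.assoc, zero_comp]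
      rw [show kernel.ι g ≫ i ≫ biprod.snd = 0 from kernel.condition g, comp_zero])
    rw [← Category.assoc] at h1
    exact (cancel_mono (kernel.ι g)).1 ((zero_of_comp_mono i h1).trans zero_comp.symm)
  have h1 := hA (kernel g) _ hm (M1.isQCoh_kernel hF hBq g)
  have h3 := hB (Abelian.image g) (Abelian.image.ι g) inferInstance
    (M1.isQCoh_kernel hBq (M1.isQCoh_cokernel hF hBq g) _)
  refine subsingleton_of_forall_eq 0 fun c => ?_
  obtain ⟨c₁, rfl⟩ := exact₂ hSab 1 ⊤ c (@Subsingleton.elim _ h3 _ _)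
  exact (congrArg _ (@Subsingleton.elim _ h1 c₁ 0)).trans (map_zero _)

/-- The ideal of finitely many functions without common zero, covered by a module with vanishing. -/
theorem exists_subH1Van_hom (h : H1IdealVan X) : ∀ (n : ℕ) (f : Fin n → Γ(X, ⊤)),
    ∃ (P : X.Modules) (φ : P ⟶ Coh.structureModule X), Coh.IsQCoh P ∧ SubH1Van P ∧
      (∀ s : Γ(P, ⊤), (φ.app ⊤ s : Γ(X, ⊤)) ∈ Ideal.span (Set.range f)) ∧
      ∀ (i : Fin n), ∃ s : Γ(P, ⊤), φ.app ⊤ s = f i := by
  intro n
  induction n with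
  | zero =>
    intro f
    refine ⟨kernel (𝟙 (Coh.structureModule X)), 0,
      M1.isQCoh_isZero (isZero_kernel_of_mono _), SubH1Van.zero (isZero_kernel_of_mono _), fun s => ?_,
      fun i => i.elim0⟩
    exact zero_mem (Ideal.span (Set.range f))
  | succ n ih =>
    intro f
    obtain ⟨P, φ, hP, hv, hr, hs⟩ := ih fun i => f i.succ
    let ψ : Coh.structureModule X ⊞ P ⟶ Coh.structureModule X :=
      biprod.desc (M1.secHom (M := Coh.structureModule X) (f 0)) φ
    refine ⟨Coh.structureModule X ⊞ P, ψ,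
      M1.isQCoh_biprod (M1.isQCoh_structureModule X) hP, SubH1Van.biprod h hv hP, fun s => ?_,
      fun i => ?_⟩
    · let r : Γ(X, ⊤) := (biprod.fst : Coh.structureModule X ⊞ P ⟶ _).app ⊤ s
      let t : Γ(P, ⊤) := (biprod.snd : Coh.structureModule X ⊞ P ⟶ _).app ⊤ s
      have e : ψ.app ⊤ s = (M1.secHom (M := Coh.structureModule X) (f 0)).app ⊤ r + φ.app ⊤ t := by
        rw [show ψ = biprod.fst ≫ M1.secHom (M := Coh.structureModule X) (f 0) + biprod.snd ≫ φ from
          biprod.desc_eq]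
        rfl
      rw [e]
      refine Ideal.add_mem (Ideal.span (Set.range f)) ?_ ?_
      · have e' : ((M1.secHom (M := Coh.structureModule X) (f 0)).app ⊤ r : Γ(X, ⊤)) = r * f 0 :=
          (Twist.secHom_app (M := Coh.structureModule X) (f 0) ⊤ r).trans
            (congrArg (r * ·) (M1.mres_id (Coh.structureModule X) le_rfl (f 0)))
        rw [e']
        exact Ideal.mul_mem_left _ _ (Ideal.subset_span ⟨0, rfl⟩)
      · exact Ideal.span_mono (by rintro _ ⟨i, rfl⟩; exact ⟨i.succ, rfl⟩) (hr t)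
    · induction i using Fin.cases with
      | zero =>
        refine ⟨(biprod.inl : _ ⟶ Coh.structureModule X ⊞ P).app ⊤ (M1.one ⊤), ?_⟩
        rw [← M1.comp_app_apply, biprod.inl_desc]
        exact M1.secHom_app_one _
      | succ i =>
        obtain ⟨s, hs⟩ := hs i
        refine ⟨(biprod.inr : P ⟶ Coh.structureModule X ⊞ P).app ⊤ s, ?_⟩
        rw [← M1.comp_app_apply, biprod.inr_desc]
        exact hs

/-- Functions without common zero generate the unit ideal. -/
theorem span_eq_top_of_h1 (h : H1IdealVan X) {n : ℕ} (f : Fin n → Γ(X, ⊤))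
    (hf : ∀ y : X, ∃ i, y ∈ X.basicOpen (f i)) : Ideal.span (Set.range f) = ⊤ := by
  obtain ⟨P, φ, hP, hv, hr, hs⟩ := exists_subH1Van_hom h n f
  have : Epi φ := by
    refine (M1.epi_iff_locally_surjective _).mpr fun U t y hy => ?_
    obtain ⟨i, hi⟩ := hf y
    obtain ⟨s, hs⟩ := hs i
    let W : X.Opens := U ⊓ X.basicOpen (f i)
    have hu : IsUnit (M1.rs W (f i)) := M1.isUnit_rs inf_le_right
    obtain ⟨c, hc⟩ := hu.exists_left_inv
    refine ⟨W, inf_le_left, ⟨hy, hi⟩,
      (X.presheaf.map (homOfLE (inf_le_left : W ≤ U)).op (show Γ(X, U) from t) * c) •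
        M1.mres P (le_top : W ≤ ⊤) s, ?_⟩
    rw [Scheme.Modules.Hom.app_smul, M1.app_mres, hs]
    exact (mul_assoc (X.presheaf.map (homOfLE (inf_le_left : W ≤ U)).op (show Γ(X, U) from t)) c (M1.rs W (f i))).trans
      ((congrArg _ hc).trans (mul_one _))
  let S : ShortComplex X.Modules := ShortComplex.mk (kernel.ι φ) φ (kernel.condition φ)
  have hS : S.ShortExact := { exact := ShortComplex.exact_kernel φ }
  have h1 := hv (kernel φ) (kernel.ι φ) inferInstance (M1.isQCoh_kernel hP (M1.isQCoh_structureModule X) φ)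
  let O := (abF X).obj (Coh.structureModule X)
  obtain ⟨w, hw⟩ := exact₃ (shortExact_abF hS) 0 ⊤ ((hc0 O ⊤).symm (M1.one ⊤))
    (@Subsingleton.elim _ h1 _ _)
  rw [Ideal.eq_top_iff_one]
  have e : φ.app ⊤ (hc0 ((abF X).obj P) ⊤ w) = M1.one ⊤ :=
    (hc0_mp ((abF X).map φ) ⊤ w).symm.trans
      ((congrArg (hc0 O ⊤) hw).trans ((hc0 O ⊤).apply_symm_apply _))
  have := hr (hc0 ((abF X).obj P) ⊤ w)
  rw [e] at this
  exact this

/-- **Serre's criterion**: a quasi-compact scheme whose quasi-coherent ideals have no `H¹` is affine. -/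
theorem isAffine_of_h1IdealVan [CompactSpace X] (h : H1IdealVan X) : IsAffine X := by
  classical
  let s : Set Γ(X, ⊤) := {f | IsAffineOpen (X.basicOpen f)}
  have hcov : ∀ y : X, ∃ f ∈ s, y ∈ X.basicOpen f := by
    by_contra hne
    push Not at hne
    obtain ⟨y, hy⟩ := hne
    let Ω : X.Opens := ⨆ f : s, X.basicOpen f.1
    have hyΩ : y ∈ (Ω : Set X)ᶜ := fun hm => by
      obtain ⟨f, hf⟩ := Opens.mem_iSup.1 hm
      exact hy f.1 f.2 hf
    obtain ⟨x, hxΩ, hxc⟩ := Ω.isOpen.isClosed_compl.exists_closed_singleton ⟨y, hyΩ⟩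
    obtain ⟨U, hU, hxU, -⟩ := exists_isAffineOpen_mem_and_subset (x := x) (U := ⊤) trivial
    obtain ⟨f, hxf, hfU⟩ := exists_basicOpen_le_of_h1 h hxc hxU
    refine hxΩ (Opens.mem_iSup.2 ⟨⟨f, ?_⟩, hxf⟩)
    have := hU.basicOpen (X.presheaf.map (homOfLE le_top).op f)
    rwa [Scheme.basicOpen_res, inf_eq_right.2 hfU] at this
  obtain ⟨T, hT⟩ := isCompact_univ.elim_finite_subcover (fun f : s => (X.basicOpen f.1 : Set X))
    (fun f => (X.basicOpen f.1).isOpen) fun y _ => by
      obtain ⟨f, hf, hyf⟩ := hcov y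
      exact Set.mem_iUnion.2 ⟨⟨f, hf⟩, hyf⟩
  let e := T.equivFin.symm
  have hsp := span_eq_top_of_h1 h (fun i => (e i).1.1) fun y => by
    obtain ⟨f, hf, hyf⟩ := Set.mem_iUnion₂.1 (hT (Set.mem_univ y))
    exact ⟨T.equivFin ⟨f, hf⟩, by simpa [e] using hyf⟩
  exact isAffine_of_isAffineOpen_basicOpen (Set.range fun i => (e i).1.1) hsp
    (by rintro _ ⟨i, rfl⟩; exact (e i).1.2)

end Groth.Agent.CohFound
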