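import Groth.Agent.Lib.CohFound.DevissageModel
import Groth.Agent.Lib.CohFound.SerreAffine
import Groth.Agent.Lib.CohFound.SerreVan
import Groth.Agent.Lib.CohFound.AffMor
import Groth.Agent.Lib.ModM1.Ann
import Groth.Agent.Lib.TensorMod.IdealMod
import Groth.Agent.Lib.EffCartier.Comap
import Groth.Agent.Lib.Cyc26.PushFin

/-!
# Chevalley's theorem: images of affine schemes under finite surjective morphisms are affine
-/

set_option autoImplicit false

universe u

open CategoryTheory Limits AlgebraicGeometry TopologicalSpace Opposite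

namespace Groth.Agent.CohFound

variable {X : Scheme.{u}}

/-- Coherent modules without cohomology in positive degrees. -/
def Acyclic (M : X.Modules) : Prop := ∀ p : ℕ, 0 < p → Subsingleton (Hc ((abF X).obj M) p ⊤)

theorem Acyclic.of_isZero {M : X.Modules} (hM : IsZero M) : Acyclic M := fun p _ => by
  have hF : IsZero ((abF X).obj M) := (abF X).map_isZero hM
  refine subsingleton_of_forall_eq 0 fun c => ?_
  rw [← mp_id ((abF X).obj M) p ⊤ c, hF.eq_of_src (𝟙 _) 0, mp_zero]

theorem Acyclic.of_iso {M N : X.Modules} (e : M ≅ N) (h : Acyclic M) : Acyclic N :=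
  fun p hp => subsingleton_hc_of_iso e p ⊤ (h p hp)

theorem Acyclic.mid {S : ShortComplex X.Modules} (hS : S.ShortExact) (h₁ : Acyclic S.X₁) (h₃ : Acyclic S.X₃) :
    Acyclic S.X₂ := fun p hp => by
  refine subsingleton_of_forall_eq 0 fun c => ?_
  obtain ⟨c₁, rfl⟩ := exact₂ (shortExact_abF hS) p ⊤ c (@Subsingleton.elim _ (h₃ p hp) _ _)
  exact (congrArg _ (@Subsingleton.elim _ (h₁ p hp) c₁ 0)).trans (map_zero _)

theorem Acyclic.right {S : ShortComplex X.Modules} (hS : S.ShortExact) (h₁ : Acyclic S.X₁) (h₂ : Acyclic S.X₂) :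
    Acyclic S.X₃ := fun p hp => by
  refine subsingleton_of_forall_eq 0 fun c => ?_
  obtain ⟨c₂, rfl⟩ := exact₃ (shortExact_abF hS) p ⊤ c (@Subsingleton.elim _ (h₁ (p + 1) (by omega)) _ _)
  exact (congrArg _ (@Subsingleton.elim _ (h₂ p hp) c₂ 0)).trans (map_zero _)

theorem Acyclic.of_retract {M N : X.Modules} (i : N ⟶ M) (r : M ⟶ N) (h : i ≫ r = 𝟙 N) (hM : Acyclic M) :
    Acyclic N := fun p hp => by
  refine subsingleton_of_forall_eq 0 fun c => ?_
  rw [← mp_id ((abF X).obj N) p ⊤ c, ← CategoryTheory.Functor.map_id, ← h, Functor.map_comp, mp_comp]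
  exact (congrArg _ (@Subsingleton.elim _ (hM p hp) (mp ((abF X).map i) p ⊤ c) 0)).trans (map_zero _)

theorem acyclic_push_of_isAffine {W : Scheme.{u}} [IsAffine W] (h : W ⟶ X) [IsAffineHom h] (N : W.Modules)
    (hN : Coh.IsQCoh N) : Acyclic ((Scheme.Modules.pushforward h).obj N) := fun p hp => by
  have := hN
  obtain ⟨q, rfl⟩ := Nat.exists_eq_succ_of_ne_zero hp.ne'
  obtain ⟨e⟩ := nonempty_hc_push_isAffineHom h N (q + 1) ⊤
  exact @Equiv.subsingleton _ _ e.toEquiv (subsingleton_hc_isAffineOpen N (isAffineOpen_top W) q)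

/-- A morphism bijective at `η` transports acyclicity when pieces away from `η` are acyclic. -/
theorem Acyclic.of_bijective [IsNoetherian X] {Z : Closeds X} {η : X} (hsmall : SmallOK Acyclic Z η)
    {K G : X.Modules} (φ : K ⟶ G) (hK : Coh.IsCoh K) (hG : Coh.IsCoh G) (hKZ : CohB1.support K ⊆ Z)
    (hGZ : CohB1.support G ⊆ Z) (hinj : Function.Injective (stL φ η))
    (hsurj : Function.Surjective (stL φ η)) (h : Acyclic K) : Acyclic G := by
  have hC : Coh.IsCoh (cokernel φ) := M1.isCoh_cokernel hK.1 hG φ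
  have hker : Coh.IsCoh (kernel φ) := M1.isCoh_kernel hK hG.1 φ
  let S : ShortComplex X.Modules := ShortComplex.mk (kernel.ι φ) (Abelian.factorThruImage φ)
    (by rw [← cancel_mono (Abelian.image.ι φ), Category.assoc, Abelian.image.fac, zero_comp, kernel.condition])
  have hS : S.ShortExact :=
    { exact := ShortComplex.exact_of_f_is_kernel _ (KernelFork.IsLimit.ofι _ _
        (fun a ha => kernel.lift φ a (by rw [← Abelian.image.fac φ, ← Category.assoc, ha, zero_comp]))
        (fun a ha => kernel.lift_ι _ _ _) fun a ha m hm => by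
          rw [← cancel_mono (kernel.ι φ), kernel.lift_ι]; exact hm) }
  have hI : Acyclic (Abelian.image φ) := Acyclic.right hS
    (hsmall _ hker ((support_subset_of_mono (kernel.ι φ)).trans hKZ) (notMem_support_kernel φ η hinj)) h
  have hS₂ : (ShortComplex.mk (Abelian.image.ι φ) (cokernel.π φ) (kernel.condition _)).ShortExact :=
    { exact := ShortComplex.exact_kernel (cokernel.π φ) }
  exact Acyclic.mid hS₂ hI (hsmall _ hC ((support_subset_of_epi (cokernel.π φ)).trans hGZ)
    ((notMem_support_cokernel_iff φ η).2 hsurj))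

/-- A submodule with acyclic source agreeing at `η`. -/
theorem exists_acyclic_hom [IsNoetherian X] {W : Scheme.{u}} [IsAffine W] (h : W ⟶ X) [IsFinite h]
    {K : X.Modules} (hK : Coh.IsCoh K) (a : K ⟶ (Scheme.Modules.pushforward h).obj (Coh.structureModule W))
    {η : X} (hsurj : Function.Surjective (stL a η)) :
    ∃ (A : X.Modules) (μ : A ⟶ (Scheme.Modules.pushforward h).obj (Coh.structureModule W)),
      Mono μ ∧ Coh.IsCoh A ∧ Acyclic A ∧ μ ≫ cokernel.π a = 0 ∧ Function.Surjective (stL μ η) := by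
  have : IsLocallyNoetherian W := LocallyOfFiniteType.isLocallyNoetherian h
  let G := (Scheme.Modules.pushforward h).obj (Coh.structureModule W)
  have hG : Coh.IsCoh G := Cyc26.isCoh_push_finite h (M1.isCoh_structureModule W)
  let C := cokernel a
  have hC : Coh.IsCoh C := M1.isCoh_cokernel hK.1 hG a
  let J := M1.annSheaf hC.1 hC.2
  let B := J.comap h
  let N := ClSub.idealMod B
  let ι : N ⟶ Coh.structureModule W := ClSub.idealModι B
  have : Mono ι := inferInstanceAs (Mono (kernel.ι (ClSub.toSubscheme B)))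
  have hN : Coh.IsCoh N :=
    M1.isCoh_of_mono ι (M1.isCoh_structureModule W) (M2.isQCoh_idealMod B)
  let μ := (Scheme.Modules.pushforward h).map ι
  have : Mono μ := inferInstance
  have hA : Coh.IsCoh ((Scheme.Modules.pushforward h).obj N) := Cyc26.isCoh_push_finite h hN
  have hzero : μ ≫ cokernel.π a = 0 := by
    refine Scheme.Modules.hom_ext _ _ fun U => ?_
    ext s
    refine M1.section_ext _ _ fun x hx => ?_
    obtain ⟨V, hV, hxV, hVU⟩ := exists_isAffineOpen_mem_and_subset (X := X) (x := x) (U := U) hx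
    rw [← M1.germ_mres C hVU hxV, ← M1.germ_mres C hVU hxV (((0 : (Scheme.Modules.pushforward h).obj N ⟶ C)).app U s),
      ← M1.app_mres, ← M1.app_mres]
    refine congrArg _ ?_
    let t : Γ(N, h ⁻¹ᵁ V) := M1.mres ((Scheme.Modules.pushforward h).obj N) hVU s
    have ht : M2.idealIncl B t ∈ (J.ideal ⟨V, hV⟩).map (h.app V).hom := by
      have := (M2.range_idealIncl B ⟨h ⁻¹ᵁ V, hV.preimage h⟩).le ⟨t, rfl⟩
      rwa [EffCartier.comap_ideal J h ⟨V, hV⟩ ⟨h ⁻¹ᵁ V, hV.preimage h⟩ le_rfl,
        Scheme.Hom.appLE_eq_app] at this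
    change (cokernel.π a).app V (show Γ(G, V) from M2.idealIncl B t) = 0
    have key : ∀ w : Γ(W, h ⁻¹ᵁ V), w ∈ (J.ideal ⟨V, hV⟩).map (h.app V).hom → ∀ c : Γ(W, h ⁻¹ᵁ V),
        (cokernel.π a).app V (show Γ(G, V) from c * w) = 0 := by
      intro w hw
      induction hw using Submodule.span_induction with
      | mem w hw =>
        intro c
        obtain ⟨j, hj, rfl⟩ := hw
        have e : (show Γ(G, V) from c * h.app V j) = j • (show Γ(G, V) from c) := mul_comm c (h.app V j)
        refine (congrArg ((cokernel.π a).app V) e).trans ?_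
        rw [Scheme.Modules.Hom.app_smul]
        exact Module.mem_annihilator.1 hj _
      | zero =>
        intro c
        rw [mul_zero]
        exact map_zero _
      | add u v _ _ hu hv =>
        intro c
        rw [mul_add]
        exact (map_add ((cokernel.π a).app V).hom (show Γ(G, V) from c * u) (show Γ(G, V) from c * v)).trans
          ((congrArg₂ (· + ·) (hu c) (hv c)).trans (add_zero _))
      | smul d w _ hw =>
        intro c
        rw [smul_eq_mul, ← mul_assoc]
        exact hw (c * d)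
    have h1 := key _ ht 1
    rw [one_mul] at h1
    exact h1
  refine ⟨_, μ, inferInstance, hA, acyclic_push_of_isAffine h N hN.1, hzero, fun g => ?_⟩
  have hη : η ∉ (J.support : Set X) := by
    rw [M1.support_annSheaf hC.1 hC.2]
    exact (notMem_support_cokernel_iff a η).2 hsurj
  obtain ⟨U₀, hU₀, m, rfl⟩ := G.presheaf.exists_germ_eq g
  obtain ⟨V, hV, hηV, hVU⟩ := exists_isAffineOpen_mem_and_subset (X := X) (x := η) (U := U₀) hU₀
  obtain ⟨j, hj, hju⟩ : ∃ j ∈ J.ideal ⟨V, hV⟩, η ∈ X.basicOpen j := by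
    by_contra hne
    push Not at hne
    refine hη ?_
    have : η ∈ X.zeroLocus (U := V) (J.ideal ⟨V, hV⟩ : Set Γ(X, V)) := by
      rw [Scheme.mem_zeroLocus_iff]
      exact fun f hf => hne f hf
    exact ((J.mem_support_iff_of_mem (U := ⟨V, hV⟩) hηV).2 this)
  let m' : Γ(W, h ⁻¹ᵁ V) := M1.mres G hVU m
  have hmem : h.app V j * m' ∈ B.ideal ⟨h ⁻¹ᵁ V, hV.preimage h⟩ := by
    rw [EffCartier.comap_ideal J h ⟨V, hV⟩ ⟨h ⁻¹ᵁ V, hV.preimage h⟩ le_rfl, Scheme.Hom.appLE_eq_app]
    exact Ideal.mul_mem_right _ _ (Ideal.mem_map_of_mem _ hj)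
  obtain ⟨n, hn⟩ := (M2.range_idealIncl B ⟨h ⁻¹ᵁ V, hV.preimage h⟩).ge hmem
  obtain ⟨v, hv⟩ := ((X.mem_basicOpen j η hηV).1 hju).exists_left_inv
  refine ⟨v • ((Scheme.Modules.pushforward h).obj N).presheaf.germ V η hηV n, ?_⟩
  rw [map_smul, stL_germ]
  have e : μ.app V n = j • (show Γ(G, V) from m') := hn
  rw [e, M1.germ_smul, ← mul_smul, hv, one_smul]
  exact M1.germ_mres G hVU hηV m

/-- Acyclicity of coherent modules. -/
theorem acyclic_of_finite_surjective [IsNoetherian X] {Y : Scheme.{u}} (f : Y ⟶ X) [IsFinite f]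
    [Surjective f] [IsAffine Y] {M : X.Modules} (hM : Coh.IsCoh M) : Acyclic M := by
  classical
  refine holds_of_cyclic (Z₀ := Set.univ) (fun M _ hM => Acyclic.of_isZero hM)
    (fun S hS _ _ _ _ h₁ h₃ => Acyclic.mid hS h₁ h₃) ?_ hM (Set.subset_univ _)
  intro Z η hη _ hsmall Q hQ hQZ q hq hqm hgen
  obtain ⟨Z', i, hi, hZ', hr, hξ, -⟩ := exists_integral_point η
  subst hξ
  let h : pullback f i ⟶ X := pullback.snd f i ≫ i
  have : IsAffine (pullback f i) := isAffine_of_isAffineHom (pullback.fst f i)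
  have : IsFinite h := inferInstance
  have : IsLocallyNoetherian (pullback f i) := LocallyOfFiniteType.isLocallyNoetherian h
  let η := i (genericPoint Z')
  let G := (Scheme.Modules.pushforward h).obj (Coh.structureModule (pullback f i))
  have hG : Coh.IsCoh G := Cyc26.isCoh_push_finite h (M1.isCoh_structureModule _)
  have hrange : Set.range h ⊆ (Z : Set X) := by
    rintro _ ⟨w, rfl⟩
    refine hr.le.trans (Z.isClosed.closure_subset_iff.2 (Set.singleton_subset_iff.2 hη)) ?_
    exact ⟨pullback.snd f i w, rfl⟩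
  have hGZ : CohB1.support G ⊆ (Z : Set X) := fun x hx => by
    by_contra hxZ
    refine (M1.notMem_support_iff G x).2 (fun c => ?_) hx
    obtain ⟨U, hxU, s, rfl⟩ := G.presheaf.exists_germ_eq c
    let U' : X.Opens := U ⊓ ⟨(Z : Set X)ᶜ, Z.isClosed.isOpen_compl⟩
    have e : h ⁻¹ᵁ U' = ⊥ := le_bot_iff.1 fun w hw => hw.2 (hrange ⟨w, rfl⟩)
    have hsub : Subsingleton Γ(pullback f i, h ⁻¹ᵁ U') := by rw [e]; infer_instance
    rw [← M1.germ_mres G (inf_le_left : U' ≤ U) ⟨hxU, hxZ⟩]
    exact (congrArg _ (@Subsingleton.elim _ hsub _ (0 : Γ(pullback f i, h ⁻¹ᵁ U')))).trans (map_zero _)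
  have hkill : ∀ c ∈ IsLocalRing.maximalIdeal (X.presheaf.stalk η), ∀ b : G.presheaf.stalk η, c • b = 0 := by
    intro c hc b
    refine M1.smul_stalk_eq_zero i G hG.1 (fun U a ha s => ?_) (genericPoint Z') c (stalkMap_eq_zero i hc) b
    have ha' : i.app U.1 a = 0 := RingHom.mem_ker.1 (by rwa [Scheme.Hom.ker_apply] at ha)
    have hh : h.app U.1 a = 0 :=
      (ConcreteCategory.congr_hom (Scheme.Hom.comp_app (pullback.snd f i) i U.1) a).trans
        ((congrArg ((pullback.snd f i).app (i ⁻¹ᵁ U.1)) ha').trans (map_zero _))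
    change h.app U.1 a • (show Γ(Coh.structureModule (pullback f i), h ⁻¹ᵁ U.1) from s) = 0
    rw [hh, zero_smul]
  obtain ⟨y, hy⟩ := (pullback.snd f i).surjective (genericPoint Z')
  have hyη : h y = η := congrArg i hy
  let g₀ : G.presheaf.stalk η := G.presheaf.germ ⊤ η trivial (show Γ(G, ⊤) from (1 : Γ(pullback f i, h ⁻¹ᵁ ⊤)))
  have hg₀ : g₀ ≠ 0 := fun h0 => by
    obtain ⟨U, hU, i₁, i₂, he⟩ := G.presheaf.germ_eq η (U := ⊤) (V := ⊤) trivial trivial _ (0 : Γ(G, ⊤))
      (h0.trans (map_zero _).symm)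
    have hyU : y ∈ h ⁻¹ᵁ U := show h y ∈ U from hyη ▸ hU
    have e1 : (1 : Γ(pullback f i, h ⁻¹ᵁ U)) = 0 := by
      refine ((map_one ((pullback f i).presheaf.map (homOfLE (show h ⁻¹ᵁ U ≤ h ⁻¹ᵁ ⊤ from fun _ _ => trivial)).op).hom).symm.trans ?_)
      exact he.trans (map_zero _)
    have e2 := congrArg ((pullback f i).presheaf.germ (h ⁻¹ᵁ U) y hyU) e1
    rw [map_one, map_zero] at e2
    exact one_ne_zero e2
  have : Module.Finite (X.presheaf.stalk η) (G.presheaf.stalk η) := M1.finite_stalk hG.1 hG.2 η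
  obtain ⟨r, e, hr0, hspan, hindep⟩ := exists_residue_basis hkill g₀ hg₀
  have hQm : ∀ c ∈ IsLocalRing.maximalIdeal (X.presheaf.stalk η), ∀ b : Q.presheaf.stalk η, c • b = 0 :=
    fun c hc b => by obtain ⟨d, rfl⟩ := hgen b; rw [smul_comm, hqm c hc, smul_zero]
  have : HasFiniteBiproducts X.Modules := Abelian.hasFiniteBiproducts
  let fam : Fin r → X.Modules := fun _ => Q
  let T : X.Modules := ⨁ fam
  let ιT (j : Fin r) : Q ⟶ T := biproduct.ι fam j
  let πT (j : Fin r) : T ⟶ Q := biproduct.π fam j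
  have hsum : ∀ (x : X) (b : T.presheaf.stalk x), ∑ j, stL (ιT j) x (stL (πT j) x b) = b := fun x b => by
    have h := congrArg (fun χ => stL χ x b) (biproduct.total (f := fam))
    simp only [stL_sum] at h
    refine Eq.trans (Finset.sum_congr rfl fun j _ => ?_) (h.trans (stL_id _ x b))
    exact (stL_comp (biproduct.π fam j) (biproduct.ι fam j) x b).symm
  have hιπ : ∀ i j (b : Q.presheaf.stalk η), stL (πT j) η (stL (ιT i) η b) = if i = j then b else 0 := by
    intro i j b
    rw [← stL_comp]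
    split_ifs with h
    · subst h
      rw [biproduct.ι_π_self, stL_id]
    · rw [biproduct.ι_π_ne fam h, stL_zero]
  have hT : Coh.IsCoh T := by
    have hF := M1.isFP_of_isFinLocFree (M2.isFinLocFree_of_ofRank (M2.isFinLocFreeOfRank_freeMod X r))
    let e : CohB1.tensorMod (FlatMod.freeMod X r) Q ≅ T :=
      M2.freeModTensorIso X r Q ≪≫ (biproduct.isoCoproduct fam).symm
    exact ⟨M1.isQCoh_of_isIso e (M2.isQCoh_tensor (M1.isFP_isQCoh hF) hQ.1),
      M1.isFT_of_isIso e (M2.isFT_tensor (M1.isFP_isQCoh hF) hQ.1 (M1.isFP_isFT hF) hQ.2)⟩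
  have hTZ : CohB1.support T ⊆ (Z : Set X) := fun x hx => by
    by_contra h
    refine (M1.notMem_support_iff T x).2 (fun c => ?_) hx
    rw [← hsum x c]
    exact Finset.sum_eq_zero fun j _ =>
      (congrArg (stL (ιT j) x) ((M1.notMem_support_iff Q x).1 (fun h' => h (hQZ h')) _)).trans (map_zero _)
  let E := G ⊞ T
  have hE : Coh.IsCoh E := M1.isCoh_biprod hG hT
  have hfst : ∀ b, stL (biprod.fst : E ⟶ G) η (stL biprod.inl η b) = b := fun b => by
    rw [← stL_comp, biprod.inl_fst, stL_id]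
  have hsnd : ∀ b, stL (biprod.snd : E ⟶ T) η (stL biprod.inr η b) = b := fun b => by
    rw [← stL_comp, biprod.inr_snd, stL_id]
  have hfst0 : ∀ b, stL (biprod.fst : E ⟶ G) η (stL biprod.inr η b) = 0 := fun b => by
    rw [← stL_comp, biprod.inr_fst, stL_zero]
  have hsnd0 : ∀ b, stL (biprod.snd : E ⟶ T) η (stL biprod.inl η b) = 0 := fun b => by
    rw [← stL_comp, biprod.inl_snd, stL_zero]
  have hEsum : ∀ (x : X) (b : E.presheaf.stalk x),
      stL biprod.inl x (stL (biprod.fst : E ⟶ G) x b) +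
        stL biprod.inr x (stL (biprod.snd : E ⟶ T) x b) = b := fun x b => by
    rw [← stL_comp, ← stL_comp, ← stL_add, biprod.total, stL_id]
  have hEZ : CohB1.support E ⊆ (Z : Set X) := fun x hx => by
    by_contra h
    refine (M1.notMem_support_iff E x).2 (fun c => ?_) hx
    rw [← hEsum x c, (M1.notMem_support_iff G x).1 (fun h' => h (hGZ h')) (stL biprod.fst x c),
      (M1.notMem_support_iff T x).1 (fun h' => h (hTZ h')) (stL biprod.snd x c), map_zero, map_zero, add_zero]
  let w (c : Fin r → X.presheaf.stalk η) : E.presheaf.stalk η :=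
    stL biprod.inl η (∑ j, c j • e j) + stL biprod.inr η (∑ j, stL (ιT j) η (c j • q))
  let N : Submodule (X.presheaf.stalk η) (E.presheaf.stalk η) :=
    { carrier := Set.range w
      zero_mem' := ⟨0, by simp [w]⟩
      add_mem' := by
        rintro _ _ ⟨c, rfl⟩ ⟨d, rfl⟩
        exact ⟨c + d, by simp only [w, Pi.add_apply, add_smul, Finset.sum_add_distrib, map_add]; abel⟩
      smul_mem' := by
        rintro a _ ⟨c, rfl⟩
        exact ⟨a • c, by
          simp only [w, Pi.smul_apply, smul_eq_mul, mul_smul, map_smul, ← Finset.smul_sum, smul_add]⟩ }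
  have hTm : ∀ c ∈ IsLocalRing.maximalIdeal (X.presheaf.stalk η), ∀ b : T.presheaf.stalk η, c • b = 0 :=
    fun c hc b => by
      rw [← hsum η b, Finset.smul_sum]
      exact Finset.sum_eq_zero fun j _ => by rw [← map_smul, hQm c hc, map_zero]
  have hnil : ∀ c ∈ IsLocalRing.maximalIdeal (X.presheaf.stalk η), ∃ L : ℕ,
      ∀ a : E.presheaf.stalk η, c ^ L • a = 0 := fun c hc => ⟨1, fun a => by
    rw [pow_one, ← hEsum η a, smul_add, ← (stL biprod.inl η).map_smul, ← (stL biprod.inr η).map_smul,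
      hkill c hc, hTm c hc, map_zero, map_zero, add_zero]⟩
  let K := cutAt E η N
  let κ := cutι E η N
  have hK : Coh.IsCoh K := isCoh_cutAt E η N hE hnil
  have hKZ : CohB1.support K ⊆ (Z : Set X) := (support_subset_of_mono κ).trans hEZ
  have hrg : ∀ b, ∃ c, stL κ η b = w c := fun b => by
    obtain ⟨c, hc⟩ : stL κ η b ∈ N := (range_stL_cutι E η N).le (LinearMap.mem_range_self _ b)
    exact ⟨c, hc.symm⟩
  have hlift : ∀ c, ∃ b, stL κ η b = w c := fun c => (range_stL_cutι E η N).ge (⟨c, rfl⟩ : w c ∈ N)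
  have hw0 : ∀ c, (∀ j, c j ∈ IsLocalRing.maximalIdeal (X.presheaf.stalk η)) → w c = 0 := fun c hc => by
    simp only [w, hkill _ (hc _), hQm _ (hc _), map_zero, Finset.sum_const_zero, add_zero]
  let a : K ⟶ G := κ ≫ biprod.fst
  let b : K ⟶ T := κ ≫ biprod.snd
  have ha : ∀ u c, stL κ η u = w c → stL a η u = ∑ j, c j • e j := fun u c hc => by
    rw [stL_comp, hc, map_add, hfst, hfst0, add_zero]
  have hb : ∀ u c, stL κ η u = w c → stL b η u = ∑ j, stL (ιT j) η (c j • q) := fun u c hc => by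
    rw [stL_comp, hc, map_add, hsnd, hsnd0, zero_add]
  have hainj : Function.Injective (stL a η) := (injective_iff_map_eq_zero _).2 fun u hu => by
    obtain ⟨c, hc⟩ := hrg u
    rw [ha u c hc] at hu
    exact stL_injective_of_mono κ η (by rw [hc, map_zero, hw0 c (hindep c hu)])
  have hasurj : Function.Surjective (stL a η) := fun v => by
    obtain ⟨c, rfl⟩ := hspan v
    obtain ⟨u, hu⟩ := hlift c
    exact ⟨u, ha u c hu⟩
  have hbinj : Function.Injective (stL b η) := (injective_iff_map_eq_zero _).2 fun u hu => by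
    obtain ⟨c, hc⟩ := hrg u
    rw [hb u c hc] at hu
    refine stL_injective_of_mono κ η ?_
    rw [hc, map_zero, hw0 c fun j => ?_]
    have hj := congrArg (stL (πT j) η) hu
    simp only [map_sum, map_zero, hιπ, Finset.sum_ite_eq', Finset.mem_univ, if_true] at hj
    by_contra hu'
    exact hq ((IsLocalRing.notMem_maximalIdeal.1 hu').smul_eq_zero.1 hj)
  have hbsurj : Function.Surjective (stL b η) := fun v => by
    choose c hc using fun j => hgen (stL (πT j) η v)
    obtain ⟨u, hu⟩ := hlift c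
    refine ⟨u, (hb u c hu).trans ?_⟩
    simp only [hc]
    exact hsum η v
  -- the acyclic source and its preimage in `K`
  obtain ⟨A, μ, hμ, hA, hAac, hμπ, hμs⟩ := exists_acyclic_hom h hK a hasurj
  let π := cokernel.π μ
  have hπ : Coh.IsCoh (cokernel μ) := M1.isCoh_cokernel hA.1 hG μ
  let K' := kernel (a ≫ π)
  let κ' : K' ⟶ K := kernel.ι (a ≫ π)
  have hK' : Coh.IsCoh K' := M1.isCoh_kernel hK hπ.1 _
  have hK'Z : CohB1.support K' ⊆ (Z : Set X) := (support_subset_of_mono κ').trans hKZ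
  have hκ's : Function.Surjective (stL κ' η) := fun u => by
    refine (M1.exact_elem (ShortComplex.exact_kernel (a ≫ π)) η u ?_)
    obtain ⟨v, hv⟩ := hμs (stL a η u)
    change stL (a ≫ π) η u = 0
    rw [stL_comp, ← hv, ← stL_comp, cokernel.condition, stL_zero]
  let ρ : K' ⟶ A := Abelian.monoLift μ (κ' ≫ a) (by rw [Category.assoc]; exact kernel.condition _)
  have hρ : ρ ≫ μ = κ' ≫ a := Abelian.monoLift_comp _ _ _
  have : Epi ρ := by
    rw [M1.epi_iff_stalk]
    intro x v
    have hv : stL (cokernel.π a) x (stL μ x v) = 0 := by rw [← stL_comp, hμπ, stL_zero]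
    obtain ⟨u, hu⟩ := M1.exact_elem (ShortComplex.exact_cokernel a) x _ hv
    obtain ⟨u', hu'⟩ := M1.exact_elem (ShortComplex.exact_kernel (a ≫ π)) x u (by
      change stL (a ≫ π) x u = 0
      refine (stL_comp a π x u).trans ((congrArg (stL π x) (hu : stL a x u = _)).trans ?_)
      rw [← stL_comp, cokernel.condition, stL_zero])
    refine ⟨u', stL_injective_of_mono μ x ?_⟩
    change stL μ x (stL ρ x u') = stL μ x v
    rw [← stL_comp, hρ, stL_comp]
    exact (congrArg (stL a x) hu').trans hu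
  have hkρ : Coh.IsCoh (kernel ρ) := M1.isCoh_kernel hK' hA.1 ρ
  have hρinj : Function.Injective (stL ρ η) := (injective_iff_map_eq_zero _).2 fun u hu => by
    refine stL_injective_of_mono κ' η (hainj ?_)
    rw [map_zero, map_zero, ← stL_comp, ← hρ, stL_comp, hu, map_zero]
  have hK'ac : Acyclic K' := Acyclic.mid (shortExact_kernel ρ)
    (hsmall _ hkρ ((support_subset_of_mono (kernel.ι ρ)).trans hK'Z) (notMem_support_kernel ρ η hρinj)) hAac
  have hTac : Acyclic T := Acyclic.of_bijective hsmall (κ' ≫ b) hK' hT hK'Z hTZ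
    ((injective_iff_map_eq_zero _).2 fun u hu => stL_injective_of_mono κ' η (hbinj (by
      rw [map_zero, map_zero, ← stL_comp, hu])))
    (fun v => by
      obtain ⟨u, rfl⟩ := hbsurj v
      obtain ⟨u', rfl⟩ := hκ's u
      exact ⟨u', stL_comp _ _ _ _⟩) hK'ac
  exact Acyclic.of_retract (ιT ⟨0, hr0⟩) (πT ⟨0, hr0⟩) (biproduct.ι_π_self fam _) hTac

/-- Chevalley's theorem. -/
theorem isAffine_of_finite_surjective {Y : Scheme.{u}} (f : Y ⟶ X) [IsFinite f]
    [Surjective f] [IsAffine Y] [IsNoetherian X] : IsAffine X :=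
  isAffine_of_h1IdealVan fun I i _ hI =>
    acyclic_of_finite_surjective f (M1.isCoh_of_mono i (M1.isCoh_structureModule X) hI) 1 Nat.one_pos

end Groth.Agent.CohFound
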