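import Groth.Agent.Lib.CohFound.RelVan
import Mathlib.AlgebraicGeometry.ZariskisMainTheorem

/-!
# Higher direct images near a finite fibre of a proper morphism
-/

set_option autoImplicit false

universe u

open CategoryTheory TopologicalSpace Opposite CategoryTheory.Limits AlgebraicGeometry

namespace Groth.Agent.CohFound

variable {X Y : Scheme.{u}} (f : X ⟶ Y)

/-- Points of a finite fibre of a morphism of finite type are quasi-finite. -/
theorem quasiFiniteAt_of_finite_fibre [LocallyOfFiniteType f] (x : X)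
    (hy : (f.base ⁻¹' {f x}).Finite) : f.QuasiFiniteAt x := by
  rw [Scheme.Hom.quasiFiniteAt_iff_isOpen_singleton_asFiber]
  have : Finite (f.fiber (f x)) := by
    have : Finite (f ⁻¹' {f x} : Set X) := hy.to_subtype
    exact Finite.of_equiv _ (f.fiberHomeo (f x)).toEquiv.symm
  have : LocallyOfFiniteType (f.fiberToSpecResidueField (f x)) :=
    MorphismProperty.pullback_snd _ _ ‹LocallyOfFiniteType f›
  have : JacobsonSpace (f.fiber (f x)) :=
    LocallyOfFiniteType.jacobsonSpace (f.fiberToSpecResidueField (f x))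
  exact isOpen_discrete _

/-- A proper morphism is affine over a neighbourhood of a point with finite fibre. -/
theorem exists_isAffineOpen_preimage_of_finite_fibre [IsProper f] (y : Y)
    (hy : (f.base ⁻¹' {y}).Finite) : ∃ V : Y.Opens, y ∈ V ∧
      ∀ W : Y.Opens, IsAffineOpen W → W ≤ V → IsAffineOpen (f ⁻¹ᵁ W) := by
  let V : Y.Opens := ⟨(f.base '' (f.quasiFiniteLocus : Set X)ᶜ)ᶜ,
    (f.isClosedMap _ f.quasiFiniteLocus.isOpen.isClosed_compl).isOpen_compl⟩
  have hle : ∀ x : X, f x ∈ V → x ∈ f.quasiFiniteLocus := fun x hx => by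
    by_contra h
    exact hx ⟨x, h, rfl⟩
  refine ⟨V, ?_, fun W hW hWV => ?_⟩
  · rintro ⟨x, hx, rfl⟩
    exact hx (quasiFiniteAt_of_finite_fibre f x hy)
  have : LocallyQuasiFinite (f ∣_ V) := by
    rw [← Scheme.Hom.quasiFiniteLocus_eq_top_iff, eq_top_iff]
    intro x _
    rw [Scheme.Hom.mem_quasiFiniteLocus,
      ← Scheme.Hom.quasiFiniteAt_comp_iff (g := V.ι), morphismRestrict_ι,
      Scheme.Hom.quasiFiniteAt_comp_iff_of_isOpenImmersion]
    exact hle x.1 x.2
  have : IsFinite (f ∣_ V) := IsFinite.of_isProper_of_locallyQuasiFinite _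
  have h : IsAffineOpen ((f ∣_ V) ⁻¹ᵁ (V.ι ⁻¹ᵁ W)) :=
    (hW.preimage_of_isOpenImmersion V.ι (by simpa using hWV)).preimage (f ∣_ V)
  rw [← Scheme.Hom.comp_preimage, morphismRestrict_ι, Scheme.Hom.comp_preimage] at h
  have := h.image_of_isOpenImmersion (f ⁻¹ᵁ V).ι
  rwa [Scheme.Hom.image_preimage_eq_opensRange_inf, Scheme.Opens.opensRange_ι,
    inf_eq_right.2 (fun x hx => hWV hx)] at this

/-- Stalks of higher direct images vanish at points with finite fibre. -/
theorem isZero_stalk_rpushAb_of_finite_fibre [IsProper f] (y : Y) (hy : (f.base ⁻¹' {y}).Finite)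
    {M : X.Modules} (hM : Coh.IsQCoh M) (p : ℕ) (hp : 0 < p) :
    IsZero (TopCat.Presheaf.stalk ((Coh.RpushAb f p).obj (Coh.toAb M)).obj y) := by
  obtain ⟨V, hyV, hV⟩ := exists_isAffineOpen_preimage_of_finite_fibre f y hy
  obtain ⟨q, rfl⟩ := Nat.exists_eq_succ_of_ne_zero hp.ne'
  have : M.IsQuasicoherent := hM
  rw [AddCommGrpCat.isZero_iff_subsingleton]
  refine subsingleton_of_forall_eq 0 fun a => ?_
  obtain ⟨U, hU, s, rfl⟩ := TopCat.Presheaf.exists_germ_eq _ a
  obtain ⟨W, hW, hyW, hWU⟩ := exists_isAffineOpen_mem_and_subset (X := Y) (x := y) (U := U ⊓ V)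
    ⟨hU, hyV⟩
  obtain ⟨e⟩ := nonempty_sections_rpushAb f hM (q + 1) hW
  have hWV : W ≤ V := fun z hz => (hWU hz).2
  have : Subsingleton (((CohTop.Rpush (f.base : sp X ⟶ sp Y) (q + 1)).obj
      ((abF X).obj M)).obj.obj (op (W : Opens (sp Y)))) :=
    @Equiv.subsingleton _ _ e.toEquiv (subsingleton_hc_isAffineOpen M (hV W hW hWV) q)
  have h0 : ((Coh.RpushAb f (q + 1)).obj (Coh.toAb M)).obj.map
      (homOfLE (show (W : Opens Y.toTopCat) ≤ U from fun z hz => (hWU hz).1)).op s = 0 :=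
    @Subsingleton.elim _ this _ _
  exact (TopCat.Presheaf.germ_res_apply _ (homOfLE (fun z hz => (hWU hz).1)) y hyW s).symm.trans
    ((congrArg _ h0).trans (map_zero _))

end Groth.Agent.CohFound
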