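import Groth.Agent.Lib.CohFound.ModQuot
import Groth.Agent.Lib.Curve17.SubSheaf
import Groth.Agent.Lib.ModM1.QcohCrit
import Groth.Agent.Lib.ModM1.FibreProd
import Mathlib.Topology.NoetherianSpace
import Mathlib.RingTheory.Ideal.Operations

/-!
# Stalks as modules over the local ring; coherent submodules cut out at a point
-/

universe u

open CategoryTheory Limits AlgebraicGeometry TopologicalSpace Opposite

namespace Groth.Agent.CohFound

variable {X : Scheme.{u}}

/-- The stalk of a morphism as a linear map. -/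
noncomputable abbrev stL {M N : X.Modules} (φ : M ⟶ N) (x : X) :
    M.presheaf.stalk x →ₗ[X.presheaf.stalk x] N.presheaf.stalk x :=
  Algz.stalkMapₗ φ x

lemma stL_eq {M N : X.Modules} (φ : M ⟶ N) (x : X) (a : M.presheaf.stalk x) :
    stL φ x a = (M1.stalkAb x).map φ a := rfl

lemma stL_germ {M N : X.Modules} (φ : M ⟶ N) {x : X} {U : X.Opens} (hx : x ∈ U) (s : Γ(M, U)) :
    stL φ x (M.presheaf.germ U x hx s) = N.presheaf.germ U x hx (φ.app U s) :=
  M1.germ_naturality φ U x hx s

lemma stL_comp {M N P : X.Modules} (φ : M ⟶ N) (ψ : N ⟶ P) (x : X) (a : M.presheaf.stalk x) :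
    stL (φ ≫ ψ) x a = stL ψ x (stL φ x a) :=
  M1.stalk_comp_apply φ ψ x a

lemma stL_zero {M N : X.Modules} (x : X) (a : M.presheaf.stalk x) : stL (0 : M ⟶ N) x a = 0 := by
  rw [stL_eq, Functor.map_zero]; rfl

lemma stL_id (M : X.Modules) (x : X) (a : M.presheaf.stalk x) : stL (𝟙 M) x a = a := by
  rw [stL_eq, CategoryTheory.Functor.map_id]; rfl

lemma stL_add {M N : X.Modules} (φ ψ : M ⟶ N) (x : X) (a : M.presheaf.stalk x) :
    stL (φ + ψ) x a = stL φ x a + stL ψ x a := by
  rw [stL_eq, Functor.map_add]; rfl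

lemma stL_sum {ι : Type*} (s : Finset ι) {M N : X.Modules} (φ : ι → (M ⟶ N)) (x : X)
    (a : M.presheaf.stalk x) : stL (∑ i ∈ s, φ i) x a = ∑ i ∈ s, stL (φ i) x a := by
  classical
  induction s using Finset.induction_on with
  | empty => rw [Finset.sum_empty, Finset.sum_empty, stL_zero]
  | insert i s hi ih => rw [Finset.sum_insert hi, Finset.sum_insert hi, stL_add, ih]

lemma stL_injective_of_mono {M N : X.Modules} (φ : M ⟶ N) [Mono φ] (x : X) :
    Function.Injective (stL φ x) :=
  (M1.mono_iff_stalk φ).1 inferInstance x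

lemma stL_surjective_of_epi {M N : X.Modules} (φ : M ⟶ N) [Epi φ] (x : X) :
    Function.Surjective (stL φ x) :=
  (M1.epi_iff_stalk φ).1 inferInstance x

lemma support_subset_of_mono {M N : X.Modules} (φ : M ⟶ N) [Mono φ] :
    CohB1.support M ⊆ CohB1.support N := fun x hx => by
  by_contra hx'
  refine hx ⟨fun a b => stL_injective_of_mono φ x ?_⟩
  rw [(M1.notMem_support_iff N x).1 hx' (stL φ x a), (M1.notMem_support_iff N x).1 hx' (stL φ x b)]

lemma support_subset_of_epi {M N : X.Modules} (φ : M ⟶ N) [Epi φ] :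
    CohB1.support N ⊆ CohB1.support M := fun x hx => by
  by_contra hx'
  refine hx ((M1.notMem_support_iff N x).2 (fun b => ?_) |> fun h => by
    exact not_not.1 h)
  obtain ⟨a, rfl⟩ := stL_surjective_of_epi φ x b
  rw [(M1.notMem_support_iff M x).1 hx' a, map_zero]

lemma notMem_support_kernel {M N : X.Modules} (φ : M ⟶ N) (x : X)
    (h : Function.Injective (stL φ x)) : x ∉ CohB1.support (kernel φ) := by
  refine (M1.notMem_support_iff _ x).2 fun a => stL_injective_of_mono (kernel.ι φ) x ?_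
  refine h ?_
  rw [← stL_comp, kernel.condition, stL_zero, map_zero, map_zero]

section Sub

variable (F : X.Modules) (η : X) (N : Submodule (X.presheaf.stalk η) (F.presheaf.stalk η))

open Classical in
/-- The condition: lie in `N` at `η`, none elsewhere. -/
noncomputable def atPt (x : X) : Submodule (X.presheaf.stalk x) (F.presheaf.stalk x) :=
  if h : x = η then h ▸ N else ⊤

lemma atPt_self : atPt F η N η = N := by simp [atPt]

lemma atPt_of_ne {x : X} (h : x ≠ η) : atPt F η N x = ⊤ := by simp [atPt, h]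

/-- The submodule of sections whose germ at `η` lies in `N`. -/
noncomputable abbrev cutAt : X.Modules := Curve17.subMod F (atPt F η N)

/-- The inclusion of `cutAt`. -/
noncomputable abbrev cutι : cutAt F η N ⟶ F := Curve17.subι F (atPt F η N)

instance mono_cutι : Mono (cutι F η N) :=
  (M1.mono_iff_app _).2 (Curve17.subι_injective F (atPt F η N))

lemma exists_cutι_iff {U : X.Opens} (m : Γ(F, U)) :
    (∃ f : Γ(cutAt F η N, U), (cutι F η N).app U f = m) ↔
      ∀ hη : η ∈ U, F.presheaf.germ U η hη m ∈ N := by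
  rw [Curve17.exists_preimage_iff]
  refine ⟨fun h hη => atPt_self F η N ▸ h η hη, fun h x hx => ?_⟩
  by_cases e : x = η
  · subst e; rw [atPt_self]; exact h hx
  · rw [atPt_of_ne F η N e]; trivial

lemma range_stL_cutι : LinearMap.range (stL (cutι F η N) η) = N := by
  refine le_antisymm ?_ fun a ha => ?_
  · rintro _ ⟨b, rfl⟩
    obtain ⟨U, hU, s, rfl⟩ := (cutAt F η N).presheaf.exists_germ_eq b
    rw [stL_germ]
    exact (exists_cutι_iff F η N _).1 ⟨s, rfl⟩ hU
  · obtain ⟨U, hU, m, rfl⟩ := F.presheaf.exists_germ_eq a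
    obtain ⟨f, hf⟩ := (exists_cutι_iff F η N m).2 fun _ => ha
    exact ⟨(cutAt F η N).presheaf.germ U η hU f, by rw [stL_germ, hf]⟩

/-- A submodule cut out at a point is coherent when powers of the maximal ideal move the stalk into it. -/
theorem isCoh_cutAt' [IsLocallyNoetherian X] (hF : Coh.IsCoh F)
    (hnil : ∀ g ∈ IsLocalRing.maximalIdeal (X.presheaf.stalk η), ∃ L : ℕ,
      ∀ a : F.presheaf.stalk η, g ^ L • a ∈ N) : Coh.IsCoh (cutAt F η N) := by
  haveI := hF.1
  refine M1.isCoh_of_mono (cutι F η N) hF (M1.isQCoh_of_loc_affine _ (fun U hU r t => ?_) fun U hU r t ht => ?_)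
  · obtain ⟨k, t₀, ht₀⟩ := M1.exists_pow_smul_eq_res_affine F hU r ((cutι F η N).app _ t)
    obtain ⟨L, hL⟩ : ∃ L : ℕ, ∀ hη : η ∈ U, F.presheaf.germ U η hη (r ^ L • t₀) ∈ N := by
      by_cases hη : η ∈ U
      · by_cases hr : η ∈ X.basicOpen r
        · refine ⟨0, fun _ => ?_⟩
          rw [pow_zero, one_smul, ← M1.germ_mres F (X.basicOpen_le r) hr, ht₀, M1.germ_smul]
          exact N.smul_mem _ ((exists_cutι_iff F η N _).1 ⟨t, rfl⟩ hr)
        · have hm : X.presheaf.germ U η hη r ∈ IsLocalRing.maximalIdeal (X.presheaf.stalk η) :=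
            fun hu => hr ((X.mem_basicOpen r η hη).2 hu)
          obtain ⟨L, hL⟩ := hnil _ hm
          refine ⟨L, fun _ => ?_⟩
          rw [M1.germ_smul, map_pow]
          exact hL _
      · exact ⟨0, fun h => absurd h hη⟩
    obtain ⟨f, hf⟩ := (exists_cutι_iff F η N _).2 hL
    refine ⟨L + k, f, M1.app_injective (cutι F η N) _ ?_⟩
    rw [M1.app_mres (cutι F η N), hf, M1.mres_smul, map_pow, ht₀, ← mul_smul, ← pow_add]
    exact ((cutι F η N).app_smul _ t).symm
  · obtain ⟨n, hn⟩ := M1.exists_pow_smul_eq_zero_affine F hU r ((cutι F η N).app U t) (by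
      rw [← M1.app_mres (cutι F η N), ht, map_zero])
    refine ⟨n, M1.app_injective (cutι F η N) _ ?_⟩
    rw [map_zero, ← hn]
    exact (cutι F η N).app_smul _ t

/-- A submodule cut out at a point is coherent when the maximal ideal acts nilpotently there. -/
theorem isCoh_cutAt [IsLocallyNoetherian X] (hF : Coh.IsCoh F)
    (hnil : ∀ g ∈ IsLocalRing.maximalIdeal (X.presheaf.stalk η), ∃ L : ℕ,
      ∀ a : F.presheaf.stalk η, g ^ L • a = 0) : Coh.IsCoh (cutAt F η N) :=
  isCoh_cutAt' F η N hF fun g hg => by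
    obtain ⟨L, hL⟩ := hnil g hg
    exact ⟨L, fun a => by rw [hL a]; exact N.zero_mem⟩

end Sub

end Groth.Agent.CohFound
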