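import Groth.Agent.Lib.CohFound.Basic

/-!
# Identification of `Hc` with `CohTop.HU` and `CohTop.H`
-/

universe u u₁ u₂

open CategoryTheory TopologicalSpace Opposite CategoryTheory.Limits Abelian

namespace Groth.Agent.CohFound

variable {X : TopCat.{u}}

section Generic

variable {C : Type u₁} [Category.{u} C] {A : Type u₂} [Category.{u} A]
  {G : C ⥤ A} {P : Aᵒᵖ ⥤ A ⥤ AddCommGrpCat.{u}} {Q : A ⥤ Cᵒᵖ ⥤ AddCommGrpCat.{u}}

/-- Transport along an equality with a flipped functor. -/
noncomputable def flipEquiv (h : Q = (G.op ⋙ P).flip) (F : A) (U : C) :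
    (Q.obj F).obj (op U) ≃+ (P.obj (op (G.obj U))).obj F :=
  (eqToIso (by subst h; rfl) : (Q.obj F).obj (op U) ≅ (P.obj (op (G.obj U))).obj F).addCommGroupIsoToAddEquiv

lemma flipEquiv_map (h : Q = (G.op ⋙ P).flip) (F : A) {U V : C} (i : V ⟶ U)
    (x : (Q.obj F).obj (op U)) :
    flipEquiv h F V (((Q.obj F).map i.op).hom x) =
      ((P.map (G.map i).op).app F).hom (flipEquiv h F U x) := by
  subst h
  rfl

lemma flipEquiv_natural (h : Q = (G.op ⋙ P).flip) {F K : A} (φ : F ⟶ K) (U : C)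
    (x : (Q.obj F).obj (op U)) :
    flipEquiv h K U (((Q.map φ).app (op U)).hom x) =
      ((P.obj (op (G.obj U))).map φ).hom (flipEquiv h F U x) := by
  subst h
  rfl

end Generic

section Site

variable {C : Type u} [Category.{u} C] {J : GrothendieckTopology C}
  [HasSheafify J AddCommGrpCat.{u}] [HasExt.{u} (Sheaf J AddCommGrpCat.{u})]

/-- The free abelian sheaf functor. -/
noncomputable abbrev siteFree (J : GrothendieckTopology C) [HasSheafify J AddCommGrpCat.{u}] :
    C ⥤ Sheaf J AddCommGrpCat.{u} :=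
  yoneda ⋙ (Functor.whiskeringRight _ _ _).obj AddCommGrpCat.free ⋙ presheafToSheaf _ _

lemma cohomologyPresheafFunctor_eq (n : ℕ) :
    Sheaf.cohomologyPresheafFunctor.{u} J n = ((siteFree J).op ⋙ extFunctor.{u} n).flip := rfl

/-- Cohomology over an object of a site as an `Ext` group. -/
noncomputable def siteExt (F : Sheaf J AddCommGrpCat.{u}) (n : ℕ) (U : C) :
    (Sheaf.H' F n U : AddCommGrpCat.{u}) ≃+ Ext.{u} ((siteFree J).obj U) F n :=
  flipEquiv (cohomologyPresheafFunctor_eq n) F U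

lemma siteExt_map (F : Sheaf J AddCommGrpCat.{u}) (n : ℕ) {U V : C} (i : V ⟶ U)
    (x : (Sheaf.H' F n U : AddCommGrpCat.{u})) :
    siteExt F n V (((Sheaf.cohomologyPresheaf.{u} F n).map i.op).hom x) =
      (Ext.mk₀ ((siteFree J).map i)).comp (siteExt F n U x) (zero_add n) :=
  flipEquiv_map (cohomologyPresheafFunctor_eq n) F i x

lemma siteExt_natural {F G : Sheaf J AddCommGrpCat.{u}} (φ : F ⟶ G) (n : ℕ) (U : C)
    (x : (Sheaf.H' F n U : AddCommGrpCat.{u})) :
    siteExt G n U ((((Sheaf.cohomologyPresheafFunctor J n).map φ).app (op U)).hom x) =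
      (siteExt F n U x).comp (Ext.mk₀ φ) (add_zero n) :=
  flipEquiv_natural (cohomologyPresheafFunctor_eq n) φ U x

end Site

/-- `CohTop.HU F n U` is `Hc F n U`. -/
noncomputable def huExt (F : CohTop.Ab X) (n : ℕ) (U : Opens X) :
    CohTop.HU F n U ≃+ Hc F n U :=
  siteExt F n U

lemma huExt_res (F : CohTop.Ab X) (n : ℕ) {U V : Opens X} (h : V ≤ U) (x : CohTop.HU F n U) :
    huExt F n V (CohTop.res F n h x) = rs F n h (huExt F n U x) :=
  siteExt_map F n (homOfLE h) x

lemma huExt_HUmap {F G : CohTop.Ab X} (φ : F ⟶ G) (n : ℕ) (U : Opens X) (x : CohTop.HU F n U) :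
    huExt G n U (CohTop.HUmap φ n U x) = mp φ n U (huExt F n U x) :=
  siteExt_natural φ n U x

lemma subsingleton_HU_iff (F : CohTop.Ab X) (n : ℕ) (U : Opens X) :
    Subsingleton (CohTop.HU F n U) ↔ Subsingleton (Hc F n U) :=
  (huExt F n U).toEquiv.subsingleton_congr

/-- Maps out of the constant sheaf are global sections. -/
noncomputable def constHomAddEquiv (F : CohTop.Ab X) :
    ((constantSheaf (Opens.grothendieckTopology X) AddCommGrpCat.{u}).obj
      (AddCommGrpCat.of (ULift.{u} ℤ)) ⟶ F) ≃+ F.obj.obj (op ⊤) :=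
  ((constantSheafAdj (Opens.grothendieckTopology X) AddCommGrpCat.{u}
    isTerminalTop).homAddEquiv _ F).trans (AddCommGrpCat.uliftZMultiplesAddEquiv _)

lemma constHomAddEquiv_comp {F G : CohTop.Ab X}
    (φ : (constantSheaf (Opens.grothendieckTopology X) AddCommGrpCat.{u}).obj
      (AddCommGrpCat.of (ULift.{u} ℤ)) ⟶ F) (g : F ⟶ G) :
    constHomAddEquiv G (φ ≫ g) = g.hom.app (op ⊤) (constHomAddEquiv F φ) := by
  simp only [constHomAddEquiv, AddEquiv.trans_apply]
  rw [Adjunction.homAddEquiv_apply, Adjunction.homAddEquiv_apply,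
    Adjunction.homEquiv_naturality_right]
  rfl

/-- The constant sheaf `ℤ` is the free sheaf on the whole space. -/
noncomputable def constIsoFreeTop :
    (constantSheaf (Opens.grothendieckTopology X) AddCommGrpCat.{u}).obj
      (AddCommGrpCat.of (ULift.{u} ℤ)) ≅ freeU (⊤ : Opens X) where
  hom := (constHomAddEquiv _).symm (gen ⊤)
  inv := (freeHomAddEquiv ⊤ _).symm (constHomAddEquiv _ (𝟙 _))
  hom_inv_id := by
    apply (constHomAddEquiv _).injective
    rw [constHomAddEquiv_comp, AddEquiv.apply_symm_apply, ← freeHomAddEquiv_apply,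
      AddEquiv.apply_symm_apply]
  inv_hom_id := by
    apply (freeHomAddEquiv ⊤ _).injective
    rw [freeHomAddEquiv_comp, AddEquiv.apply_symm_apply, ← constHomAddEquiv_comp, Category.id_comp,
      AddEquiv.apply_symm_apply, freeHomAddEquiv_apply]
    rfl

/-- Transport of `Ext` along an isomorphism of the source. -/
noncomputable def precompIso {C : Type u₁} [Category.{u} C] [Abelian C] [HasExt.{u} C]
    {A B : C} (e : A ≅ B) (F : C) (n : ℕ) : Ext.{u} A F n ≃+ Ext.{u} B F n :=
  AddMonoidHom.toAddEquiv ((Ext.mk₀ e.inv).precomp F (zero_add n))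
    ((Ext.mk₀ e.hom).precomp F (zero_add n)) (by ext x; simp) (by ext x; simp)

/-- Global cohomology is cohomology over the top open. -/
noncomputable def hExt (F : CohTop.Ab X) (n : ℕ) : CohTop.H F n ≃+ Hc F n ⊤ :=
  precompIso (constIsoFreeTop (X := X)) F n

lemma hExt_map {F G : CohTop.Ab X} (φ : F ⟶ G) (n : ℕ) (x : CohTop.H F n) :
    hExt G n (Sheaf.H.map φ n x) = mp φ n ⊤ (hExt F n x) :=
  (Ext.comp_assoc_of_third_deg_zero (Ext.mk₀ (constIsoFreeTop (X := X)).inv) x (Ext.mk₀ φ)
    (zero_add n)).symm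

lemma subsingleton_H_iff (F : CohTop.Ab X) (n : ℕ) :
    Subsingleton (CohTop.H F n) ↔ Subsingleton (Hc F n ⊤) :=
  (hExt F n).toEquiv.subsingleton_congr

end Groth.Agent.CohFound
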