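import Groth.Agent.Lib.CohFound.Godement
import Groth.Agent.Lib.CohFound.MV
import Groth.Agent.Lib.CohFound.Rpush
import Groth.Agent.Lib.CohFound.Bridge
import Mathlib.Topology.Sheaves.Skyscraper
import Mathlib.CategoryTheory.Limits.ConcreteCategory.Filtered
import Mathlib.CategoryTheory.Abelian.FunctorCategory
import Mathlib.Topology.Spectral.Prespectral

/-!
# Cohomology of filtered colimits of abelian sheaves on quasi-separated prespectral spaces
-/

universe u v

open CategoryTheory TopologicalSpace Opposite CategoryTheory.Limits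

namespace Groth.Agent.CohFound

variable {X : TopCat.{u}} {J : Type u} [SmallCategory J] [IsFiltered J]

/-- The stalk functor on sheaves. -/
noncomputable abbrev stalkF (x : X) : CohTop.Ab X ⥤ AddCommGrpCat.{u} :=
  TopCat.Sheaf.forget AddCommGrpCat.{u} X ⋙ TopCat.Presheaf.stalkFunctor AddCommGrpCat.{u} x

instance stalkF_isLeftAdjoint (x : X) : (stalkF x).IsLeftAdjoint :=
  inferInstanceAs (TopCat.Sheaf.forget AddCommGrpCat.{u} X ⋙
    TopCat.Presheaf.stalkFunctor AddCommGrpCat.{u} x).IsLeftAdjoint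

section General

variable {D : J ⥤ CohTop.Ab X} {c : Cocone D} (hc : IsColimit c)

/-- The structure maps of a cocone. -/
noncomputable abbrev cι {D : J ⥤ CohTop.Ab X} (c : Cocone D) (j : J) : D.obj j ⟶ c.pt := c.ι.app j

lemma mvδ_rs_right {F : CohTop.Ab X} {U V : Opens X} {n : ℕ} (z : Hc F n V) :
    mvδ U V F n (rs F n (inf_le_right : U ⊓ V ≤ V) z) = 0 := by
  have := mvδ_sub (U := U) (0 : Hc F n U) z
  rwa [map_zero, zero_sub, map_neg, neg_eq_zero] at this

lemma exists_glue₂ {F : CohTop.Ab X} {U V : Opens X} (s : F.obj.obj (op U)) (t : F.obj.obj (op V))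
    (h : F.obj.map (homOfLE (inf_le_left : U ⊓ V ≤ U)).op s =
      F.obj.map (homOfLE (inf_le_right : U ⊓ V ≤ V)).op t) :
    ∃ w : F.obj.obj (op (U ⊔ V)), F.obj.map (homOfLE (le_sup_left : U ≤ U ⊔ V)).op w = s ∧
      F.obj.map (homOfLE (le_sup_right : V ≤ U ⊔ V)).op w = t := by
  obtain ⟨x, hx₁, hx₂⟩ := mv_glue ((hc0 F U).symm s) ((hc0 F V).symm t)
    ((hc0 F _).injective (by rw [hc0_rs, hc0_rs, AddEquiv.apply_symm_apply, AddEquiv.apply_symm_apply, h]))
  refine ⟨hc0 F _ x, ?_, ?_⟩
  · rw [← hc0_rs, hx₁, AddEquiv.apply_symm_apply]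
  · rw [← hc0_rs, hx₂, AddEquiv.apply_symm_apply]

lemma map_comp_app {A B C : CohTop.Ab X} (φ : A ⟶ B) (ψ : B ⟶ C) (U : Opens X)
    (s : A.obj.obj (op U)) :
    (φ ≫ ψ).hom.app (op U) s = ψ.hom.app (op U) (φ.hom.app (op U) s) := rfl

include hc in
/-- Sections of a colimit of sheaves lift locally. -/
lemma exists_local_rep {U : Opens X} (s : c.pt.obj.obj (op U)) {x : X} (hx : x ∈ U) :
    ∃ (j : J) (V : Opens X) (hV : V ≤ U), x ∈ V ∧
      ∃ t : (D.obj j).obj.obj (op V), (cι c j).hom.app (op V) t = c.pt.obj.map (homOfLE hV).op s := by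
  obtain ⟨j, g, hg⟩ := Concrete.isColimit_exists_rep _ (isColimitOfPreserves (stalkF x) hc)
    (TopCat.Presheaf.germ c.pt.obj U x hx s)
  obtain ⟨W, hxW, t, rfl⟩ := TopCat.Presheaf.exists_germ_eq (D.obj j).obj g
  have h2 : TopCat.Presheaf.germ c.pt.obj W x hxW ((cι c j).hom.app (op W) t) =
      TopCat.Presheaf.germ c.pt.obj U x hx s :=
    (TopCat.Presheaf.stalkFunctor_map_germ_apply W x hxW (cι c j).hom t).symm.trans hg
  obtain ⟨V, hxV, iW, iU, e⟩ := TopCat.Presheaf.germ_eq c.pt.obj x hxW hx _ _ h2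
  refine ⟨j, V, leOfHom iU, hxV, (D.obj j).obj.map iW.op t, ?_⟩
  exact (NatTrans.naturality_apply (cι c j).hom iW.op t).trans e

include hc in
/-- A section dying in a colimit of sheaves dies locally at a finite stage. -/
lemma exists_local_zero {j : J} {U : Opens X} (t : (D.obj j).obj.obj (op U))
    (ht : (cι c j).hom.app (op U) t = 0) {x : X} (hx : x ∈ U) :
    ∃ (k : J) (f : j ⟶ k) (V : Opens X) (hV : V ≤ U), x ∈ V ∧
      (D.obj k).obj.map (homOfLE hV).op ((D.map f).hom.app (op U) t) = 0 := by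
  obtain ⟨k, f, g, e⟩ := Concrete.isColimit_exists_of_rep_eq _
    (isColimitOfPreserves (stalkF x) hc) (TopCat.Presheaf.germ (D.obj j).obj U x hx t) (0 : (stalkF x).obj (D.obj j))
    (by
      refine (TopCat.Presheaf.stalkFunctor_map_germ_apply U x hx (cι c j).hom t).trans ?_
      rw [ht, map_zero]
      exact (map_zero _).symm)
  have h2 : TopCat.Presheaf.germ (D.obj k).obj U x hx ((D.map f).hom.app (op U) t) =
      TopCat.Presheaf.germ (D.obj k).obj U x hx 0 :=
    (TopCat.Presheaf.stalkFunctor_map_germ_apply U x hx (D.map f).hom t).symm.trans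
      (e.trans ((map_zero _).trans (map_zero _).symm))
  obtain ⟨V, hxV, i, i', e2⟩ := TopCat.Presheaf.germ_eq (D.obj k).obj x hx hx _ _ h2
  exact ⟨k, f, V, leOfHom i, hxV, e2.trans (map_zero _)⟩

end General

section Basis

variable [PrespectralSpace X]

lemma exists_compact_nhd {U : Opens X} {x : X} (hx : x ∈ U) :
    ∃ W : Opens X, IsCompact (W : Set X) ∧ W ≤ U ∧ x ∈ W := by
  obtain ⟨W, ⟨hWo, hWc⟩, hxW, hWU⟩ :=
    PrespectralSpace.isTopologicalBasis.exists_subset_of_mem_open hx U.2
  exact ⟨⟨W, hWo⟩, hWc, hWU, hxW⟩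

/-- Induction over finite unions of quasi-compact opens. -/
lemma compact_induction (P : Opens X → Prop) (h0 : P ⊥)
    (hsup : ∀ V W : Opens X, IsCompact (V : Set X) → IsCompact (W : Set X) → P V → P W → P (V ⊔ W))
    {U : Opens X} (hU : IsCompact (U : Set X))
    (hloc : ∀ x ∈ U, ∃ V : Opens X, x ∈ V ∧ ∀ W, W ≤ V → W ≤ U → IsCompact (W : Set X) → P W) :
    P U := by
  classical
  choose V hxV hV using hloc
  choose W hWc hWle hxW using fun x : U =>
    exists_compact_nhd (X := X) (U := U ⊓ V x.1 x.2) ⟨x.2, hxV x.1 x.2⟩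
  obtain ⟨s, hs⟩ := hU.elim_finite_subcover (fun x : U => (W x : Set X)) (fun x => (W x).2)
    (fun x hx => Set.mem_iUnion.2 ⟨⟨x, hx⟩, hxW ⟨x, hx⟩⟩)
  have key : ∀ t : Finset U, IsCompact ((t.sup W : Opens X) : Set X) ∧ P (t.sup W) := fun t => by
    induction t using Finset.induction_on with
    | empty => exact ⟨by simp, h0⟩
    | @insert a t _ ih =>
      rw [Finset.sup_insert]
      refine ⟨by rw [Opens.coe_sup]; exact (hWc a).union ih.1, hsup _ _ (hWc a) ih.1 ?_ ih.2⟩
      exact hV a.1 a.2 _ ((hWle a).trans inf_le_right) ((hWle a).trans inf_le_left) (hWc a)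
  have e : U = s.sup W := le_antisymm
    (fun x hx => by
      obtain ⟨y, hy, hxy⟩ := Set.mem_iUnion₂.1 (hs hx)
      exact (Finset.le_sup hy : W y ≤ s.sup W) hxy)
    (Finset.sup_le fun x _ => (hWle x).trans inf_le_left)
  rw [e]
  exact (key s).2

omit [PrespectralSpace X] in
lemma isCompact_inf {U V W : Opens X} (hq : IsQuasiSeparated (U : Set X)) (hVU : V ≤ U) (hWU : W ≤ U)
    (hV : IsCompact (V : Set X)) (hW : IsCompact (W : Set X)) :
    IsCompact ((V ⊓ W : Opens X) : Set X) := by
  rw [Opens.coe_inf]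
  exact hq _ _ hVU V.2 hV hWU W.2 hW

/-- A sheaf with surjective restrictions between quasi-compact opens is acyclic on them. -/
theorem subsingleton_hc_of_qcFlasque (F : CohTop.Ab X)
    (hF : ∀ (U V : Opens X) (h : V ≤ U), IsQuasiSeparated (U : Set X) → IsCompact (V : Set X) →
      Function.Surjective (F.obj.map (homOfLE h).op)) (n : ℕ) :
    ∀ U : Opens X, IsCompact (U : Set X) → IsQuasiSeparated (U : Set X) →
      Subsingleton (Hc F (n + 1) U) := by
  induction n with
  | zero =>
    intro U hU hq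
    refine subsingleton_of_forall_eq 0 fun ξ => ?_
    suffices ∀ h : U ≤ U, rs F 1 h ξ = 0 by simpa [rs_refl] using this le_rfl
    refine compact_induction (fun W => ∀ h : W ≤ U, rs F 1 h ξ = 0) ?_ ?_ hU ?_
    · exact fun h => hc_bot_eq_zero _ 1 rfl _
    · intro V W hV hW hPV hPW h
      obtain ⟨v, hv⟩ := mv_exact (rs F 1 h ξ) ((rs_rs F 1 h le_sup_left ξ).trans (hPV _))
        ((rs_rs F 1 h le_sup_right ξ).trans (hPW _))
      obtain ⟨s, hs⟩ := hF W (V ⊓ W) inf_le_right (hq.of_subset (le_sup_right.trans h))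
        (isCompact_inf hq (le_sup_left.trans h) (le_sup_right.trans h) hV hW) (hc0 F _ v)
      have hv' : v = rs F 0 (inf_le_right : V ⊓ W ≤ W) ((hc0 F W).symm s) := by
        apply (hc0 F _).injective
        rw [hc0_rs, AddEquiv.apply_symm_apply, hs]
      rw [← hv, hv']
      exact mvδ_rs_right _
    · intro x hx
      obtain ⟨V, hV, hxV, h0⟩ := exists_cover_rs_eq_zero F U 0 ξ x hx
      refine ⟨V, hxV, fun W hWV hWU _ h => ?_⟩
      rw [← rs_rs F 1 hV hWV, h0, map_zero]
  | succ n ih =>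
    intro U hU hq
    refine subsingleton_of_forall_eq 0 fun ξ => ?_
    suffices ∀ h : U ≤ U, rs F (n + 2) h ξ = 0 by simpa [rs_refl] using this le_rfl
    refine compact_induction (fun W => ∀ h : W ≤ U, rs F (n + 2) h ξ = 0) ?_ ?_ hU ?_
    · exact fun h => hc_bot_eq_zero _ _ rfl _
    · intro V W hV hW hPV hPW h
      obtain ⟨v, hv⟩ := mv_exact (rs F (n + 2) h ξ) ((rs_rs F _ h le_sup_left ξ).trans (hPV _))
        ((rs_rs F _ h le_sup_right ξ).trans (hPW _))
      have := ih _ (isCompact_inf hq (le_sup_left.trans h) (le_sup_right.trans h) hV hW)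
        (hq.of_subset ((inf_le_left.trans le_sup_left).trans h))
      rw [← hv, Subsingleton.elim v 0, map_zero]
    · intro x hx
      obtain ⟨V, hV, hxV, h0⟩ := exists_cover_rs_eq_zero F U (n + 1) ξ x hx
      refine ⟨V, hxV, fun W hWV hWU _ h => ?_⟩
      rw [← rs_rs F (n + 2) hV hWV, h0, map_zero]

end Basis

section Degree0

variable [PrespectralSpace X]
variable {D : J ⥤ CohTop.Ab X} {c : Cocone D} (hc : IsColimit c)

lemma app_map_comp {i j k : J} (f : i ⟶ j) (g : j ⟶ k) (U : Opens X) (t : (D.obj i).obj.obj (op U)) :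
    (D.map (f ≫ g)).hom.app (op U) t = (D.map g).hom.app (op U) ((D.map f).hom.app (op U) t) := by
  rw [D.map_comp]
  exact map_comp_app _ _ U t

lemma app_w {i j : J} (f : i ⟶ j) (U : Opens X) (t : (D.obj i).obj.obj (op U)) :
    (cι c j).hom.app (op U) ((D.map f).hom.app (op U) t) = (cι c i).hom.app (op U) t := by
  rw [← map_comp_app]
  exact congrArg (fun φ : D.obj i ⟶ c.pt => φ.hom.app (op U) t) (c.w f)

include hc in
/-- Injectivity in degree zero on quasi-compact opens. -/
theorem exists_zero_of_app {j : J} {U : Opens X} (hU : IsCompact (U : Set X))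
    (t : (D.obj j).obj.obj (op U)) (ht : (cι c j).hom.app (op U) t = 0) :
    ∃ (k : J) (f : j ⟶ k), (D.map f).hom.app (op U) t = 0 := by
  let P : Opens X → Prop := fun W => ∀ h : W ≤ U,
    ∃ (k : J) (f : j ⟶ k), (D.obj k).obj.map (homOfLE h).op ((D.map f).hom.app (op U) t) = 0
  have push : ∀ {k l : J} (f : j ⟶ k) (g : k ⟶ l) {W : Opens X} (h : W ≤ U),
      (D.obj k).obj.map (homOfLE h).op ((D.map f).hom.app (op U) t) = 0 →
      (D.obj l).obj.map (homOfLE h).op ((D.map (f ≫ g)).hom.app (op U) t) = 0 := by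
    intro k l f g W h e
    rw [app_map_comp, ← NatTrans.naturality_apply, e, map_zero]
  have hP : P U := by
    refine compact_induction P ?_ ?_ hU ?_
    · intro h
      have := AddCommGrpCat.subsingleton_of_isZero (TopCat.Sheaf.isTerminalOfEmpty (D.obj j)).isZero
      exact ⟨j, 𝟙 j, Subsingleton.elim _ _⟩
    · intro V W _ _ hPV hPW h
      obtain ⟨k, f, hf⟩ := hPV (le_sup_left.trans h)
      obtain ⟨l, g, hg⟩ := hPW (le_sup_right.trans h)
      obtain ⟨m, a, b, hab⟩ := IsFiltered.span f g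
      refine ⟨m, f ≫ a, TopCat.Sheaf.eq_of_locally_eq₂ (F := D.obj m)
        (homOfLE (le_sup_left : V ≤ V ⊔ W)) (homOfLE (le_sup_right : W ≤ V ⊔ W)) le_rfl _ _ ?_ ?_⟩
      · rw [map_zero, ← CategoryTheory.Functor.map_comp_apply]
        exact push f a (le_sup_left.trans h) hf
      · rw [map_zero, ← CategoryTheory.Functor.map_comp_apply, hab]
        exact push g b (le_sup_right.trans h) hg
    · intro x hx
      obtain ⟨k, f, V, hV, hxV, h0⟩ := exists_local_zero hc t ht hx
      refine ⟨V, hxV, fun W hWV hWU _ h => ⟨k, f, ?_⟩⟩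
      have := congrArg ((D.obj k).obj.map (homOfLE hWV).op) h0
      rw [map_zero, ← CategoryTheory.Functor.map_comp_apply] at this
      exact this
  obtain ⟨k, f, h⟩ := hP le_rfl
  refine ⟨k, f, ?_⟩
  rw [show (homOfLE (le_refl U)).op = 𝟙 (op U) from rfl, CategoryTheory.Functor.map_id] at h
  exact h

include hc in
/-- Surjectivity in degree zero on quasi-compact opens. -/
theorem exists_rep_app {U : Opens X} (hU : IsCompact (U : Set X))
    (hq : IsQuasiSeparated (U : Set X)) (s : c.pt.obj.obj (op U)) :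
    ∃ (j : J) (t : (D.obj j).obj.obj (op U)), (cι c j).hom.app (op U) t = s := by
  let P : Opens X → Prop := fun W => ∀ h : W ≤ U,
    ∃ (j : J) (t : (D.obj j).obj.obj (op W)),
      (cι c j).hom.app (op W) t = c.pt.obj.map (homOfLE h).op s
  have hP : P U := by
    refine compact_induction P ?_ ?_ hU ?_
    · intro h
      obtain ⟨j⟩ := IsFiltered.nonempty (C := J)
      have := AddCommGrpCat.subsingleton_of_isZero (TopCat.Sheaf.isTerminalOfEmpty c.pt).isZero
      exact ⟨j, 0, Subsingleton.elim _ _⟩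
    · intro V W hVc hWc hPV hPW h
      obtain ⟨j, t, ht⟩ := hPV (le_sup_left.trans h)
      obtain ⟨k, t', ht'⟩ := hPW (le_sup_right.trans h)
      obtain ⟨m, a, b, -⟩ : ∃ (m : J) (_ : j ⟶ m) (_ : k ⟶ m), True :=
        ⟨IsFiltered.max j k, IsFiltered.leftToMax j k, IsFiltered.rightToMax j k, trivial⟩
      obtain ⟨n, g, hg⟩ := exists_zero_of_app hc
        (isCompact_inf hq (le_sup_left.trans h) (le_sup_right.trans h) hVc hWc)
        ((D.obj m).obj.map (homOfLE inf_le_left).op ((D.map a).hom.app (op V) t) -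
          (D.obj m).obj.map (homOfLE inf_le_right).op ((D.map b).hom.app (op W) t')) (by
          rw [map_sub, NatTrans.naturality_apply, NatTrans.naturality_apply, app_w, app_w, ht, ht',
            ← CategoryTheory.Functor.map_comp_apply, ← CategoryTheory.Functor.map_comp_apply]
          exact sub_self _)
      rw [map_sub, sub_eq_zero, NatTrans.naturality_apply, NatTrans.naturality_apply,
        ← app_map_comp, ← app_map_comp] at hg
      obtain ⟨w, hw1, hw2⟩ := exists_glue₂ _ _ hg
      refine ⟨n, w, TopCat.Sheaf.eq_of_locally_eq₂ (F := c.pt)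
        (homOfLE (le_sup_left : V ≤ V ⊔ W)) (homOfLE (le_sup_right : W ≤ V ⊔ W)) le_rfl _ _ ?_ ?_⟩
      · rw [← NatTrans.naturality_apply, hw1, app_w, ht, ← CategoryTheory.Functor.map_comp_apply]
        rfl
      · rw [← NatTrans.naturality_apply, hw2, app_w, ht', ← CategoryTheory.Functor.map_comp_apply]
        rfl
    · intro x hx
      obtain ⟨j, V, hV, hxV, t, ht⟩ := exists_local_rep hc s hx
      refine ⟨V, hxV, fun W hWV hWU _ h => ⟨j, (D.obj j).obj.map (homOfLE hWV).op t, ?_⟩⟩
      rw [NatTrans.naturality_apply, ht, ← CategoryTheory.Functor.map_comp_apply]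
      rfl
  obtain ⟨j, t, h⟩ := hP le_rfl
  refine ⟨j, t, h.trans ?_⟩
  rw [show (homOfLE (le_refl U)).op = 𝟙 (op U) from rfl, CategoryTheory.Functor.map_id]
  rfl

end Degree0

section Degree

variable [PrespectralSpace X]

lemma exists_rep_hc0 {D : J ⥤ CohTop.Ab X} {c : Cocone D} (hc : IsColimit c) {U : Opens X}
    (hU : IsCompact (U : Set X)) (hq : IsQuasiSeparated (U : Set X)) (ξ : Hc c.pt 0 U) :
    ∃ (j : J) (η : Hc (D.obj j) 0 U), mp (cι c j) 0 U η = ξ := by
  obtain ⟨j, t, ht⟩ := exists_rep_app hc hU hq (hc0 _ U ξ)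
  exact ⟨j, (hc0 _ U).symm t, (hc0 _ U).injective (by rw [hc0_mp, AddEquiv.apply_symm_apply, ht])⟩

lemma exists_zero_hc0 {D : J ⥤ CohTop.Ab X} {c : Cocone D} (hc : IsColimit c) {U : Opens X}
    (hU : IsCompact (U : Set X)) {j : J} (η : Hc (D.obj j) 0 U) (h : mp (cι c j) 0 U η = 0) :
    ∃ (k : J) (f : j ⟶ k), mp (D.map f) 0 U η = 0 := by
  obtain ⟨k, f, hf⟩ := exists_zero_of_app hc hU (hc0 _ U η) (by rw [← hc0_mp, h, map_zero])
  exact ⟨k, f, (hc0 _ U).injective (by rw [hc0_mp, hf, map_zero])⟩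

/-- A colimit of flasque sheaves has surjective restrictions between quasi-compact opens. -/
theorem surjective_map_colimit_of_flasque {D : J ⥤ CohTop.Ab X} {c : Cocone D} (hc : IsColimit c)
    (hD : ∀ j, TopCat.Sheaf.IsFlasque (D.obj j)) {U V : Opens X} (h : V ≤ U)
    (hV : IsCompact (V : Set X)) (hq : IsQuasiSeparated (V : Set X)) : Function.Surjective (c.pt.obj.map (homOfLE h).op) := by
  intro s
  obtain ⟨j, t, rfl⟩ := exists_rep_app hc hV hq s
  obtain ⟨t', rfl⟩ := (hD j).epi (homOfLE h).op |> (AddCommGrpCat.epi_iff_surjective _).1 <| t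
  exact ⟨(cι c j).hom.app (op U) t', (NatTrans.naturality_apply (cι c j).hom (homOfLE h).op t').symm⟩

/-- The Godement embedding of a diagram. -/
noncomputable def godNat (D : J ⥤ CohTop.Ab X) : D ⟶ D ⋙ godFun X where
  app j := (godUnit X).app (D.obj j)
  naturality _ _ f := (godUnit X).naturality (D.map f)

/-- The functorial short exact sequence `0 ⟶ D ⟶ G D ⟶ Q ⟶ 0`. -/
noncomputable abbrev godSC (D : J ⥤ CohTop.Ab X) : ShortComplex (J ⥤ CohTop.Ab X) :=
  ShortComplex.mk (godNat D) (cokernel.π (godNat D)) (cokernel.condition (godNat D))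

omit [IsFiltered J] [PrespectralSpace X] in
lemma godSC_shortExact (D : J ⥤ CohTop.Ab X) : (godSC D).ShortExact where
  exact := ShortComplex.exact_of_g_is_cokernel _ (cokernelIsCokernel _)
  mono_f := by
    have : ∀ j, Mono ((godNat D).app j) := fun j => mono_godUnit X (D.obj j)
    exact NatTrans.mono_of_mono_app _

theorem colim_hc (q : ℕ) : ∀ (D : J ⥤ CohTop.Ab X) (U : Opens X), IsCompact (U : Set X) →
    IsQuasiSeparated (U : Set X) → (∀ ξ : Hc (colimit D) q U, ∃ (j : J) (η : Hc (D.obj j) q U), mp (colimit.ι D j) q U η = ξ) ∧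
    (∀ (j : J) (η : Hc (D.obj j) q U), mp (colimit.ι D j) q U η = 0 →
      ∃ (k : J) (f : j ⟶ k), mp (D.map f) q U η = 0) := by
  induction q with
  | zero =>
    intro D U hU hq
    exact ⟨exists_rep_hc0 (colimit.isColimit D) hU hq,
      fun j η h => exists_zero_hc0 (colimit.isColimit D) hU η h⟩
  | succ q ih =>
    intro D U hU hq
    let S := godSC D
    have hS := godSC_shortExact D
    have hj : ∀ j, (S.map ((evaluation J (CohTop.Ab X)).obj j)).ShortExact := fun j =>
      hS.map_of_exact ((evaluation J (CohTop.Ab X)).obj j)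
    have hc : (S.map colim).ShortExact := hS.map_of_exact colim
    let ι' : ∀ j, S.map ((evaluation J (CohTop.Ab X)).obj j) ⟶ S.map colim := fun j =>
      { τ₁ := colimit.ι S.X₁ j
        τ₂ := colimit.ι S.X₂ j
        τ₃ := colimit.ι S.X₃ j
        comm₁₂ := ι_colimMap S.f j
        comm₂₃ := ι_colimMap S.g j }
    let tr : ∀ {j k : J}, (j ⟶ k) →
        (S.map ((evaluation J (CohTop.Ab X)).obj j) ⟶ S.map ((evaluation J (CohTop.Ab X)).obj k)) :=
      fun {j k} f =>
      { τ₁ := S.X₁.map f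
        τ₂ := S.X₂.map f
        τ₃ := S.X₃.map f
        comm₁₂ := S.f.naturality f
        comm₂₃ := S.g.naturality f }
    have hfl : ∀ j, TopCat.Sheaf.IsFlasque (S.X₂.obj j) := fun j => isFlasque_godFun X (D.obj j)
    have hE : Subsingleton (Hc (colimit S.X₂) (q + 1) U) :=
      subsingleton_hc_of_qcFlasque _ (fun U V h hqU hV =>
        surjective_map_colimit_of_flasque (colimit.isColimit S.X₂) hfl h hV (hqU.of_subset h)) q U hU hq
    constructor
    · intro ξ
      obtain ⟨z, hz⟩ := exact₁ hc q U ξ (Subsingleton.elim (α := Hc (colimit S.X₂) (q + 1) U) _ _)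
      obtain ⟨j, zj, rfl⟩ := (ih S.X₃ U hU hq).1 z
      refine ⟨j, delta (hj j) q U zj, ?_⟩
      exact (delta_natural (hj j) hc (ι' j) q U zj).trans hz
    · intro j η h
      have : TopCat.Sheaf.IsFlasque (S.X₂.obj j) := hfl j
      obtain ⟨z, rfl⟩ := exact₁ (hj j) q U η
        (@Subsingleton.elim _ (subsingleton_hc_of_isFlasque (S.X₂.obj j) q U) _ _)
      have h' : delta hc q U (mp (ι' j).τ₃ q U z) = 0 :=
        (delta_natural (hj j) hc (ι' j) q U z).symm.trans h
      obtain ⟨e, he⟩ := exact₃ hc q U _ h'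
      obtain ⟨k, ek, rfl⟩ := (ih S.X₂ U hU hq).1 e
      let a := IsFiltered.leftToMax j k
      let b := IsFiltered.rightToMax j k
      obtain ⟨l, g, hg⟩ := (ih S.X₃ U hU hq).2 _
        (mp (S.X₃.map a) q U z - mp (S.g.app _) q U (mp (S.X₂.map b) q U ek)) (by
          rw [map_sub, ← mp_comp, ← mp_comp, ← mp_comp, colimit.w, sub_eq_zero,
            show S.g.app (IsFiltered.max j k) ≫ colimit.ι S.X₃ _ =
              colimit.ι S.X₂ _ ≫ colimMap S.g from (ι_colimMap S.g _).symm, ← Category.assoc,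
            colimit.w, mp_comp]
          exact he.symm)
      refine ⟨l, a ≫ g, ?_⟩
      rw [map_sub, sub_eq_zero, ← mp_comp, ← mp_comp, ← S.X₃.map_comp] at hg
      refine (delta_natural (hj j) (hj l) (tr (a ≫ g)) q U z).trans ?_
      change delta (hj l) q U (mp (S.X₃.map (a ≫ g)) q U z) = 0
      rw [hg, ← S.g.naturality g, mp_comp]
      exact delta_mp (hj l) q U _

variable {D : J ⥤ CohTop.Ab X} {c : Cocone D} (hc : IsColimit c)

include hc in
/-- Every class of the colimit comes from a finite stage. -/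
theorem exists_rep_hc (q : ℕ) {U : Opens X} (hU : IsCompact (U : Set X))
    (hq : IsQuasiSeparated (U : Set X)) (ξ : Hc c.pt q U) :
    ∃ (j : J) (η : Hc (D.obj j) q U), mp (cι c j) q U η = ξ := by
  let e := (colimit.isColimit D).coconePointUniqueUpToIso hc
  obtain ⟨j, η, hη⟩ := (colim_hc q D U hU hq).1 (mp e.inv q U ξ)
  refine ⟨j, η, ?_⟩
  rw [show cι c j = colimit.ι D j ≫ e.hom from
    ((colimit.isColimit D).comp_coconePointUniqueUpToIso_hom hc j).symm, mp_comp, hη, ← mp_comp,
    e.inv_hom_id, mp_id]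

include hc in
/-- A class dying in the colimit dies at a finite stage. -/
theorem exists_zero_hc (q : ℕ) {U : Opens X} (hU : IsCompact (U : Set X))
    (hq : IsQuasiSeparated (U : Set X)) {j : J} (η : Hc (D.obj j) q U) (h : mp (cι c j) q U η = 0) :
    ∃ (k : J) (f : j ⟶ k), mp (D.map f) q U η = 0 := by
  let e := (colimit.isColimit D).coconePointUniqueUpToIso hc
  refine (colim_hc q D U hU hq).2 j η ?_
  rw [show colimit.ι D j = cι c j ≫ e.inv from
    ((colimit.isColimit D).comp_coconePointUniqueUpToIso_inv hc j).symm, mp_comp, h, map_zero]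

/-- Cohomology on a quasi-compact open preserves filtered colimits. -/
theorem preservesColimitsOfShape_cohomology (q : ℕ) {U : Opens X} (hU : IsCompact (U : Set X))
    (hq : IsQuasiSeparated (U : Set X)) :
    PreservesColimitsOfShape J
      ((Sheaf.cohomologyPresheafFunctor (Opens.grothendieckTopology X) q).flip.obj (op U) :
        CohTop.Ab X ⥤ AddCommGrpCat.{u}) where
  preservesColimit {K} := ⟨fun {c} hc => ⟨
    have : ReflectsColimitsOfShape J (forget AddCommGrpCat.{u}) :=
      reflectsColimitsOfShape_of_reflectsIsomorphisms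
    isColimitOfReflects (forget AddCommGrpCat.{u}) (by
    refine Types.FilteredColimit.isColimitOf _ _ (fun x => ?_) (fun i i' xi xi' h => ?_)
    · obtain ⟨j, η, hη⟩ := exists_rep_hc hc q hU hq (huExt c.pt q U x)
      refine ⟨j, (huExt (K.obj j) q U).symm η, (huExt c.pt q U).injective ?_⟩
      exact (hη.symm.trans (by rw [← AddEquiv.apply_symm_apply (huExt (K.obj j) q U) η,
        ← huExt_HUmap, AddEquiv.apply_symm_apply]; rfl))
    · let m := IsFiltered.max i i'
      have h' := congrArg (huExt c.pt q U) h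
      obtain ⟨k, f, hf⟩ := exists_zero_hc hc q hU hq
        (mp (K.map (IsFiltered.leftToMax i i')) q U (huExt _ q U xi) -
          mp (K.map (IsFiltered.rightToMax i i')) q U (huExt _ q U xi')) (by
          rw [map_sub, ← mp_comp, ← mp_comp, sub_eq_zero]
          erw [c.w, c.w]
          exact ((huExt_HUmap (cι c i) q U xi).symm.trans h').trans (huExt_HUmap (cι c i') q U xi'))
      refine ⟨k, IsFiltered.leftToMax i i' ≫ f, IsFiltered.rightToMax i i' ≫ f,
        (huExt (K.obj k) q U).injective ?_⟩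
      rw [map_sub, sub_eq_zero, ← mp_comp, ← mp_comp, ← K.map_comp, ← K.map_comp] at hf
      exact ((huExt_HUmap _ q U xi).trans hf).trans (huExt_HUmap _ q U xi').symm)⟩⟩

end Degree

end Groth.Agent.CohFound
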