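import Groth.Agent.Lib.CohFound.DevissageModel

/-!
# Dévissage from extensions and ideals of integral closed subschemes
-/

set_option autoImplicit false

universe u

open CategoryTheory Limits AlgebraicGeometry TopologicalSpace Opposite

namespace Groth.Agent.CohFound

variable {X : Scheme.{u}}

/-- A coherent quotient of the structure sheaf of a closed subscheme has kernel the image of an
ideal. -/
theorem exists_ideal_push_iso {Z : Scheme.{u}} (i : Z ⟶ X) [IsClosedImmersion i] {C : X.Modules}
    (hC : Coh.IsQCoh C) (π : (Scheme.Modules.pushforward i).obj (Coh.structureModule Z) ⟶ C) [Epi π] :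
    ∃ (I : Z.Modules) (ι : I ⟶ Coh.structureModule Z), Mono ι ∧ Coh.IsQCoh I ∧
      Nonempty ((Scheme.Modules.pushforward i).obj I ≅ kernel π) := by
  let O := Coh.structureModule Z
  let G := (Scheme.Modules.pushforward i).obj O
  let adj := Scheme.Modules.pullbackPushforwardAdjunction i
  have hO : Coh.IsQCoh O := M1.isQCoh_structureModule Z
  have hG : Coh.IsQCoh G := M1.isQCoh_push i hO
  have := M1.isIso_unit_of_ker_smul i G hG (ker_smul_push i O)
  have := M1.isIso_unit_of_ker_smul i C hC fun U a ha s => by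
    obtain ⟨t, rfl⟩ := M1.app_surjective_affine_of_isQCoh hG hC π U.2 s
    rw [← Scheme.Modules.Hom.app_smul, ker_smul_push i O U a ha t, map_zero]
  have := isIso_counit_closedImm i O hO
  let φ : O ⟶ (Scheme.Modules.pullback i).obj C :=
    inv (adj.counit.app O) ≫ (Scheme.Modules.pullback i).map π
  refine ⟨kernel φ, kernel.ι φ, inferInstance, M1.isQCoh_kernel hO (M1.isQCoh_pullback i hC) φ,
    ⟨PreservesKernel.iso (Scheme.Modules.pushforward i) φ ≪≫ ?_⟩⟩
  have hu : adj.unit.app G ≫ (Scheme.Modules.pushforward i).map (adj.counit.app O) = 𝟙 G :=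
    adj.right_triangle_components O
  have he : (Scheme.Modules.pushforward i).map φ = π ≫ adj.unit.app C := by
    have h := adj.unit.naturality π
    simp only [Functor.id_obj, Functor.id_map, Functor.comp_obj, Functor.comp_map] at h
    rw [h, Functor.map_comp, Functor.map_inv]
    congr 1
    exact IsIso.inv_eq_of_inv_hom_id hu
  exact kernel.mapIso ((Scheme.Modules.pushforward i).map φ) (π ≫ adj.unit.app C) (Iso.refl _) (Iso.refl _)
      (by simp [he]) ≪≫ kernelCompMono π (adj.unit.app C)

variable [IsNoetherian X]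

/-- Dévissage from extensions and the ideals of integral closed subschemes. -/
theorem holds_of_extensions [Nonempty X] (P : X.Modules → Prop)
    (hP : ∀ M N : X.Modules, Nonempty (M ≅ N) → P M → P N)
    (h₁ : ∀ S : ShortComplex X.Modules, S.ShortExact → Coh.IsCoh S.X₁ → Coh.IsCoh S.X₂ →
      Coh.IsCoh S.X₃ → P S.X₁ → P S.X₃ → P S.X₂)
    (h₂ : ∀ (Z : Scheme.{u}) (i : Z ⟶ X), IsClosedImmersion i → IsIntegral Z →
      ∀ (I : Z.Modules) (ι : I ⟶ Coh.structureModule Z), Mono ι → Coh.IsQCoh I →
        P ((Coh.push i).obj I))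
    {M : X.Modules} (hM : Coh.IsCoh M) : P M := by
  classical
  refine holds_of_cyclic (Z₀ := Set.univ) (fun M _ hM => ?_)
    (fun S hS a b c _ => h₁ S hS a b c) ?_ hM (Set.subset_univ _)
  · obtain ⟨Z, i, hi, hZ, -⟩ := exists_integral_point (Classical.arbitrary X)
    let K := kernel (𝟙 (Coh.structureModule Z))
    have hK : IsZero K := isZero_kernel_of_mono _
    exact hP _ _ ⟨(((Scheme.Modules.pushforward i).map_isZero hK).iso hM)⟩
      (h₂ Z i hi hZ K (kernel.ι _) inferInstance (M1.isQCoh_isZero hK))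
  intro W η hη _ hsmall Q hQ hQW q hq hqm hgen
  obtain ⟨Z, i, hi, hZ, hr, hξ, -⟩ := exists_integral_point η
  subst hξ
  have hZn : IsLocallyNoetherian Z := LocallyOfFiniteType.isLocallyNoetherian i
  let G := (Scheme.Modules.pushforward i).obj (Coh.structureModule Z)
  have hG : Coh.IsCoh G := isCoh_push_closedImm i (M1.isCoh_structureModule Z)
  have hGW : CohB1.support G ⊆ (W : Set X) := (support_push_subset i _).trans
    (hr.le.trans (W.isClosed.closure_subset_iff.2 (Set.singleton_subset_iff.2 hη)))
  obtain ⟨g, hg, hggen, hgkill⟩ := exists_cyclic_push_structureModule i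
  let η := i (genericPoint Z)
  have hQm : ∀ c ∈ IsLocalRing.maximalIdeal (X.presheaf.stalk η), ∀ b : Q.presheaf.stalk η, c • b = 0 :=
    fun c hc b => by obtain ⟨d, rfl⟩ := hgen b; rw [smul_comm, hqm c hc, smul_zero]
  let E := G ⊞ Q
  have hE : Coh.IsCoh E := M1.isCoh_biprod hG hQ
  have hfst : ∀ b, stL (biprod.fst : E ⟶ G) η (stL biprod.inl η b) = b := fun b => by
    rw [← stL_comp, biprod.inl_fst, stL_id]
  have hsnd : ∀ b, stL (biprod.snd : E ⟶ Q) η (stL biprod.inr η b) = b := fun b => by
    rw [← stL_comp, biprod.inr_snd, stL_id]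
  have hfst0 : ∀ b, stL (biprod.fst : E ⟶ G) η (stL biprod.inr η b) = 0 := fun b => by
    rw [← stL_comp, biprod.inr_fst, stL_zero]
  have hsnd0 : ∀ b, stL (biprod.snd : E ⟶ Q) η (stL biprod.inl η b) = 0 := fun b => by
    rw [← stL_comp, biprod.inl_snd, stL_zero]
  have hsum : ∀ (x : X) (b : E.presheaf.stalk x),
      stL biprod.inl x (stL (biprod.fst : E ⟶ G) x b) +
        stL biprod.inr x (stL (biprod.snd : E ⟶ Q) x b) = b := fun x b => by
    rw [← stL_comp, ← stL_comp, ← stL_add, biprod.total, stL_id]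
  have hEW : CohB1.support E ⊆ (W : Set X) := fun x hx => by
    by_contra h
    refine (M1.notMem_support_iff E x).2 (fun c => ?_) hx
    rw [← hsum x c, (M1.notMem_support_iff G x).1 (fun h' => h (hGW h')) (stL biprod.fst x c),
      (M1.notMem_support_iff Q x).1 (fun h' => h (hQW h')) (stL biprod.snd x c), map_zero, map_zero,
      add_zero]
  let w : E.presheaf.stalk η := stL biprod.inl η g + stL biprod.inr η q
  let N : Submodule (X.presheaf.stalk η) (E.presheaf.stalk η) := Submodule.span _ {w}
  have hnil : ∀ c ∈ IsLocalRing.maximalIdeal (X.presheaf.stalk η), ∃ L : ℕ,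
      ∀ a : E.presheaf.stalk η, c ^ L • a = 0 := fun c hc => ⟨1, fun a => by
    rw [pow_one, ← hsum η a, smul_add, ← (stL biprod.inl η).map_smul, ← (stL biprod.inr η).map_smul,
      hgkill c hc, hQm c hc, map_zero, map_zero, add_zero]⟩
  let K := cutAt E η N
  let κ := cutι E η N
  have hK : Coh.IsCoh K := isCoh_cutAt E η N hE hnil
  have hKW : CohB1.support K ⊆ (W : Set X) := (support_subset_of_mono κ).trans hEW
  have hrange : ∀ b, ∃ c : X.presheaf.stalk η, stL κ η b = c • w := fun b => by
    obtain ⟨c, hc⟩ := Submodule.mem_span_singleton.1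
      ((range_stL_cutι E η N).le (LinearMap.mem_range_self _ b))
    exact ⟨c, hc.symm⟩
  have hlift : ∀ c : X.presheaf.stalk η, ∃ b, stL κ η b = c • w := fun c =>
    (range_stL_cutι E η N).ge (Submodule.smul_mem _ c (Submodule.mem_span_singleton_self w))
  let a : K ⟶ G := κ ≫ biprod.fst
  let b : K ⟶ Q := κ ≫ biprod.snd
  have ha : ∀ (e : K.presheaf.stalk η) (c : X.presheaf.stalk η), stL κ η e = c • w → stL a η e = c • g :=
    fun e c hc => by rw [stL_comp, hc, map_smul, map_add, hfst, hfst0, add_zero]
  have hb : ∀ (e : K.presheaf.stalk η) (c : X.presheaf.stalk η), stL κ η e = c • w → stL b η e = c • q :=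
    fun e c hc => by rw [stL_comp, hc, map_smul, map_add, hsnd0, hsnd, zero_add]
  have hunit : ∀ c : X.presheaf.stalk η, c • q = 0 → c ∈ IsLocalRing.maximalIdeal (X.presheaf.stalk η) :=
    fun c hc => by
      by_contra hu
      exact hq ((IsLocalRing.notMem_maximalIdeal.1 hu).smul_eq_zero.1 hc)
  have hbsurj : Function.Surjective (stL b η) := fun y => by
    obtain ⟨c, rfl⟩ := hgen y
    obtain ⟨e, he⟩ := hlift c
    exact ⟨e, hb e c he⟩
  have hainj : Function.Injective (stL a η) := (injective_iff_map_eq_zero _).2 fun e he => by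
    obtain ⟨c, hc⟩ := hrange e
    have hcm : c ∈ IsLocalRing.maximalIdeal (X.presheaf.stalk η) := by
      by_contra hu
      exact hg ((IsLocalRing.notMem_maximalIdeal.1 hu).smul_eq_zero.1 ((ha e c hc).symm.trans he))
    refine stL_injective_of_mono κ η (hc.trans ?_)
    rw [map_zero, smul_add, ← map_smul, ← map_smul, hgkill c hcm, hqm c hcm, map_zero, map_zero,
      add_zero]
  have : Mono b := by
    refine (M1.mono_iff_app b).2 fun U => (injective_iff_map_eq_zero (b.app U).hom).2 fun s hs => ?_
    let t : Γ(E, U) := κ.app U s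
    have hs2 : (biprod.snd : E ⟶ Q).app U t = 0 := (M1.comp_app_apply κ biprod.snd U s).symm.trans hs
    have hs1 : (biprod.fst : E ⟶ G).app U t = 0 := by
      by_cases hU : η ∈ U
      · have hzero : G.presheaf.germ U η hU ((biprod.fst : E ⟶ G).app U t) = 0 := by
          obtain ⟨c, hc⟩ := hrange (K.presheaf.germ U η hU s)
          have h2 : c • q = 0 := by
            rw [← hb _ c hc, stL_germ]
            exact (congrArg (Q.presheaf.germ U η hU) hs).trans (map_zero _)
          have e1 : G.presheaf.germ U η hU ((biprod.fst : E ⟶ G).app U t) = stL a η (K.presheaf.germ U η hU s) := by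
            rw [stL_germ]; exact congrArg _ (M1.comp_app_apply κ biprod.fst U s).symm
          rw [e1, ha _ c hc, hgkill c (hunit c h2)]
        let u : Γ(Z, i ⁻¹ᵁ U) := (biprod.fst : E ⟶ G).app U t
        have h0 : (Coh.structureModule Z).presheaf.germ (i ⁻¹ᵁ U) (genericPoint Z) hU u = 0 :=
          (pushStalk_germ i _ _ U hU _).symm.trans ((congrArg (pushStalk i _ _) hzero).trans
            (map_zero (pushStalk i (Coh.structureModule Z) (genericPoint Z)).hom))
        have : Nonempty (i ⁻¹ᵁ U) := ⟨⟨_, hU⟩⟩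
        have hu : u = (0 : Γ(Z, i ⁻¹ᵁ U)) := by
          refine germ_injective_of_isIntegral Z (genericPoint Z) hU ?_
          rw [map_zero]
          obtain ⟨V, hV, i₁, i₂, he⟩ := (Coh.structureModule Z).presheaf.germ_eq (genericPoint Z)
            (U := i ⁻¹ᵁ U) (V := i ⁻¹ᵁ U) hU hU u (0 : Γ(Coh.structureModule Z, i ⁻¹ᵁ U)) (h0.trans (map_zero _).symm)
          rw [← Z.presheaf.germ_res_apply i₁ (genericPoint Z) hV]
          exact (congrArg (Z.presheaf.germ V _ hV) (he.trans (map_zero _))).trans (map_zero _)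
        exact hu
      · have e : i ⁻¹ᵁ U = ⊥ := le_bot_iff.1 fun z hz =>
          hU (((genericPoint_specializes z).map i.continuous).mem_open U.isOpen hz)
        have : Subsingleton Γ(Z, i ⁻¹ᵁ U) := by rw [e]; infer_instance
        exact @Subsingleton.elim _ this _ _
    refine M1.app_injective κ U ?_
    rw [map_zero]
    refine (congrArg (fun φ : E ⟶ E => φ.app U t) biprod.total).symm.trans ?_
    change (biprod.inl : G ⟶ E).app U ((biprod.fst : E ⟶ G).app U t) +
      (biprod.inr : Q ⟶ E).app U ((biprod.snd : E ⟶ Q).app U t) = 0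
    rw [hs1, hs2, map_zero, map_zero, add_zero]
  have hPQ : P K → P Q := fun h => by
    refine h₁ _ (shortExact_cokernel b) hK hQ (M1.isCoh_cokernel hK.1 hQ b) h ?_
    exact hsmall _ (M1.isCoh_cokernel hK.1 hQ b) ((support_subset_of_epi (cokernel.π b)).trans hQW)
      ((notMem_support_cokernel_iff b η).2 hbsurj)
  refine hPQ ?_
  let J := Abelian.image a
  have hC : Coh.IsCoh (cokernel a) := M1.isCoh_cokernel hK.1 hG a
  have hJ : Coh.IsCoh J := M1.isCoh_kernel hG hC.1 (cokernel.π a)
  have hker : Coh.IsCoh (kernel a) := M1.isCoh_kernel hK hG.1 a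
  let S : ShortComplex X.Modules := ShortComplex.mk (kernel.ι a) (Abelian.factorThruImage a)
    (by rw [← cancel_mono (Abelian.image.ι a), Category.assoc, Abelian.image.fac, zero_comp, kernel.condition])
  have hS : S.ShortExact :=
    { exact := ShortComplex.exact_of_f_is_kernel _ (KernelFork.IsLimit.ofι _ _
        (fun φ hφ => kernel.lift a φ (by rw [← Abelian.image.fac a, ← Category.assoc, hφ, zero_comp]))
        (fun φ hφ => kernel.lift_ι _ _ _) fun φ hφ m hm => by
          rw [← cancel_mono (kernel.ι a), kernel.lift_ι]; exact hm) }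
  refine h₁ S hS hker hK hJ (hsmall _ hker ((support_subset_of_mono (kernel.ι a)).trans hKW)
    (notMem_support_kernel a η hainj)) ?_
  obtain ⟨I, ι, hι, hI, ⟨e⟩⟩ := exists_ideal_push_iso i hC.1 (cokernel.π a)
  exact hP _ _ ⟨e⟩ (h₂ Z i hi hZ I ι hι hI)

end Groth.Agent.CohFound
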