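import Groth.Agent.Lib.CohFound.SecQCoh
import Groth.Agent.Lib.CohFound.ModulesInst

/-!
# Higher direct images of quasi-coherent modules along qcqs morphisms are quasi-coherent
-/

set_option maxHeartbeats 400000

universe u

open CategoryTheory TopologicalSpace Opposite CategoryTheory.Limits AlgebraicGeometry

namespace Groth.Agent.CohFound

variable {X Y : Scheme.{u}} {M : X.Modules}

lemma pushRestrictIso_natural {U V : Scheme.{u}} {f : X ⟶ Y} {f' : U ⟶ V} {i : U ⟶ X} {j : V ⟶ Y}
    [IsOpenImmersion i] [IsOpenImmersion j] (H : IsPullback f' i j f) {F G : X.Modules} (φ : F ⟶ G) :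
    (Scheme.Modules.restrictFunctor j).map ((Scheme.Modules.pushforward f).map φ) ≫
        (M1.pushRestrictIso H G).hom =
      (M1.pushRestrictIso H F).hom ≫
        (Scheme.Modules.pushforward f').map ((Scheme.Modules.restrictFunctor i).map φ) := by
  ext W (s : Γ(F, f ⁻¹ᵁ (j ''ᵁ W)))
  exact (M1.app_mres φ (M1.image_preimage_eq H W).le s).symm

/-- Restricting the pushed resolution. -/
noncomputable def pushSCRestrictIso (R : ModRes M) {U V : Scheme.{u}} {f : X ⟶ Y} {f' : U ⟶ V}
    {i : U ⟶ X} {j : V ⟶ Y} [IsOpenImmersion i] [IsOpenImmersion j] (H : IsPullback f' i j f)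
    (a q : ℕ) : (R.pushSC f a q).map (Scheme.Modules.restrictFunctor j) ≅
      (R.restrict i).pushSC f' a q :=
  ShortComplex.isoMk (M1.pushRestrictIso H _) (M1.pushRestrictIso H _) (M1.pushRestrictIso H _)
    (pushRestrictIso_natural H (R.K.d a q)).symm (pushRestrictIso_natural H (R.K.d q (q + 1))).symm

/-- The homology of the direct image of a flasque resolution of a quasi-coherent module along a
qcqs morphism is quasi-coherent. -/
theorem isQCoh_homology_pushSC (R : ModRes M) (f : X ⟶ Y) [QuasiCompact f] [QuasiSeparated f]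
    (hM : Coh.IsQCoh M) {a q : ℕ} (ha : (ComplexShape.up ℕ).prev q = a) :
    Coh.IsQCoh (R.pushSC f a q).homology := by
  refine M1.isQCoh_of_fromSpec fun U hU => ?_
  have H₀ := isPullback_morphismRestrict f U
  have H : IsPullback (f ∣_ U ≫ hU.isoSpec.hom) (f ⁻¹ᵁ U).ι hU.fromSpec f :=
    H₀.of_iso (Iso.refl _) hU.isoSpec (Iso.refl _) (Iso.refl _) (by simp) (by simp)
      (by simp [← IsAffineOpen.isoSpec_inv_ι]) (by simp)
  have : IsAffine U := hU
  have : CompactSpace (f ⁻¹ᵁ U : X.Opens) :=
    isCompact_iff_compactSpace.mp (QuasiCompact.isCompact_preimage _ U.isOpen hU.isCompact)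
  have : QuasiSeparatedSpace (f ⁻¹ᵁ U : X.Opens) := quasiSeparatedSpace_of_quasiSeparated (f ∣_ U)
  have := M1.isQCoh_restrict hM (f ⁻¹ᵁ U).ι
  refine M1.isQCoh_of_isIso
    (((R.pushSC f a q).mapHomologyIso (Scheme.Modules.restrictFunctor hU.fromSpec)).symm ≪≫
      ShortComplex.homologyMapIso (pushSCRestrictIso R H a q)).symm ?_
  exact isQuasicoherent_homology_pushSC (R.restrict (f ⁻¹ᵁ U).ι) (f ∣_ U ≫ hU.isoSpec.hom) ha

/-- `R^p f_* M` is the homology of the pushed resolution. -/
noncomputable def rpushPushSCIso (f : X ⟶ Y) [HasInjectiveResolutions X.Modules]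
    (I : InjectiveResolution M) (q : ℕ) :
    (Coh.Rpush f q).obj M ≅
      ((ModRes.ofInj I).pushSC f ((ComplexShape.up ℕ).prev q) q).homology :=
  I.isoRightDerivedObj (Scheme.Modules.pushforward f) q ≪≫
    ShortComplex.homologyMapIso ((((Scheme.Modules.pushforward f).mapHomologicalComplex
      (ComplexShape.up ℕ)).obj I.cocomplex).isoSc' _ q (q + 1) rfl (CochainComplex.next ℕ q))

/-- Higher direct images of quasi-coherent modules along qcqs morphisms are quasi-coherent. -/
theorem isQCoh_rpush (f : X ⟶ Y) [QuasiCompact f] [QuasiSeparated f]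
    [HasInjectiveResolutions X.Modules] (hM : Coh.IsQCoh M) (q : ℕ) :
    Coh.IsQCoh ((Coh.Rpush f q).obj M) :=
  M1.isQCoh_of_isIso (rpushPushSCIso f (injectiveResolution M) q).symm
    (isQCoh_homology_pushSC _ f hM rfl)

end Groth.Agent.CohFound
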