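import Groth.Agent.Lib.CohFound.RpushQCoh
import Groth.Agent.Lib.CohFound.ProperFinite

/-!
# Higher direct images of coherent modules along proper morphisms are coherent
-/

set_option autoImplicit false

universe u

open CategoryTheory TopologicalSpace Opposite CategoryTheory.Limits AlgebraicGeometry

namespace Groth.Agent.CohFound

section Spec

variable {X : Scheme.{u}} {A : CommRingCat.{u}} [CompactSpace X] [QuasiSeparatedSpace X]

/-- Over an affine base, the homology of the pushed resolution is of finite type if the cohomology is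
finite. -/
theorem isFT_homology_pushSC {M : X.Modules} (R : ModRes M) (f : X ⟶ Spec A) [M.IsQuasicoherent]
    {i q : ℕ} (hi : (ComplexShape.up ℕ).prev q = i) (hfin : HFin (baseHom f) M q ⊤) :
    CohB1.IsFT (R.pushSC f i q).homology := by
  refine (M1.isFT_iff_finite_spec _ (isQuasicoherent_homology_pushSC R f hi)).2 ?_
  let D := modHData f R i q
  have htop : SecGood (R.toAug.pushSC (f.base : sp X ⟶ sp (Spec A)) i q) (⊤ : (Spec A).Opens) :=
    M1.bo_one (R := A) ▸ secGood_bo f M R.toAug R.acyclicOn hi 1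
  let θ := AugCx.secEquiv D htop (R.acyclicOn _) hi
  let := hMod (baseHom f) M q ⊤
  have : Module.Finite A (Hc ((abF X).obj M) q ⊤) := hfin
  have hsmul : ∀ (a : A) (s : Γ((R.pushSC f i q).homology, ⊤)),
      θ (M1.gs a • s : Γ((R.pushSC f i q).homology, ⊤)) = gMul M (baseHom f a) q ⊤ (θ s) := by
    intro a s
    obtain ⟨z, hz⟩ : ∃ z : Γ((R.pushSC f i q).cycles, ⊤),
        (R.pushSC f i q).homologyπ.app ⊤ z = s := AugCx.π_surjective D htop s
    subst hz
    have e : θ (M1.gs a • (R.pushSC f i q).homologyπ.app ⊤ z : Γ((R.pushSC f i q).homology, ⊤)) =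
        AugCx.dataCls D ⊤ (M1.gs a • z : Γ((R.pushSC f i q).cycles, ⊤)) := by
      rw [← Scheme.Modules.Hom.app_smul]
      exact AugCx.secEquiv_π D htop (R.acyclicOn _) hi _
    exact e.trans ((dataCls_smul f R i q ⊤ _ (baseHom f a)
      (M1.ores_id (le_top : f ⁻¹ᵁ (⊤ : (Spec A).Opens) ≤ ⊤) _).symm z).trans
      (congrArg (gMul M (baseHom f a) q _) (AugCx.secEquiv_π D htop (R.acyclicOn _) hi z).symm))
  let L : Hc ((abF X).obj M) q ⊤ →ₗ[A] moduleSpecΓFunctor.obj (R.pushSC f i q).homology :=
    { toFun := θ.symm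
      map_add' := fun x y => map_add θ.symm x y
      map_smul' := fun a x => θ.injective ((θ.apply_symm_apply _).trans
        ((congrArg (gMul M (baseHom f a) q ⊤) (θ.apply_symm_apply x)).symm.trans (hsmul a _).symm)) }
  exact Module.Finite.of_surjective L θ.symm.surjective

end Spec

/-- Higher direct images of coherent modules along proper morphisms are coherent. -/
theorem isCoh_rpush {X S : Scheme.{u}} (f : X ⟶ S) [IsProper f] [IsLocallyNoetherian S]
    [HasInjectiveResolutions X.Modules] {M : X.Modules} (hM : Coh.IsCoh M) (q : ℕ) :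
    Coh.IsCoh ((Coh.Rpush f q).obj M) := by
  refine ⟨isQCoh_rpush f hM.1 q, M1.isFT_of_isIso (rpushPushSCIso f (injectiveResolution M) q).symm ?_⟩
  refine M1.isFT_of_fromSpec fun U hU => ?_
  let R := ModRes.ofInj (injectiveResolution M)
  have H : IsPullback (f ∣_ U ≫ hU.isoSpec.hom) (f ⁻¹ᵁ U).ι hU.fromSpec f :=
    (isPullback_morphismRestrict f U).of_iso (Iso.refl _) hU.isoSpec (Iso.refl _) (Iso.refl _)
      (by simp) (by simp) (by simp [← IsAffineOpen.isoSpec_inv_ι]) (by simp)
  have : IsNoetherianRing Γ(S, U) := IsLocallyNoetherian.component_noetherian ⟨U, hU⟩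
  have : IsProper (f ∣_ U) := inferInstance
  let g : (f ⁻¹ᵁ U : Scheme.{u}) ⟶ Spec Γ(S, U) := f ∣_ U ≫ hU.isoSpec.hom
  have : IsProper g := inferInstance
  have : CompactSpace (f ⁻¹ᵁ U : X.Opens) := QuasiCompact.compactSpace_of_compactSpace g
  have : QuasiSeparatedSpace (f ⁻¹ᵁ U : X.Opens) := quasiSeparatedSpace_of_quasiSeparated g
  have := M1.isQCoh_restrict hM.1 (f ⁻¹ᵁ U).ι
  refine M1.isFT_of_isIso
    (((R.pushSC f ((ComplexShape.up ℕ).prev q) q).mapHomologyIso
      (Scheme.Modules.restrictFunctor hU.fromSpec)).symm ≪≫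
      ShortComplex.homologyMapIso (pushSCRestrictIso R H _ q)).symm ?_
  exact isFT_homology_pushSC _ g rfl
    (hFin_proper g _ ⟨inferInstance, M1.isFT_restrict hM.2 _⟩ q)

end Groth.Agent.CohFound
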