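import Groth.Agent.Lib.CohFound.Flasque

/-!
# Short exact sequences of sheaves through sections, and dimension shifting
-/

universe u

open CategoryTheory TopologicalSpace Opposite CategoryTheory.Limits Abelian

namespace Groth.Agent.CohFound

variable {X Y : TopCat.{u}}

lemma injective_app_of_mono {F G : CohTop.Ab X} (φ : F ⟶ G) [Mono φ] (U : Opens X) :
    Function.Injective (φ.hom.app (op U)) := by
  have : Mono φ.hom :=
    (sheafToPresheaf (Opens.grothendieckTopology X) AddCommGrpCat.{u}).map_mono φ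
  exact (AddCommGrpCat.mono_iff_injective _).1 inferInstance

lemma mono_of_injective_app {F G : CohTop.Ab X} (φ : F ⟶ G)
    (h : ∀ U, Function.Injective (φ.hom.app (op U))) : Mono φ := by
  have : ∀ U, Mono (φ.hom.app U) := fun U => (AddCommGrpCat.mono_iff_injective _).2 (h U.unop)
  have : Mono φ.hom := NatTrans.mono_of_mono_app _
  exact (sheafToPresheaf (Opens.grothendieckTopology X) AddCommGrpCat.{u}).mono_of_mono_map this

lemma epi_of_locally_lift {F G : CohTop.Ab X} (φ : F ⟶ G)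
    (h : ∀ (U : Opens X) (s : G.obj.obj (op U)) (x : X), x ∈ U → ∃ (V : Opens X) (hV : V ≤ U),
      x ∈ V ∧ ∃ t, φ.hom.app (op V) t = G.obj.map (homOfLE hV).op s) : Epi φ := by
  refine (TopCat.Sheaf.isLocallySurjective_iff_epi φ).mp
    ((TopCat.Presheaf.isLocallySurjective_iff φ.hom).mpr fun U s x hx => ?_)
  obtain ⟨V, hV, hxV, ht⟩ := h U s x hx
  exact ⟨V, hV, ht, hxV⟩

lemma locally_lift_of_epi {F G : CohTop.Ab X} (φ : F ⟶ G) [Epi φ] (U : Opens X)
    (s : G.obj.obj (op U)) {x : X} (hx : x ∈ U) : ∃ (V : Opens X) (hV : V ≤ U),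
      x ∈ V ∧ ∃ t, φ.hom.app (op V) t = G.obj.map (homOfLE hV).op s := by
  have := (TopCat.Sheaf.isLocallySurjective_iff_epi φ).mpr ‹Epi φ›
  obtain ⟨V, hV, ht, hxV⟩ := (TopCat.Presheaf.isLocallySurjective_iff φ.hom).mp this U s x hx
  exact ⟨V, hV, hxV, ht⟩

lemma exact_app {S : ShortComplex (CohTop.Ab X)} (hS : S.Exact) [Mono S.f] {U : Opens X}
    (s : S.X₂.obj.obj (op U)) (hs : S.g.hom.app (op U) s = 0) :
    ∃ t, S.f.hom.app (op U) t = s :=
  TopCat.Sheaf.sections_exact_of_left_exact hS ‹Mono S.f› s hs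

lemma exact_of_sections {S : ShortComplex (CohTop.Ab X)}
    (hex : ∀ (U : Opens X) (s : S.X₂.obj.obj (op U)), S.g.hom.app (op U) s = 0 →
      ∃ t, S.f.hom.app (op U) t = s) : S.Exact := by
  rw [ShortComplex.exact_iff_epi_kernel_lift]
  refine epi_of_locally_lift _ fun U s x hx => ?_
  obtain ⟨t, ht⟩ := hex U ((kernel.ι S.g).hom.app (op U) s) (by
    exact congrArg (fun φ : kernel S.g ⟶ S.X₃ => φ.hom.app (op U) s) (kernel.condition S.g))
  refine ⟨U, le_rfl, hx, t, injective_app_of_mono (kernel.ι S.g) U ?_⟩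
  have e : (kernel.ι S.g).hom.app (op U) ((kernel.lift S.g S.f S.zero).hom.app (op U) t) =
      S.f.hom.app (op U) t :=
    congrArg (fun φ : S.X₁ ⟶ S.X₂ => φ.hom.app (op U) t) (kernel.lift_ι S.g S.f S.zero)
  rw [e, ht]
  simp

/-- A criterion for short exactness in terms of sections. -/
lemma shortExact_of_sections {S : ShortComplex (CohTop.Ab X)}
    (hf : ∀ U, Function.Injective (S.f.hom.app (op U)))
    (hex : ∀ (U : Opens X) (s : S.X₂.obj.obj (op U)), S.g.hom.app (op U) s = 0 →
      ∃ t, S.f.hom.app (op U) t = s)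
    (hg : ∀ (U : Opens X) (s : S.X₃.obj.obj (op U)) (x : X), x ∈ U → ∃ (V : Opens X) (hV : V ≤ U),
      x ∈ V ∧ ∃ t, S.g.hom.app (op V) t = S.X₃.obj.map (homOfLE hV).op s) : S.ShortExact where
  exact := exact_of_sections hex
  mono_f := mono_of_injective_app _ hf
  epi_g := epi_of_locally_lift _ hg

lemma app_surjective_of_subsingleton {S : ShortComplex (CohTop.Ab X)} (hS : S.ShortExact)
    (U : Opens X) (h : Subsingleton (Hc S.X₁ 1 U)) :
    Function.Surjective (S.g.hom.app (op U)) := by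
  intro s
  obtain ⟨y, hy⟩ := exact₃ hS 0 U ((hc0 S.X₃ U).symm s) (Subsingleton.elim _ _)
  exact ⟨hc0 S.X₂ U y, by rw [← hc0_mp, hy, AddEquiv.apply_symm_apply]⟩

/-- The connecting map from sections. -/
noncomputable def delta₀ {S : ShortComplex (CohTop.Ab X)} (hS : S.ShortExact) (U : Opens X) :
    S.X₃.obj.obj (op U) →+ Hc S.X₁ 1 U :=
  (delta hS 0 U).comp (hc0 S.X₃ U).symm.toAddMonoidHom

lemma delta₀_ker {S : ShortComplex (CohTop.Ab X)} (hS : S.ShortExact) (U : Opens X) :
    (delta₀ hS U).ker = (S.g.hom.app (op U)).hom.range := by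
  ext s
  constructor
  · intro hs
    obtain ⟨y, hy⟩ := exact₃ hS 0 U ((hc0 S.X₃ U).symm s) hs
    exact ⟨hc0 S.X₂ U y, (hc0_mp S.g U y).symm.trans (by rw [hy, AddEquiv.apply_symm_apply])⟩
  · rintro ⟨t, rfl⟩
    show delta hS 0 U ((hc0 S.X₃ U).symm _) = 0
    have e : (hc0 S.X₃ U).symm ((S.g.hom.app (op U)).hom t) =
        mp S.g 0 U ((hc0 S.X₂ U).symm t) := by
      apply (hc0 S.X₃ U).injective
      rw [hc0_mp, AddEquiv.apply_symm_apply, AddEquiv.apply_symm_apply]
    rw [e, delta_mp]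

lemma delta₀_surjective {S : ShortComplex (CohTop.Ab X)} (hS : S.ShortExact) (U : Opens X)
    (h : Subsingleton (Hc S.X₂ 1 U)) : Function.Surjective (delta₀ hS U) := by
  intro x
  obtain ⟨c, rfl⟩ := exact₁ hS 0 U x (Subsingleton.elim _ _)
  exact ⟨hc0 S.X₃ U c, by simp [delta₀]⟩

lemma delta_bijective {S : ShortComplex (CohTop.Ab X)} (hS : S.ShortExact) (n : ℕ) (U : Opens X)
    (h₁ : Subsingleton (Hc S.X₂ (n + 1) U)) (h₂ : Subsingleton (Hc S.X₂ (n + 2) U)) :
    Function.Bijective (delta hS (n + 1) U) := by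
  refine ⟨?_, fun x => ?_⟩
  · rw [← AddMonoidHom.ker_eq_bot_iff, AddSubgroup.eq_bot_iff_forall]
    intro c hc
    obtain ⟨y, rfl⟩ := exact₃ hS (n + 1) U c hc
    rw [Subsingleton.elim y 0, map_zero]
  · exact exact₁ hS (n + 1) U x (Subsingleton.elim _ _)

lemma subsingleton_hc_injSC_X₃ (F : CohTop.Ab X) (n : ℕ) (U : Opens X)
    (h : Subsingleton (Hc F (n + 2) U)) : Subsingleton (Hc (injSC F).X₃ (n + 1) U) :=
  (delta_bijective (injSC_shortExact F) n U (subsingleton_hc_injective _ n U)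
    (subsingleton_hc_injective _ (n + 1) U)).1.subsingleton

lemma subsingleton_hc_of_exact {S : ShortComplex (CohTop.Ab X)} (hS : S.ShortExact) (n : ℕ)
    (U : Opens X) (h₁ : Subsingleton (Hc S.X₁ n U)) (h₃ : Subsingleton (Hc S.X₃ n U)) :
    Subsingleton (Hc S.X₂ n U) := by
  refine subsingleton_of_forall_eq 0 fun x => ?_
  obtain ⟨y, rfl⟩ := exact₂ hS n U x (Subsingleton.elim _ _)
  rw [Subsingleton.elim y 0, map_zero]

/-- Comparison of cohomology along a functor `Φ` which computes sections by an opens map,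
kills higher cohomology of injectives, and is exact enough (as recorded by `P`). -/
theorem nonempty_addEquiv_of_dimShift (Φ : CohTop.Ab X ⥤ CohTop.Ab Y) [Φ.PreservesZeroMorphisms]
    (U : Opens X) (V : Opens Y)
    (e : ∀ F : CohTop.Ab X, (Φ.obj F).obj.obj (op V) ≃+ F.obj.obj (op U))
    (he : ∀ {F G : CohTop.Ab X} (φ : F ⟶ G) s,
      e G ((Φ.map φ).hom.app (op V) s) = φ.hom.app (op U) (e F s))
    (hI : ∀ I : CohTop.Ab X, Injective I → ∀ n, Subsingleton (Hc (Φ.obj I) (n + 1) V))
    (P : ℕ → CohTop.Ab X → Prop)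
    (hP : ∀ m F, P (m + 1) F → ((injSC F).map Φ).ShortExact ∧ P m (injSC F).X₃)
    (n : ℕ) (F : CohTop.Ab X) (hF : P n F) :
    Nonempty (Hc (Φ.obj F) n V ≃+ Hc F n U) := by
  induction n generalizing F with
  | zero => exact ⟨(hc0 _ V).trans ((e F).trans (hc0 F U).symm)⟩
  | succ n ih =>
    obtain ⟨hS', hQ⟩ := hP n F hF
    have hS := injSC_shortExact F
    cases n with
    | zero =>
      let eQ := e (injSC F).X₃
      have hrange : (((injSC F).map Φ).g.hom.app (op V)).hom.range.map eQ.toAddMonoidHom =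
          ((injSC F).g.hom.app (op U)).hom.range := by
        ext s
        constructor
        · rintro ⟨_, ⟨t, rfl⟩, rfl⟩
          exact ⟨e _ t, (he (injSC F).g t).symm⟩
        · rintro ⟨t, rfl⟩
          refine ⟨_, ⟨(e _).symm t, rfl⟩, ?_⟩
          exact (he (injSC F).g _).trans (by rw [AddEquiv.apply_symm_apply])
      exact ⟨((QuotientAddGroup.quotientKerEquivOfSurjective _
          (delta₀_surjective hS' V (hI _ inferInstance 0))).symm.trans
        ((QuotientAddGroup.quotientAddEquivOfEq (delta₀_ker hS' V)).trans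
          ((QuotientAddGroup.congr _ _ eQ hrange).trans
            ((QuotientAddGroup.quotientAddEquivOfEq (delta₀_ker hS U).symm).trans
              (QuotientAddGroup.quotientKerEquivOfSurjective _
                (delta₀_surjective hS U (subsingleton_hc_injective _ 0 U)))))))⟩
    | succ k =>
      obtain ⟨eq⟩ := ih (injSC F).X₃ hQ
      exact ⟨((AddEquiv.ofBijective _ (delta_bijective hS' k V (hI _ inferInstance k)
          (hI _ inferInstance (k + 1)))).symm.trans eq).trans
        (AddEquiv.ofBijective _ (delta_bijective hS k U (subsingleton_hc_injective _ k U)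
          (subsingleton_hc_injective _ (k + 1) U)))⟩

end Groth.Agent.CohFound
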