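import Groth.Agent.Lib.CohFound.DimShift
import Mathlib.Topology.Sheaves.SheafCondition.Sites

/-!
# Cohomology and direct images, restriction to opens
-/

universe u

open CategoryTheory TopologicalSpace Opposite CategoryTheory.Limits Abelian

namespace Groth.Agent.CohFound

variable {X Y : TopCat.{u}}

lemma map_map_apply (F : CohTop.Ab X) {U V W : Opens X} (h : V ≤ U) (h' : W ≤ V)
    (s : F.obj.obj (op U)) :
    F.obj.map (homOfLE h').op (F.obj.map (homOfLE h).op s) =
      F.obj.map (homOfLE (h'.trans h)).op s := by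
  rw [← CategoryTheory.Functor.map_comp_apply]
  rfl

/-- Transport of sections along an equality of opens. -/
noncomputable def secEquiv (F : CohTop.Ab X) {U V : Opens X} (h : U = V) :
    F.obj.obj (op U) ≃+ F.obj.obj (op V) :=
  AddMonoidHom.toAddEquiv (F.obj.map (homOfLE h.ge).op).hom (F.obj.map (homOfLE h.le).op).hom
    (by subst h; ext s; simp) (by subst h; ext s; simp)

lemma secEquiv_apply (F : CohTop.Ab X) {U V : Opens X} (h : U = V) (s : F.obj.obj (op U)) :
    secEquiv F h s = F.obj.map (homOfLE h.ge).op s := rfl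

lemma secEquiv_natural {F G : CohTop.Ab X} (φ : F ⟶ G) {U V : Opens X} (h : U = V)
    (s : F.obj.obj (op U)) :
    secEquiv G h (φ.hom.app (op U) s) = φ.hom.app (op V) (secEquiv F h s) :=
  (NatTrans.naturality_apply φ.hom (homOfLE h.ge).op s).symm

section Push

variable (f : X ⟶ Y)

/-- A short exact sequence pushes forward to one if `H¹` of the kernel vanishes over a basis. -/
lemma shortExact_push {S : ShortComplex (CohTop.Ab X)} (hS : S.ShortExact) {B : Set (Opens Y)}
    (hB : Opens.IsBasis B) (h : ∀ V ∈ B, Subsingleton (Hc S.X₁ 1 ((Opens.map f).obj V))) :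
    (S.map (CohTop.push f)).ShortExact := by
  have := hS.mono_f
  refine shortExact_of_sections (fun V => injective_app_of_mono S.f ((Opens.map f).obj V))
    (fun V s hs => exact_app hS.exact (U := (Opens.map f).obj V) s hs) fun V s y hy => ?_
  obtain ⟨W, hWB, hyW, hWV⟩ := Opens.isBasis_iff_nbhd.1 hB hy
  obtain ⟨t, ht⟩ := app_surjective_of_subsingleton hS ((Opens.map f).obj W) (h W hWB)
    (S.X₃.obj.map ((Opens.map f).map (homOfLE hWV)).op s)
  exact ⟨W, hWV, hyW, t, ht⟩

/-- `H^q(f⁻¹ V, F) = 0` for basic `V` and `1 ≤ q ≤ m`. -/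
def PushAcyclicUpTo (B : Set (Opens Y)) (m : ℕ) (F : CohTop.Ab X) : Prop :=
  ∀ q < m, ∀ V ∈ B, Subsingleton (Hc F (q + 1) ((Opens.map f).obj V))

lemma PushAcyclicUpTo.cokernel {B : Set (Opens Y)} {m : ℕ} {F : CohTop.Ab X}
    (h : PushAcyclicUpTo f B (m + 1) F) : PushAcyclicUpTo f B m (injSC F).X₃ :=
  fun q hq V hV => subsingleton_hc_injSC_X₃ F q _ (h (q + 1) (by omega) V hV)

/-- Cohomology of a direct image, when the relevant higher cohomology over a basis vanishes. -/
theorem nonempty_hc_push {B : Set (Opens Y)} (hB : Opens.IsBasis B) (n : ℕ) (F : CohTop.Ab X)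
    (hF : PushAcyclicUpTo f B n F) (V : Opens Y) :
    Nonempty (Hc ((CohTop.push f).obj F) n V ≃+ Hc F n ((Opens.map f).obj V)) := by
  refine nonempty_addEquiv_of_dimShift (CohTop.push f) ((Opens.map f).obj V) V
    (fun F => AddEquiv.refl _) (fun φ s => rfl) (fun I hI m => ?_) (PushAcyclicUpTo f B)
    (fun m F hF => ⟨?_, hF.cokernel f⟩) n F hF
  · have := isFlasque_of_injective I
    have : TopCat.Sheaf.IsFlasque ((CohTop.push f).obj I) :=
      TopCat.Sheaf.IsFlasque.pushforward_isFlasque I f
    exact subsingleton_hc_of_isFlasque _ m V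
  · exact shortExact_push f (injSC_shortExact F) hB (fun W hW => hF 0 (Nat.succ_pos _) W hW)

end Push

section Restr

variable (U : Opens X)

/-- The image in `X` of an open of `U`. -/
abbrev im (W : Opens (TopCat.of U)) : Opens X :=
  U.isOpenEmbedding.isOpenMap.functor.obj W

lemma mem_im {W : Opens (TopCat.of U)} {x : X} : x ∈ im U W ↔ ∃ h : x ∈ U, ⟨x, h⟩ ∈ W := by
  constructor
  · rintro ⟨y, hy, rfl⟩
    exact ⟨y.2, hy⟩
  · rintro ⟨h, hx⟩
    exact ⟨⟨x, h⟩, hx, rfl⟩

lemma im_top : im U ⊤ = U := by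
  ext x
  exact ⟨fun hx => ((mem_im U).1 hx).1, fun hx => (mem_im U).2 ⟨hx, trivial⟩⟩

lemma im_le_im {W W' : Opens (TopCat.of U)} (h : W ≤ W') : im U W ≤ im U W' :=
  leOfHom (U.isOpenEmbedding.isOpenMap.functor.map (homOfLE h))

instance isFlasque_restr (F : CohTop.Ab X) [TopCat.Sheaf.IsFlasque F] :
    TopCat.Sheaf.IsFlasque (CohTop.restr F U) :=
  isFlasque_mk _ fun _ _ h => flasque_surjective F (im_le_im U h)

lemma shortExact_restr {S : ShortComplex (CohTop.Ab X)} (hS : S.ShortExact) :
    (S.map (CohTop.restrFunctor U)).ShortExact := by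
  have := hS.mono_f
  have := hS.epi_g
  refine shortExact_of_sections (fun W => injective_app_of_mono S.f (im U W))
    (fun W s hs => exact_app hS.exact (U := im U W) s hs) fun W s x hx => ?_
  obtain ⟨V, hV, hxV, t, ht⟩ := locally_lift_of_epi S.g (im U W) s (x := x.1)
    ((mem_im U).2 ⟨x.2, hx⟩)
  let V' : Opens (TopCat.of U) := ⟨{y | y.1 ∈ V}, V.2.preimage continuous_subtype_val⟩
  have hV' : im U V' ≤ V := fun z hz => ((mem_im U).1 hz).2
  have hW : V' ≤ W := fun y hy => ((mem_im U).1 (hV hy)).2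
  refine ⟨V', hW, hxV, S.X₂.obj.map (homOfLE hV').op t, ?_⟩
  refine (NatTrans.naturality_apply S.g.hom (homOfLE hV').op t).trans ?_
  rw [ht, map_map_apply]
  rfl

/-- `H^n(U, F)` is the cohomology of the restriction of `F` to `U`. -/
theorem nonempty_hc_restr (F : CohTop.Ab X) (n : ℕ) (W : Opens (TopCat.of U)) :
    Nonempty (Hc (CohTop.restr F U) n W ≃+ Hc F n (im U W)) := by
  refine nonempty_addEquiv_of_dimShift (CohTop.restrFunctor U) (im U W) W
    (fun F => AddEquiv.refl _) (fun φ s => rfl) (fun I hI m => ?_) (fun _ _ => True)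
    (fun m F _ => ⟨shortExact_restr U (injSC_shortExact F), trivial⟩) n F trivial
  have := isFlasque_of_injective I
  exact subsingleton_hc_of_isFlasque _ m W

/-- The inclusion of an open subspace. -/
noncomputable abbrev inclOpen : TopCat.of U ⟶ X :=
  TopCat.ofHom ⟨Subtype.val, continuous_subtype_val⟩

/-- `V ↦ F(U ∩ V)`. -/
noncomputable abbrev cut : CohTop.Ab X ⥤ CohTop.Ab X :=
  CohTop.restrFunctor U ⋙ CohTop.push (inclOpen U)

lemma im_preimage (V : Opens X) : im U ((Opens.map (inclOpen U)).obj V) = U ⊓ V := by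
  ext x
  exact ⟨fun hx => ⟨((mem_im U).1 hx).1, ((mem_im U).1 hx).2⟩,
    fun hx => (mem_im U).2 ⟨hx.1, hx.2⟩⟩

lemma im_preimage_le (V : Opens X) : im U ((Opens.map (inclOpen U)).obj V) ≤ V :=
  fun _ hx => ((mem_im U).1 hx).2

instance : (cut U).Additive where
  map_add {_ _ _ _} := rfl

instance : (cut U).PreservesZeroMorphisms where
  map_zero _ _ := rfl

/-- The map `F(V) → F(U ∩ V)`. -/
noncomputable def toCut (F : CohTop.Ab X) : F ⟶ (cut U).obj F :=
  ⟨{ app := fun V => F.obj.map (homOfLE (im_preimage_le U V.unop)).op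
     naturality := fun V V' i => by
       change F.obj.map i ≫ F.obj.map _ = F.obj.map _ ≫ F.obj.map _
       rw [← CategoryTheory.Functor.map_comp, ← CategoryTheory.Functor.map_comp]
       exact congrArg F.obj.map (Quiver.Hom.unop_inj (Subsingleton.elim _ _)) }⟩

lemma toCut_app (F : CohTop.Ab X) (V : Opens X) (s : F.obj.obj (op V)) :
    (toCut U F).hom.app (op V) s = F.obj.map (homOfLE (im_preimage_le U V)).op s := rfl

lemma toCut_natural {F G : CohTop.Ab X} (φ : F ⟶ G) :
    φ ≫ toCut U G = toCut U F ≫ (cut U).map φ := by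
  ext V s
  exact (NatTrans.naturality_apply φ.hom (homOfLE (im_preimage_le U V.unop)).op s).symm

/-- `H^q(U ∩ V, F) = 0` for basic `V` and `1 ≤ q ≤ m`. -/
def CutAcyclicUpTo (B : Set (Opens X)) (m : ℕ) (F : CohTop.Ab X) : Prop :=
  ∀ q < m, ∀ V ∈ B, Subsingleton (Hc F (q + 1) (U ⊓ V))

lemma shortExact_cut {S : ShortComplex (CohTop.Ab X)} (hS : S.ShortExact) {B : Set (Opens X)}
    (hB : Opens.IsBasis B) (h : ∀ V ∈ B, Subsingleton (Hc S.X₁ 1 (U ⊓ V))) :
    (S.map (cut U)).ShortExact := by
  refine shortExact_push (inclOpen U) (shortExact_restr U hS) hB fun V hV => ?_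
  obtain ⟨e⟩ := nonempty_hc_restr U S.X₁ 1 ((Opens.map (inclOpen U)).obj V)
  have : Subsingleton (Hc S.X₁ 1 (im U ((Opens.map (inclOpen U)).obj V))) := by
    rw [im_preimage]; exact h V hV
  exact e.toEquiv.subsingleton

/-- A class on `W` restricting to zero on `U ∩ W` dies in `H(W, V ↦ F(U ∩ V))`, provided the
cohomology of `F` in lower positive degrees vanishes on `U ∩ V` for basic `V`. -/
theorem mp_toCut_eq_zero {B : Set (Opens X)} (hB : Opens.IsBasis B) (n : ℕ) (F : CohTop.Ab X)
    (hF : CutAcyclicUpTo U B n F) (W : Opens X) (ξ : Hc F (n + 1) W)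
    (hξ : rs F (n + 1) (inf_le_right : U ⊓ W ≤ W) ξ = 0) :
    mp (toCut U F) (n + 1) W ξ = 0 := by
  induction n generalizing F with
  | zero =>
    obtain ⟨c, rfl⟩ := exact₁ (injSC_shortExact F) 0 W ξ (Subsingleton.elim _ _)
    replace hξ := (delta_rs (injSC_shortExact F) 0 _ c).trans hξ
    obtain ⟨t', ht'⟩ := exact₃ (injSC_shortExact F) 0 _ _ hξ
    -- the short exact sequence `F^U → I^U → coker`
    let S' : ShortComplex (CohTop.Ab X) :=
      ShortComplex.mk ((cut U).map (injSC F).f) (cokernel.π _) (cokernel.condition _)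
    have hS := injSC_shortExact F
    have := hS.mono_f
    have hex : ((injSC F).map (cut U)).Exact :=
      exact_of_sections fun V s hs => exact_app hS.exact (U := im U _) s hs
    have hmono : Mono ((cut U).map (injSC F).f) :=
      mono_of_injective_app _ fun V => injective_app_of_mono (injSC F).f (im U _)
    have hS' : S'.ShortExact :=
      { exact := ShortComplex.exact_of_g_is_cokernel _ (cokernelIsCokernel _) }
    let φ : injSC F ⟶ S' :=
      { τ₁ := toCut U (injSC F).X₁
        τ₂ := toCut U (injSC F).X₂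
        τ₃ := cokernel.desc _ (toCut U (injSC F).X₂ ≫ cokernel.π _) (by
          rw [← Category.assoc]
          erw [toCut_natural U (Injective.ι F)]
          rw [Category.assoc]
          erw [cokernel.condition]
          rw [comp_zero])
        comm₁₂ := (toCut_natural U (injSC F).f).symm
        comm₂₃ := (cokernel.π_desc _ _ _).symm }
    refine (delta_natural (injSC_shortExact F) hS' φ 0 W c).trans ?_
    -- the image of `c` lifts
    let j : S'.X₃ ⟶ (cut U).obj (injSC F).X₃ := cokernel.desc _ ((cut U).map (injSC F).g)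
      (((injSC F).map (cut U)).zero)
    have : Mono j := hex.mono_cokernelDesc
    have hj : φ.τ₃ ≫ j = toCut U (injSC F).X₃ := by
      apply (cancel_epi (cokernel.π (Injective.ι F))).1
      change cokernel.π (Injective.ι F) ≫ cokernel.desc _ _ _ ≫ j = _
      rw [cokernel.π_desc_assoc, Category.assoc]
      erw [cokernel.π_desc]
      exact (toCut_natural U (injSC F).g).symm
    let t := secEquiv (injSC F).X₂ (im_preimage U W).symm (hc0 _ _ t')
    have hc : mp φ.τ₃ 0 W c = mp S'.g 0 W ((hc0 S'.X₂ W).symm t) := by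
      apply (hc0 S'.X₃ W).injective
      rw [hc0_mp, hc0_mp, AddEquiv.apply_symm_apply]
      apply injective_app_of_mono j W
      refine (congrArg (fun ψ : (injSC F).X₃ ⟶ (cut U).obj (injSC F).X₃ =>
        ψ.hom.app (op W) (hc0 _ W c)) hj).trans ?_
      refine Eq.trans ?_ (congrArg (fun ψ : (cut U).obj (injSC F).X₂ ⟶ (cut U).obj (injSC F).X₃ =>
        ψ.hom.app (op W) t) (cokernel.π_desc ((cut U).map (injSC F).f) ((cut U).map (injSC F).g)
          (((injSC F).map (cut U)).zero))).symm
      have e1 : (injSC F).X₃.obj.map (homOfLE (inf_le_right : U ⊓ W ≤ W)).op (hc0 _ W c) =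
          (injSC F).g.hom.app (op (U ⊓ W)) (hc0 _ _ t') := by
        rw [← hc0_mp, ht', hc0_rs]
      rw [toCut_app]
      refine Eq.trans ?_ (secEquiv_natural (injSC F).g (im_preimage U W).symm (hc0 _ _ t'))
      rw [← e1, secEquiv_apply, map_map_apply]
    rw [hc, delta_mp]
  | succ n ih =>
    obtain ⟨c, rfl⟩ := exact₁ (injSC_shortExact F) (n + 1) W ξ (Subsingleton.elim _ _)
    replace hξ := (delta_rs (injSC_shortExact F) (n + 1) _ c).trans hξ
    obtain ⟨y, hy⟩ := exact₃ (injSC_shortExact F) (n + 1) _ _ hξ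
    have hc : rs (injSC F).X₃ (n + 1) (inf_le_right : U ⊓ W ≤ W) c = 0 := by
      rw [← hy, Subsingleton.elim y 0, map_zero]
    have h0 := ih (injSC F).X₃
      (fun q hq V hV => subsingleton_hc_injSC_X₃ F q _ (hF (q + 1) (by omega) V hV)) c hc
    let φ : injSC F ⟶ (injSC F).map (cut U) :=
      { τ₁ := toCut U _
        τ₂ := toCut U _
        τ₃ := toCut U _
        comm₁₂ := (toCut_natural U (injSC F).f).symm
        comm₂₃ := (toCut_natural U (injSC F).g).symm }
    refine (delta_natural (injSC_shortExact F) (shortExact_cut U (injSC_shortExact F) hB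
      (fun V hV => hF 0 (Nat.succ_pos _) V hV)) φ (n + 1) W c).trans ?_
    refine Eq.trans ?_ (map_zero (delta (shortExact_cut U (injSC_shortExact F) hB
      (fun V hV => hF 0 (Nat.succ_pos _) V hV)) (n + 1) W))
    exact congrArg _ h0

end Restr

end Groth.Agent.CohFound
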