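import Groth.Agent.Lib.CohFound.TopMap

/-!
# The kernel of the map onto top Čech degree cohomology
-/

set_option autoImplicit false

universe u

open CategoryTheory TopologicalSpace Opposite CategoryTheory.Limits Abelian

namespace Groth.Agent.CohFound

variable {Z : TopCat.{u}} {F : CohTop.Ab Z}

/-- The intersection of all but one of a family of opens. -/
abbrev eraseInf {k : ℕ} (U : Fin k → Opens Z) (j : Fin k) : Opens Z :=
  ⨅ i : Fin k, if i = j then ⊤ else U i

lemma mem_eraseInf {k : ℕ} {U : Fin k → Opens Z} {j : Fin k} {y : Z} :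
    y ∈ eraseInf U j ↔ ∀ i, i ≠ j → y ∈ U i := by
  rw [← SetLike.mem_coe, Opens.coe_iInf, Set.mem_iInter]
  refine forall_congr' fun i => ?_
  split_ifs with h <;> simp [h]

lemma iInf_le_eraseInf {k : ℕ} (U : Fin k → Opens Z) (j : Fin k) : ⨅ i, U i ≤ eraseInf U j :=
  le_iInf fun i => by
    split_ifs
    · exact le_top
    · exact iInf_le U i

variable (F) in
/-- Classes on the total intersection extending to some intersection of all but one of the opens. -/
noncomputable def extSub {k : ℕ} (U : Fin k → Opens Z) : AddSubgroup (Hc F 0 (⨅ i, U i)) :=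
  (∑ j, (rs F 0 (iInf_le_eraseInf U j)).comp
    (Pi.evalAddMonoidHom (fun j => Hc F 0 (eraseInf U j)) j)).range

lemma mem_extSub {k : ℕ} {U : Fin k → Opens Z} {x : Hc F 0 (⨅ i, U i)} :
    x ∈ extSub F U ↔ ∃ t : ∀ j, Hc F 0 (eraseInf U j), ∑ j, rs F 0 (iInf_le_eraseInf U j) (t j) = x := by
  simp [extSub, AddMonoidHom.mem_range, AddMonoidHom.finsetSum_apply]

lemma rs_mem_extSub {k : ℕ} {U : Fin k → Opens Z} (j : Fin k) (w : Hc F 0 (eraseInf U j)) :
    rs F 0 (iInf_le_eraseInf U j) w ∈ extSub F U := by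
  refine mem_extSub.2 ⟨Pi.single j w, (Finset.sum_eq_single j (fun i _ hi => ?_)
    (fun h => absurd (Finset.mem_univ j) h)).trans (by rw [Pi.single_eq_same])⟩
  rw [Pi.single_eq_of_ne hi, map_zero]

variable (B : Set (Opens Z)) (hB : ∀ V ∈ B, ∀ W ∈ B, V ⊓ W ∈ B)
  (hacyc : ∀ V ∈ B, ∀ q, Subsingleton (Hc F (q + 1) V))

include hB hacyc in
/-- The kernel of `topMap`. -/
theorem mem_extSub_of_topMap_eq_zero (k : ℕ) : ∀ (U : Fin (k + 2) → Opens Z), (∀ i, U i ∈ B) →
    ∀ x, topMap F (k + 1) U x = 0 → x ∈ extSub F U := by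
  induction k with
  | zero =>
    intro U _ x hx
    have hle : (⨆ i : Fin 1, U i.castSucc) ⊔ U (Fin.last 1) ≤ ⨆ i, U i :=
      sup_le (iSup_le fun i => le_iSup U _) (le_iSup U _)
    have h0 := congrArg (rs F 1 hle) hx
    rw [topMap_succ, rs_rs, rs_refl, map_zero] at h0
    obtain ⟨y, z, hyz⟩ := mv_diff _ h0
    have hge : (⨅ i, U i) ≤ (⨆ i : Fin 1, U i.castSucc) ⊓ U (Fin.last 1) :=
      le_inf ((iInf_le U _).trans (le_iSup (fun i : Fin 1 => U i.castSucc) 0)) (iInf_le U _)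
    have h1 := congrArg (rs F 0 hge) hyz
    change _ = rs F 0 hge (rs F 0 _ (rs F 0 _ (rs F 0 _ x))) at h1
    rw [rs_rs, rs_rs, rs_rs, rs_refl, map_sub, rs_rs, rs_rs] at h1
    rw [← h1]
    have hV : eraseInf U (Fin.last 1) ≤ ⨆ i : Fin 1, U i.castSucc := fun p hp =>
      le_iSup (fun i : Fin 1 => U i.castSucc) 0 (mem_eraseInf.1 hp _ (Fin.castSucc_ne_last 0))
    have hW : eraseInf U 0 ≤ U (Fin.last 1) := fun p hp => mem_eraseInf.1 hp _ (by decide)
    refine sub_mem ?_ ?_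
    · have := rs_mem_extSub (Fin.last 1) (rs F 0 hV y)
      rwa [rs_rs] at this
    · have := rs_mem_extSub 0 (rs F 0 hW z)
      rwa [rs_rs] at this
  | succ k ih =>
    intro U hU x hx
    let V' : Fin (k + 2) → Opens Z := fun i => U i.castSucc
    have hle : (⨆ i, V' i) ⊔ U (Fin.last (k + 2)) ≤ ⨆ i, U i :=
      sup_le (iSup_le fun i => le_iSup U _) (le_iSup U _)
    have h0 := congrArg (rs F (k + 2) hle) hx
    rw [topMap_succ, rs_rs, rs_refl, map_zero] at h0
    obtain ⟨y, z, hyz⟩ := mv_diff _ h0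
    obtain ⟨y0, rfl⟩ := topMap_surjective B hB hacyc (k + 1) V' (fun i => hU _) y
    have hle' : (⨆ i, lastFam U i) ≤ (⨆ i, V' i) ⊓ U (Fin.last (k + 2)) :=
      iSup_le fun i => inf_le_inf_right _ (le_iSup V' i)
    have h' : ∀ i, lastFam U i ≤ V' i := fun i => inf_le_left
    have h1 := congrArg (rs F (k + 1) hle') hyz
    rw [map_sub, rs_rs, rs_rs, rs_rs, rs_refl,
      @Subsingleton.elim _ (hacyc _ (hU _) k) z 0, map_zero, sub_zero,
      ← topMap_rs (k + 1) V' (lastFam U) h'] at h1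
    have h2 : topMap F (k + 1) (lastFam U)
        (rs F 0 (iInf_lastFam_le U) x - rs F 0 (iInf_mono h') y0) = 0 := by
      rw [map_sub, h1, sub_self]
    have hmem := ih (lastFam U) (fun i => hB _ (hU _) _ (hU _)) _ h2
    have hge : (⨅ i, U i) ≤ ⨅ i, lastFam U i :=
      le_iInf fun i => le_inf (iInf_le U _) (iInf_le U _)
    have hmap : (extSub F (lastFam U)).map (rs F 0 hge) ≤ extSub F U := by
      rintro _ ⟨w', hw', rfl⟩
      obtain ⟨w, rfl⟩ := mem_extSub.1 hw'
      rw [map_sum]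
      refine sum_mem fun j _ => ?_
      have hj : eraseInf U j.castSucc ≤ eraseInf (lastFam U) j := fun p hp => mem_eraseInf.2 fun i hi =>
        ⟨mem_eraseInf.1 hp _ (fun h => hi (Fin.castSucc_injective _ h)),
          mem_eraseInf.1 hp _ (Fin.castSucc_ne_last j).symm⟩
      have := rs_mem_extSub j.castSucc (rs F 0 hj (w j))
      rw [rs_rs] at this
      rwa [rs_rs]
    have h3 := hmap ⟨_, hmem, rfl⟩
    rw [map_sub, rs_rs, rs_refl, rs_rs] at h3
    have hV : eraseInf U (Fin.last (k + 2)) ≤ ⨅ i, V' i :=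
      le_iInf fun i p hp => mem_eraseInf.1 hp _ (Fin.castSucc_ne_last i)
    have h4 : rs F 0 ((hge.trans (iInf_mono h'))) y0 ∈ extSub F U :=
      by
      have := rs_mem_extSub (Fin.last (k + 2)) (rs F 0 hV y0)
      rwa [rs_rs] at this
    simpa using add_mem h3 h4

section Sections

variable {k : ℕ} {U : Fin (k + 2) → Opens Z} {W : Opens Z}

include hB hacyc in
/-- The kernel of `topSec`. -/
theorem topSec_eq_zero (hW : ⨅ i, U i ≤ W) (hW' : W ≤ ⨅ i, U i) (hcov : (⊤ : Opens Z) ≤ ⨆ i, U i)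
    (hU : ∀ i, U i ∈ B) {s : F.obj.obj (op W)} (hs : topSec F U hW hcov s = 0) :
    ∃ t : ∀ j, F.obj.obj (op (eraseInf U j)),
      s = ∑ j, F.obj.map (homOfLE (hW'.trans (iInf_le_eraseInf U j))).op (t j) := by
  classical
  rw [topSec_apply] at hs
  have h0 := congrArg (rs F (k + 1) (le_top : (⨆ i, U i) ≤ ⊤)) hs
  rw [rs_rs, rs_refl, map_zero] at h0
  have hm := mem_extSub_of_topMap_eq_zero B hB hacyc k U hU _ h0
  obtain ⟨w, hsum⟩ := mem_extSub.1 hm
  refine ⟨fun j => hc0 F _ (w j), ?_⟩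
  have h1 := congrArg (fun x => hc0 F W (rs F 0 hW' x)) hsum
  simp only [rs_rs, rs_refl, AddEquiv.apply_symm_apply, map_sum] at h1
  exact h1.symm.trans (Finset.sum_congr rfl fun j _ => hc0_rs F _ (w j))

end Sections

end Groth.Agent.CohFound
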