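import Groth.Agent.Lib.CohFound.ProjTop
import Groth.Agent.Lib.CohFound.TopKer

/-!
# Top cohomology of negative twists on projective space
-/

set_option autoImplicit false
set_option maxHeartbeats 800000

universe u

open CategoryTheory TopologicalSpace Opposite CategoryTheory.Limits AlgebraicGeometry MvPolynomial

namespace Groth.Agent.CohFound.ProjNum

open Groth.Agent.Twist

variable (n : ℕ) (R : Type u) [CommRing R] (k : ℕ)

local notation "GR" => CohB1.polyGrading n R
local notation "J" => n + 1 + k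
local notation "D" => -((n : ℤ) + 1 + k)

/-- The exponent of the numerator of the negative monomial attached to `m`. -/
noncomputable def revExp (m : Fin (n + 1) →₀ ℕ) : Fin (n + 1) →₀ ℕ := negExp J fun l => m l + 1

/-- Reflection of polynomials into numerators of negative monomials. -/
noncomputable def rev : MvPolynomial (Fin (n + 1)) R →ₗ[R] MvPolynomial (Fin (n + 1)) R :=
  (basisMonomials (Fin (n + 1)) R).constr R fun m => monomial (revExp n k m) 1

variable {n R k}

lemma rev_monomial (m : Fin (n + 1) →₀ ℕ) (c : R) :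
    rev n R k (monomial m c) = monomial (revExp n k m) c := by
  have h : rev n R k (monomial m 1) = monomial (revExp n k m) 1 := by
    simpa [rev] using (basisMonomials (Fin (n + 1)) R).constr_basis R
      (fun m => monomial (revExp n k m) (1 : R)) m
  rw [← mul_one c, ← smul_eq_mul, ← smul_monomial, map_smul, h, smul_monomial, smul_eq_mul]

lemma coeff_rev {a : MvPolynomial (Fin (n + 1)) R} (ha : a ∈ GR k) {m : Fin (n + 1) →₀ ℕ}
    (hm : ∀ l, m l ≤ k) : coeff (revExp n k m) (rev n R k a) = coeff m a := by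
  classical
  conv_lhs => rw [a.as_sum, map_sum, coeff_sum]
  simp only [rev_monomial, coeff_monomial]
  refine (Finset.sum_eq_single m (fun b hb hbm => if_neg fun h => hbm (Finsupp.ext fun l => ?_))
    (fun h => by rw [if_pos rfl]; exact notMem_support_iff.1 h)).trans (if_pos rfl)
  have hbl : b l ≤ k := by
    have hw := (ha : IsHomogeneous a k) (mem_support_iff.1 hb)
    rw [show (1 : Fin (n + 1) → ℕ) = fun _ => 1 from rfl, ← Finsupp.degree_eq_weight_one] at hw
    exact hw ▸ Finsupp.le_degree l b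
  have := DFunLike.congr_fun h l
  have := hm l
  simp [revExp, negExp] at *
  omega

lemma supp_rev {a : MvPolynomial (Fin (n + 1)) R} (ha : a ∈ GR k) :
    Supp D J Finset.univ (rev n R k a) := by
  refine ⟨?_, fun m _ i hi => absurd (Finset.mem_univ i) hi⟩
  rw [a.as_sum, map_sum]
  refine sum_mem fun m hm => ?_
  rw [rev_monomial]
  refine isHomogeneous_monomial _ ?_
  have hw := (ha : IsHomogeneous a k) (mem_support_iff.1 hm)
  rw [show (1 : Fin (n + 1) → ℕ) = fun _ => 1 from rfl, ← Finsupp.degree_eq_weight_one,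
    Finsupp.degree_eq_sum] at hw
  have hd : deg n D J = n * J := by
    have : D + ((n : ℤ) + 1) * ((J : ℕ) : ℤ) = ((n * J : ℕ) : ℤ) := by push_cast; ring
    rw [deg, this, Int.toNat_natCast]
  rw [hd, Finsupp.degree_eq_sum]
  have h : (∑ l, revExp n k m l) + ∑ l, (m l + 1) = (n + 1) * J := by
    rw [← Finset.sum_add_distrib]
    refine (Finset.sum_congr rfl fun l _ => ?_ : _ = ∑ _l : Fin (n + 1), J).trans (by simp)
    have : m l ≤ k := hw ▸ Finset.single_le_sum (fun _ _ => Nat.zero_le _) (Finset.mem_univ l)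
    simp [revExp, negExp]
    omega
  rw [Finset.sum_add_distrib, hw] at h
  simp at h
  rw [add_mul, one_mul] at h
  omega

variable (n R k) in
/-- The negative monomial sections attached to forms of degree `k`. -/
noncomputable def revSec (a : GR k) : (Od n R D).obj.obj (op (W n R Finset.univ)) :=
  (exists_sec (s := Finset.univ) (K := J) (g := rev n R k a.1) (d := D)
    (by push_cast; nlinarith) (supp_rev a.2)).choose

lemma isNum_revSec (a : GR k) : IsNum (d := D) J (revSec n R k a : Sec (𝒜 := GR) D (W n R Finset.univ))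
    (rev n R k a.1) :=
  (exists_sec (s := Finset.univ) (K := J) (g := rev n R k a.1) (d := D)
    (by push_cast; nlinarith) (supp_rev a.2)).choose_spec

lemma revSec_eq {a : GR k} {σ : (Od n R D).obj.obj (op (W n R Finset.univ))}
    (h : IsNum (d := D) J (σ : Sec (𝒜 := GR) D (W n R Finset.univ)) (rev n R k a.1)) :
    revSec n R k a = σ :=
  sec_unique (d := D) Finset.univ_nonempty (isNum_revSec a) h

lemma revSec_add (a b : GR k) : revSec n R k (a + b) = revSec n R k a + revSec n R k b := by
  refine revSec_eq ?_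
  rw [Submodule.coe_add, map_add]
  exact (isNum_revSec a).add (isNum_revSec b)

lemma revSec_smul (c : R) (a : GR k) : revSec n R k (c • a) =
    (gEnd (_root_.Twist.twist GR D) (baseHom n R c)).hom.app (op (W n R Finset.univ)) (revSec n R k a) := by
  refine revSec_eq ?_
  rw [Submodule.coe_smul, map_smul, smul_eq_C_mul]
  exact isNum_smul c (isNum_revSec a)

variable (n R k) in
/-- From forms of degree `k` to top cohomology. -/
noncomputable def topRev : GR k →+ Hc (Od n R D) n ⊤ :=
  (topΦ n R D).comp (AddMonoidHom.mk' (revSec n R k) revSec_add)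

lemma topΦ_injective_zero {d : ℤ} : Function.Injective (topΦ 0 R d) := by
  intro s t h
  change rs _ 0 _ (rs _ 0 _ (rs _ 0 _ ((hc0 _ _).symm s))) =
    rs _ 0 _ (rs _ 0 _ (rs _ 0 _ ((hc0 _ _).symm t))) at h
  have h' := congrArg (rs (Od 0 R d) 0 (le_top : (W 0 R Finset.univ : Opens (sp (Proj (CohB1.polyGrading 0 R)))) ≤ ⊤)) h
  simp only [rs_rs, rs_refl] at h'
  exact (hc0 _ _).symm.injective h'

lemma fU_mem_affine (i : Fin (n + 1)) : IsAffineOpen (fU n R i : (Proj GR).Opens) :=
  Proj.isAffineOpen_basicOpen GR _ (isHomogeneous_X R i) Nat.one_pos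

theorem topRev_injective : Function.Injective (topRev n R k) := by
  classical
  refine (injective_iff_map_eq_zero _).2 fun a ha => ?_
  have ha' : topΦ n R D (revSec n R k a) = 0 := ha
  have hdeg : ∀ m ∈ a.1.support, ∀ l, m l ≤ k := fun m hm l => by
    have hw := (a.2 : IsHomogeneous a.1 k) (mem_support_iff.1 hm)
    rw [show (1 : Fin (n + 1) → ℕ) = fun _ => 1 from rfl, ← Finsupp.degree_eq_weight_one] at hw
    exact hw ▸ Finsupp.le_degree l m
  refine Subtype.ext (ext _ _ fun m => ?_)
  by_cases hm : m ∈ a.1.support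
  swap
  · rw [notMem_support_iff.1 hm, Submodule.coe_zero, coeff_zero]
  rw [Submodule.coe_zero, coeff_zero, ← coeff_rev a.2 (hdeg m hm)]
  obtain rfl | ⟨n', rfl⟩ : n = 0 ∨ ∃ n', n = n' + 1 := by
    rcases n with _ | n'
    · exact Or.inl rfl
    · exact Or.inr ⟨n', rfl⟩
  · have h0 : revSec 0 R k a = 0 := topΦ_injective_zero (ha'.trans (map_zero _).symm)
    rw [num_unique (supp_rev a.2).homog (zero_mem _) le_rfl (isNum_revSec a) (by rw [h0]; exact isNum_zero _),
      coeff_zero]
  have : (_root_.Twist.twist (CohB1.polyGrading (n' + 1) R) (-(((n' + 1 : ℕ) : ℤ) + 1 + k))).IsQuasicoherent :=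
    isQCoh_twist' _ _
  obtain ⟨t, ht⟩ := topSec_eq_zero {V | IsAffineOpen (V : (Proj (CohB1.polyGrading (n' + 1) R)).Opens)}
    (fun _ hV _ hW => IsAffineOpen.inf hV hW)
    (fun _ hV q => subsingleton_hc_isAffineOpen (_root_.Twist.twist _ _) hV q)
    (allI_eq (n' + 1) R).le (allI_eq (n' + 1) R).ge top_le_fU fU_mem_affine ha'
  have hle : ∀ j, (W (n' + 1) R (Finset.univ.erase j) : Opens (sp (Proj (CohB1.polyGrading (n' + 1) R)))) ≤
      eraseInf (fU (n' + 1) R) j := fun j y hy => mem_eraseInf.2 fun i hi =>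
    (mem_W _ R).1 hy i (Finset.mem_erase.2 ⟨hi, Finset.mem_univ _⟩)
  have hne : ∀ j : Fin (n' + 2), (Finset.univ.erase j).Nonempty := fun j => by
    obtain ⟨i, hi⟩ := exists_ne j
    exact ⟨i, Finset.mem_erase.2 ⟨hi, Finset.mem_univ _⟩⟩
  let u := fun j => (Od (n' + 1) R (-(((n' + 1 : ℕ) : ℤ) + 1 + k))).obj.map (homOfLE (hle j)).op (t j)
  choose K₀ hK₀ using fun j => exists_num (hne j) (u j : Sec (𝒜 := CohB1.polyGrading (n' + 1) R) _ _)
  let K := (n' + 1 + 1 + k) + ∑ j, K₀ j
  choose g hg hgs using fun j => hK₀ j K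
    ((Finset.single_le_sum (fun _ _ => Nat.zero_le _) (Finset.mem_univ j)).trans (Nat.le_add_left _ _))
  have hK : n' + 1 + 1 + k ≤ K := Nat.le_add_right _ _
  have h1 : IsNum (d := -(((n' + 1 : ℕ) : ℤ) + 1 + k)) K
      (revSec (n' + 1) R k a : Sec (𝒜 := CohB1.polyGrading (n' + 1) R) _ _) (∑ j, g j) := by
    rw [ht]
    refine isNum_sum Finset.univ _ g fun j _ x hU hx => ?_
    refine (val_mres _ _ x hU).trans (Eq.trans ?_ (hg j x (W_univ_le _ R _ hx) hx))
    exact (val_mres (hle j) (t j) x (W_univ_le _ R _ hx)).symm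
  have h2 : IsNum (d := -(((n' + 1 : ℕ) : ℤ) + 1 + k)) K
      (revSec (n' + 1) R k a : Sec (𝒜 := CohB1.polyGrading (n' + 1) R) _ _)
      (px (n' + 1) R Finset.univ ^ (K - (n' + 1 + 1 + k)) * rev (n' + 1) R k a.1) := fun x hU hx => by
    refine (isNum_revSec a x hU hx).trans ((mk_eq_iff _ _ _).2 ⟨1, one_notMem_prime _ x, ?_⟩)
    obtain ⟨i, hi⟩ := Nat.exists_eq_add_of_le hK
    rw [hi, Nat.add_sub_cancel_left, pow_add]
    ring
  have hd0 : (0 : ℤ) ≤ -(((n' + 1 : ℕ) : ℤ) + 1 + k) + (((n' + 1 : ℕ) : ℤ) + 1) * (K : ℕ) := by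
    have : ((n' + 1 + 1 + k : ℕ) : ℤ) ≤ (K : ℕ) := by exact_mod_cast hK
    push_cast at this ⊢
    nlinarith
  have hh : px (n' + 1) R Finset.univ ^ (K - (n' + 1 + 1 + k)) * rev (n' + 1) R k a.1 ∈
      CohB1.polyGrading (n' + 1) R (deg (n' + 1) (-(((n' + 1 : ℕ) : ℤ) + 1 + k)) K) := by
    have h := SetLike.mul_mem_graded (px_pow_mem (n' + 1) R Finset.univ (K - (n' + 1 + 1 + k)))
      (supp_rev (k := k) a.2).homog
    convert h using 2
    obtain ⟨i, hi⟩ := Nat.exists_eq_add_of_le hK
    have e1 : (Finset.univ : Finset (Fin (n' + 1 + 1))).card = n' + 1 + 1 := by simp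
    have e2 : ((deg (n' + 1) (-(((n' + 1 : ℕ) : ℤ) + 1 + k)) (n' + 1 + 1 + k) : ℕ) : ℤ) = _ :=
      Int.toNat_of_nonneg (by push_cast; nlinarith)
    rw [e1, deg, hi, Nat.add_sub_cancel_left]
    refine Int.ofNat_inj.1 ?_
    rw [Int.toNat_of_nonneg (by rw [← hi]; exact hd0)]
    push_cast at e2 ⊢
    linarith
  have heq := num_unique hh (sum_mem fun j _ => (hgs j).homog) le_rfl h2 h1
  let μ := (K - (n' + 1 + 1 + k)) • ind (n' + 1) Finset.univ + revExp (n' + 1) k m
  have hc := congrArg (coeff μ) heq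
  rw [px_pow, coeff_monomial_mul, one_mul, coeff_sum] at hc
  rw [hc]
  refine Finset.sum_eq_zero fun j _ => ?_
  by_contra hne'
  have := (hgs j).le μ hne' j (Finset.notMem_erase j _)
  have := hdeg m hm j
  simp [μ, ind_apply, revExp, negExp] at *
  omega

theorem topRev_surjective : Function.Surjective (topRev n R k) := by
  classical
  have hd : D < 0 := by omega
  have hJ : (-D).toNat = J := by omega
  choose τ hτ using fun e : {e : Fin (n + 1) → Fin ((-D).toNat + 1) // ∑ l, (e l : ℕ) = (-D).toNat} =>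
    exists_negGen (n := n) (R := R) hd e.1 e.2
  intro y
  obtain ⟨σ, rfl⟩ := topΦ_surjective (n := n) (R := R) (d := D) y
  show topΦ n R D σ ∈ (topRev n R k).range
  suffices h : σ ∈ (topRev n R k).range.comap (topΦ n R D) from h
  refine (AddSubgroup.closure_le _).2 ?_ (mem_closure_negGen hd τ hτ σ)
  rintro t (⟨c, e, rfl⟩ | ⟨hn, l, σl, rfl⟩)
  swap
  · exact ⟨0, (map_zero _).trans (topΦ_map_eq_zero hn l σl).symm⟩
  have hsum : ∑ l, (e.1 l : ℕ) = J := e.2.trans hJ
  by_cases hpos : ∀ l, 1 ≤ (e.1 l : ℕ)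
  · let m : Fin (n + 1) →₀ ℕ := Finsupp.equivFunOnFinite.symm fun l => (e.1 l : ℕ) - 1
    have hm : monomial m c ∈ GR k := by
      refine isHomogeneous_monomial _ ?_
      rw [Finsupp.degree_eq_sum]
      have h : (∑ l, m l) + ∑ _l : Fin (n + 1), 1 = ∑ l, (e.1 l : ℕ) := by
        rw [← Finset.sum_add_distrib]
        refine Finset.sum_congr rfl fun l _ => ?_
        have := hpos l
        simp [m]
        omega
      simp [hsum] at h
      omega
    refine ⟨⟨monomial m c, hm⟩, ?_⟩
    refine congrArg (topΦ n R D) (revSec_eq ?_)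
    have e' : revExp n k m = negExp (-D).toNat fun l => (e.1 l : ℕ) := Finsupp.ext fun l => by
      have := hpos l
      simp [revExp, negExp, m, hJ]
      omega
    rw [rev_monomial, e', ← mul_one c, ← C_mul_monomial, mul_one]
    have h := isNum_smul c (σ := (τ e : (Od n R D).obj.obj (op (W n R Finset.univ)))) (hτ e)
    simp only [hJ] at h ⊢
    exact h
  · push Not at hpos
    obtain ⟨l, hl⟩ := hpos
    have hn : 0 < n := Nat.pos_of_ne_zero fun h0 => by
      subst h0
      rw [Fin.sum_univ_one, ← Fin.fin_one_eq_zero l] at hsum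
      omega
    refine ⟨0, (map_zero _).trans ?_⟩
    have hsupp : Supp D J (Finset.univ.erase l) (monomial (negExp J fun l => (e.1 l : ℕ)) c) := by
      refine ⟨isHomogeneous_monomial _ ?_, fun m hm i hi => ?_⟩
      · have h : (∑ l, negExp J (fun l => (e.1 l : ℕ)) l) + ∑ l, (e.1 l : ℕ) = (n + 1) * J := by
          rw [← Finset.sum_add_distrib]
          refine (Finset.sum_congr rfl fun l _ => ?_ : _ = ∑ _l : Fin (n + 1), J).trans (by simp)
          have := (e.1 l).isLt
          simp [negExp]
          omega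
        rw [hsum, add_mul, one_mul] at h
        have hd' : deg n D J = n * J := by
          have : D + ((n : ℤ) + 1) * ((J : ℕ) : ℤ) = ((n * J : ℕ) : ℤ) := by push_cast; ring
          rw [deg, this, Int.toNat_natCast]
        rw [hd', Finsupp.degree_eq_sum]
        omega
      · rw [coeff_monomial] at hm
        split_ifs at hm with h
        · have : i = l := by simpa using hi
          subst h
          simp [negExp, this]
          omega
        · exact absurd rfl hm
    obtain ⟨σl, hσl⟩ := exists_sec (s := Finset.univ.erase l) (K := J) (d := D)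
      (g := monomial (negExp J fun l => (e.1 l : ℕ)) c) (by push_cast; nlinarith) hsupp
    rw [show (gEnd (_root_.Twist.twist GR D) (baseHom n R c)).hom.app (op (W n R Finset.univ)) (τ e) =
          (Od n R D).obj.map (homOfLE (W_univ_le n R (Finset.univ.erase l))).op σl from
        sec_unique (d := D) Finset.univ_nonempty (K := J) (g := monomial (negExp J fun l => (e.1 l : ℕ)) c)
          (by
            have h := isNum_smul c (σ := (τ e : (Od n R D).obj.obj (op (W n R Finset.univ)))) (hτ e)
            simp only [hJ, C_mul_monomial, mul_one] at h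
            exact h)
          (isNum_map (W_univ_le n R (Finset.univ.erase l)) hσl)]
    exact (topΦ_map_eq_zero hn l σl).symm

/-- Top cohomology of `O(-(n+1+k))` is the module of forms of degree `k`. -/
theorem nonempty_top_linearEquiv :
    Nonempty (Coh.HH (CohB1.ProjSpace n R) (_root_.Twist.twistProjSpace n R D) n ≃ₗ[R]
      homogeneousSubmodule (Fin (n + 1)) R k) := by
  let ψ : R →+* Γ(Proj GR, ⊤) := baseHom n R
  let := hMod ψ (_root_.Twist.twist GR D) n ⊤
  let T : GR k →ₗ[R] Hc (Od n R D) n ⊤ :=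
    { topRev n R k with map_smul' := fun c a =>
        (congrArg (topΦ n R D) (revSec_smul c a)).trans (topΦ_gEnd (baseHom n R c) _) }
  let e : Coh.HH (CohB1.ProjSpace n R) (_root_.Twist.twistProjSpace n R D) n ≃ₗ[R] Hc (Od n R D) n ⊤ :=
    { hhExt (X := Proj GR) (_root_.Twist.twist GR D) n with
      map_smul' := fun a x => hExt_map (gEnd (_root_.Twist.twist GR D) (ψ a)) n x }
  exact ⟨e ≪≫ₗ (LinearEquiv.ofBijective T ⟨topRev_injective, topRev_surjective⟩).symm⟩

end Groth.Agent.CohFound.ProjNum
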