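import Groth.Agent.Lib.CohFound.RelVan
import Groth.Agent.Lib.CohFound.ProjCech
import Groth.Agent.Lib.Twist.ProjSpace
import Groth.Agent.Lib.Twist.GlobalProjSpace
import Groth.Agent.Lib.ProjSpace.BaseChange
import Groth.Agent.Lib.PullBC11.Twist

/-!
# Higher direct images of `O(d)` from `P^n_Y`
-/

set_option autoImplicit false

universe u

open CategoryTheory TopologicalSpace Opposite CategoryTheory.Limits AlgebraicGeometry MvPolynomial

namespace Groth.Agent.CohFound

attribute [local instance] MvPolynomial.algebraMvPolynomial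

/-- `O(d)` is compatible with change of the base ring. -/
theorem nonempty_pullback_twistProjSpace (n : ℕ) {R S : Type u} [CommRing R] [CommRing S] (f : R →+* S)
    (d : ℤ) : Nonempty ((Scheme.Modules.pullback (ProjSpace.map n f)).obj
      (_root_.Twist.twistProjSpace n R d) ≅ _root_.Twist.twistProjSpace n S d) := by
  letI : Algebra R S := f.toAlgebra
  exact PullBC11.nonempty_pullback_twist (ProjSpace.mapHom n f) (ProjSpace.irrelevant_le_map n f)
    (IsScalarTower.toAlgHom R (MvPolynomial (Fin (n + 1)) R) (MvPolynomial (Fin (n + 1)) S)).toLinearMap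
    (fun _ => rfl) (fun r => isHomogeneous_C _ r) (fun r => isHomogeneous_C _ r) Algebra.IsPushout.out d

/-- Cohomology of `O(d)` over an affine open of the base. -/
theorem subsingleton_hc_twistOver (Y : Scheme.{u}) (r : ℕ) (i : ℕ) (d : ℤ)
    (h : ¬ ((i = 0 ∧ 0 ≤ d) ∨ (i = r ∧ d ≤ -((r : ℤ) + 1)))) {W : Y.Opens} (hW : IsAffineOpen W) :
    Subsingleton (Hc ((abF _).obj (_root_.Twist.twistOver r Y d)) i
      (CohB1.ProjSpaceOver.toBase r Y ⁻¹ᵁ W)) := by
  let R := Γ(Y, W)
  let j : CohB1.ProjSpace r R ⟶ CohB1.ProjSpaceOver r Y :=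
    (ProjSpace.overSpecIso r R).hom ≫ ProjSpace.overMap r hW.fromSpec
  have H := ProjSpace.isPullback_overMap r hW.fromSpec
  have : IsOpenImmersion (ProjSpace.overMap r hW.fromSpec) :=
    MorphismProperty.of_isPullback H.flip inferInstance
  have : IsOpenImmersion j := inferInstance
  have hrange : j ''ᵁ ⊤ = CohB1.ProjSpaceOver.toBase r Y ⁻¹ᵁ W := by
    rw [Scheme.Hom.image_top_eq_opensRange]
    apply Opens.ext
    change Set.range j.base = CohB1.ProjSpaceOver.toBase r Y ⁻¹' (W : Set Y)
    rw [← hW.range_fromSpec, ← Scheme.Pullback.range_fst (f := CohB1.ProjSpaceOver.toBase r Y) (g := hW.fromSpec)]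
    have hj : j = ((ProjSpace.overSpecIso r R).hom ≫ H.isoPullback.hom) ≫
        pullback.fst (CohB1.ProjSpaceOver.toBase r Y) hW.fromSpec := by
      rw [Category.assoc, IsPullback.isoPullback_hom_fst]
    rw [hj, Scheme.Hom.comp_base, TopCat.coe_comp, Set.range_comp,
      Set.range_eq_univ.2 (Scheme.Hom.surjective _), Set.image_univ]
  obtain ⟨e⟩ := nonempty_hc_abF_restrict j (_root_.Twist.twistOver r Y d) i ⊤
  obtain ⟨e'⟩ := nonempty_pullback_twistProjSpace r (ProjSpace.fromZ R) d
  have hfst : j ≫ pullback.fst (CohB1.ProjSpace.toSpec r (ULift.{u} ℤ)) (specULiftZIsTerminal.from Y) =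
      ProjSpace.map r (ProjSpace.fromZ R) := by
    rw [← ProjSpace.overSpecIso_hom_fst r R]
    exact (Category.assoc _ _ _).trans (congrArg _ ((pullback.lift_fst _ _ _).trans (Category.comp_id _)))
  let E : (_root_.Twist.twistOver r Y d).restrict j ≅ _root_.Twist.twist (CohB1.polyGrading r R) d :=
    (Scheme.Modules.restrictFunctorIsoPullback j).app _ ≪≫ (Scheme.Modules.pullbackComp j _).app _ ≪≫
      (Scheme.Modules.pullbackCongr hfst).app _ ≪≫ e'
  rw [hrange] at e
  refine @Equiv.subsingleton _ _ e.toEquiv.symm ?_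
  refine subsingleton_hc_of_iso E.symm i ⊤ ?_
  rcases Nat.eq_zero_or_pos i with rfl | hi
  · have hd : d < 0 := by
      by_contra hd
      exact h (.inl ⟨rfl, by omega⟩)
    have hr : 0 < r := by
      by_contra hr
      exact h (.inr ⟨by omega, by omega⟩)
    exact @Equiv.subsingleton _ _ (hc0 _ _).toEquiv
      (Twist.subsingleton_sections_twistProjSpace_neg r R hr hd)
  · exact ProjNum.subsingleton_hc_Od (n := r) (R := R) (d := d) i hi
      (by by_contra hh; push_neg at hh; exact h (.inr ⟨hh.2, by omega⟩))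

/-- Vanishing of the higher direct images of `O(d)` from projective space over a scheme. -/
theorem isZero_rpushAb_twistOver (Y : Scheme.{u}) (r : ℕ) (i : ℕ) (d : ℤ)
    (h : ¬ ((i = 0 ∧ 0 ≤ d) ∨ (i = r ∧ d ≤ -((r : ℤ) + 1)))) :
    IsZero ((Coh.RpushAb (CohB1.ProjSpaceOver.toBase r Y) i).obj
      (Coh.toAb (_root_.Twist.twistOver r Y d))) := by
  refine isZero_of_subsingleton_basis _ (fun U => IsAffineOpen (X := Y) U) (fun W y hy => ?_) fun U hU => ?_
  · obtain ⟨V, hV, hyV, hVW⟩ := exists_isAffineOpen_mem_and_subset (X := Y) (x := y) (U := W) hy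
    exact ⟨V, hV, hyV, hVW⟩
  · obtain ⟨e⟩ := nonempty_sections_rpushAb (CohB1.ProjSpaceOver.toBase r Y)
      (Twist.isQCoh_twistOver r Y d) i hU
    exact @Equiv.subsingleton _ _ e.toEquiv (subsingleton_hc_twistOver Y r i d h hU)

end Groth.Agent.CohFound
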