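import Groth.Agent.Lib.CohFound.Push

/-!
# Cohomology and pullback along open embeddings
-/

universe u

open CategoryTheory TopologicalSpace Opposite CategoryTheory.Limits Abelian

namespace Groth.Agent.CohFound

variable {X Y : TopCat.{u}} {f : Y ⟶ X} (hf : Topology.IsOpenEmbedding f)

/-- Pullback of sheaves along an open embedding: `W ↦ F(f(W))`. -/
noncomputable def resEmb : CohTop.Ab X ⥤ CohTop.Ab Y :=
  haveI := hf.functor_isContinuous
  hf.isOpenMap.functor.sheafPushforwardContinuous AddCommGrpCat.{u} _ _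

instance : (resEmb hf).Additive where
  map_add {_ _ _ _} := rfl

instance : (resEmb hf).PreservesZeroMorphisms where
  map_zero _ _ := rfl

lemma isFlasque_resEmb (F : CohTop.Ab X) [TopCat.Sheaf.IsFlasque F] :
    TopCat.Sheaf.IsFlasque ((resEmb hf).obj F) :=
  isFlasque_mk _ fun _ _ h =>
    flasque_surjective F (leOfHom (hf.isOpenMap.functor.map (homOfLE h)))

lemma shortExact_resEmb {S : ShortComplex (CohTop.Ab X)} (hS : S.ShortExact) :
    (S.map (resEmb hf)).ShortExact := by
  have := hS.mono_f
  have := hS.epi_g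
  refine shortExact_of_sections (fun W => injective_app_of_mono S.f (hf.isOpenMap.functor.obj W))
    (fun W s hs => exact_app hS.exact (U := hf.isOpenMap.functor.obj W) s hs) fun W s x hx => ?_
  obtain ⟨V, hV, hxV, t, ht⟩ := locally_lift_of_epi S.g (hf.isOpenMap.functor.obj W) s (x := f x)
    ⟨x, hx, rfl⟩
  have hV' : hf.isOpenMap.functor.obj ((Opens.map f).obj V) ≤ V := by
    rintro _ ⟨y, hy, rfl⟩
    exact hy
  have hW : (Opens.map f).obj V ≤ W := fun y hy => by
    obtain ⟨z, hz, e⟩ := hV hy
    exact hf.injective e ▸ hz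
  refine ⟨(Opens.map f).obj V, hW, hxV, S.X₂.obj.map (homOfLE hV').op t, ?_⟩
  refine (NatTrans.naturality_apply S.g.hom (homOfLE hV').op t).trans ?_
  rw [ht, map_map_apply]
  rfl

/-- Cohomology of the pullback along an open embedding. -/
theorem nonempty_hc_resEmb (F : CohTop.Ab X) (n : ℕ) (W : Opens Y) :
    Nonempty (Hc ((resEmb hf).obj F) n W ≃+ Hc F n (hf.isOpenMap.functor.obj W)) := by
  refine nonempty_addEquiv_of_dimShift (resEmb hf) (hf.isOpenMap.functor.obj W) W
    (fun F => AddEquiv.refl _) (fun φ s => rfl) (fun I hI m => ?_) (fun _ _ => True)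
    (fun m F _ => ⟨shortExact_resEmb hf (injSC_shortExact F), trivial⟩) n F trivial
  have := isFlasque_of_injective I
  have := isFlasque_resEmb hf I
  exact subsingleton_hc_of_isFlasque _ m W

end Groth.Agent.CohFound
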