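import Groth.Agent.Lib.CohFound.LocModule
import Mathlib.RingTheory.Noetherian.Basic

/-!
# Finiteness of cohomology groups as modules over a base ring
-/

universe u

open CategoryTheory TopologicalSpace Opposite CategoryTheory.Limits AlgebraicGeometry

namespace Groth.Agent.CohFound

variable {X : Scheme.{u}} {A : Type u} [CommRing A] (φ : A →+* Γ(X, ⊤))

/-- The action of the base ring on cohomology. -/
noncomputable abbrev hMod (M : X.Modules) (n : ℕ) (U : Opens (sp X)) :
    Module A (Hc ((abF X).obj M) n U) :=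
  letI := gModule M n U
  Module.compHom _ φ

/-- Cohomology is a finite module over the base ring. -/
def HFin (M : X.Modules) (n : ℕ) (U : Opens (sp X)) : Prop :=
  letI := hMod φ M n U
  Module.Finite A (Hc ((abF X).obj M) n U)

variable {φ}

/-- A homomorphism of cohomology groups commuting with global functions. -/
def Equivariant {M N : X.Modules} {m n : ℕ} {U V : Opens (sp X)}
    (f : Hc ((abF X).obj M) m U →+ Hc ((abF X).obj N) n V) : Prop :=
  ∀ (r : Γ(X, ⊤)) (x), f (gMul M r m U x) = gMul N r n V (f x)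

variable {M N P : X.Modules} {k m n : ℕ} {U V W : Opens (sp X)}

/-- An equivariant homomorphism as a linear map. -/
noncomputable def Equivariant.linear {f : Hc ((abF X).obj M) m U →+ Hc ((abF X).obj N) n V}
    (hf : Equivariant f) :
    letI := hMod φ M m U
    letI := hMod φ N n V
    Hc ((abF X).obj M) m U →ₗ[A] Hc ((abF X).obj N) n V :=
  letI := hMod φ M m U
  letI := hMod φ N n V
  { toFun := f, map_add' := map_add f, map_smul' := fun a x => hf (φ a) x }

theorem HFin.of_surjective (h : HFin φ M m U)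
    {f : Hc ((abF X).obj M) m U →+ Hc ((abF X).obj N) n V} (hf : Equivariant f)
    (hs : Function.Surjective f) : HFin φ N n V := by
  let := hMod φ M m U
  let := hMod φ N n V
  have : Module.Finite A (Hc ((abF X).obj M) m U) := h
  exact Module.Finite.of_surjective (hf.linear (φ := φ)) hs

theorem HFin.of_injective [IsNoetherianRing A] (h : HFin φ N n V)
    {f : Hc ((abF X).obj M) m U →+ Hc ((abF X).obj N) n V} (hf : Equivariant f)
    (hi : Function.Injective f) : HFin φ M m U := by
  let := hMod φ M m U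
  let := hMod φ N n V
  have : Module.Finite A (Hc ((abF X).obj N) n V) := h
  exact Module.Finite.of_injective (hf.linear (φ := φ)) hi

theorem HFin.of_exact [IsNoetherianRing A] (h₁ : HFin φ M k U) (h₃ : HFin φ P n W)
    {f : Hc ((abF X).obj M) k U →+ Hc ((abF X).obj N) m V}
    {g : Hc ((abF X).obj N) m V →+ Hc ((abF X).obj P) n W}
    (hf : Equivariant f) (hg : Equivariant g) (hex : ∀ x, g x = 0 → ∃ y, f y = x) :
    HFin φ N m V := by
  let := hMod φ M k U
  let := hMod φ N m V
  let := hMod φ P n W
  have : Module.Finite A (Hc ((abF X).obj M) k U) := h₁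
  have : Module.Finite A (Hc ((abF X).obj P) n W) := h₃
  refine ⟨Submodule.fg_of_fg_map_of_fg_inf_ker (hg.linear (φ := φ))
    (IsNoetherian.noetherian _) ?_⟩
  rw [top_inf_eq, show (hg.linear (φ := φ)).ker = (hf.linear (φ := φ)).range ⊓
    (hg.linear (φ := φ)).ker from (inf_eq_right.2 fun x hx => hex x hx).symm]
  have : IsNoetherian A (hf.linear (φ := φ)).range :=
    isNoetherian_of_fg_of_noetherian _ (Module.Finite.fg_top.map (hf.linear (φ := φ)) |> fun h => by
      rwa [Submodule.map_top] at h)
  exact Submodule.FG.of_le_of_isNoetherian inf_le_left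

theorem HFin.of_subsingleton (h : Subsingleton (Hc ((abF X).obj M) n U)) : HFin φ M n U := by
  let := hMod φ M n U
  exact Module.Finite.of_finite

lemma gEnd_natural (ψ : M ⟶ N) (r : Γ(X, ⊤)) :
    gEnd M r ≫ (abF X).map ψ = (abF X).map ψ ≫ gEnd N r := by
  apply CategoryTheory.Sheaf.hom_ext
  refine NatTrans.ext (funext fun V => AddCommGrpCat.ext fun x => ?_)
  exact ψ.app_smul (M1.ores (le_top : V.unop ≤ ⊤) r) x

lemma equivariant_mp (ψ : M ⟶ N) (n : ℕ) (U : Opens (sp X)) :
    Equivariant (mp ((abF X).map ψ) n U) := fun r x =>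
  ((mp_comp _ _ n U x).symm.trans (congrArg (fun χ => mp χ n U x) (gEnd_natural ψ r))).trans
    (mp_comp _ _ n U x)

lemma equivariant_rs (M : X.Modules) (n : ℕ) {U V : Opens (sp X)} (h : V ≤ U) :
    Equivariant (rs ((abF X).obj M) n h) := fun r x => (rs_gMul r h x).symm

lemma equivariant_delta {S : ShortComplex X.Modules} (hS : (S.map (abF X)).ShortExact) (n : ℕ)
    (U : Opens (sp X)) : Equivariant (M := S.X₃) (N := S.X₁) (delta hS n U) := fun r x =>
  (delta_natural hS hS (ShortComplex.homMk (gEnd S.X₁ r) (gEnd S.X₂ r) (gEnd S.X₃ r)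
    (gEnd_natural S.f r) (gEnd_natural S.g r)) n U x).symm

/-- Finiteness of `Coh.HH` for a scheme over a ring. -/
theorem finite_HH_iff [X.Over (Spec (CommRingCat.of A))] (M : X.Modules) (n : ℕ) :
    Module.Finite A (Coh.HH X M n) ↔ HFin (Coh.toGlobal (X ↘ Spec (CommRingCat.of A))) M n ⊤ := by
  let ψ : A →+* Γ(X, ⊤) := Coh.toGlobal (X ↘ Spec (CommRingCat.of A))
  let := hMod ψ M n ⊤
  let e : Coh.HH X M n ≃ₗ[A] Hc ((abF X).obj M) n ⊤ :=
    { hhExt M n with map_smul' := fun a x => hExt_map (gEnd M (ψ a)) n x }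
  exact Module.Finite.equiv_iff e

section Criteria

variable (φ)

/-- Degree zero cohomology is finite if sections are the image of a finite module. -/
theorem HFin.of_sections {M₀ : Type u} [AddCommGroup M₀] [Module A M₀] [Module.Finite A M₀]
    (g : M₀ →+ ((abF X).obj M).obj.obj (op U))
    (hg : ∀ (a : A) (m : M₀), g (a • m) = (gEnd M (φ a)).hom.app (op U) (g m))
    (hs : Function.Surjective g) : HFin φ M 0 U := by
  let := hMod φ M 0 U
  let f : M₀ →ₗ[A] Hc ((abF X).obj M) 0 U :=
    { toFun := fun m => (hc0 _ U).symm (g m)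
      map_add' := fun x y => by rw [map_add, map_add]
      map_smul' := fun a m => by
        apply (hc0 _ U).injective
        refine Eq.trans ?_ (hc0_mp (gEnd M (φ a)) U _).symm
        rw [AddEquiv.apply_symm_apply, AddEquiv.apply_symm_apply]
        exact hg a m }
  exact Module.Finite.of_surjective f ((hc0 _ U).symm.surjective.comp hs)

/-- Finiteness from a finite family generating modulo the kernel of a surjection. -/
theorem HFin.of_gens {S : Type u} [AddCommGroup S]
    (Φ : S →+ Hc ((abF X).obj M) n U) (hs : Function.Surjective Φ) (act : A → S → S)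
    (hΦ : ∀ a s, Φ (act a s) = gMul M (φ a) n U (Φ s)) {E : Type} [Finite E] (τ : E → S)
    (Z : Set S) (hZ : ∀ z ∈ Z, Φ z = 0)
    (hdec : ∀ s, s ∈ AddSubgroup.closure ({t | ∃ a e, act a (τ e) = t} ∪ Z)) : HFin φ M n U := by
  classical
  let := hMod φ M n U
  refine ⟨Submodule.fg_def.2 ⟨Set.range (Φ ∘ τ), Set.finite_range _, top_le_iff.1 fun y _ => ?_⟩⟩
  obtain ⟨s, rfl⟩ := hs y
  refine AddSubgroup.closure_induction (p := fun s _ => Φ s ∈ Submodule.span A (Set.range (Φ ∘ τ)))
    ?_ ?_ ?_ ?_ (hdec s)
  · rintro t (⟨a, e, rfl⟩ | hz)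
    · rw [hΦ]
      exact Submodule.smul_mem _ a (Submodule.subset_span ⟨e, rfl⟩)
    · rw [hZ t hz]
      exact zero_mem _
  · rw [map_zero]; exact zero_mem _
  · intro x y _ _ hx hy
    rw [map_add]; exact add_mem hx hy
  · intro x _ hx
    rw [map_neg]; exact neg_mem hx

end Criteria

end Groth.Agent.CohFound
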