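import Groth.Agent.Lib.CohFound.Rpush
import Mathlib.Algebra.Homology.ShortComplex.HomologicalComplex

/-!
# Cohomology from acyclic resolutions
-/

set_option maxHeartbeats 400000

universe u

open CategoryTheory TopologicalSpace Opposite CategoryTheory.Limits Abelian

namespace Groth.Agent.CohFound

variable {X : TopCat.{u}}

/-- An exact augmented cochain complex `0 → F → K⁰ → K¹ → ⋯`. -/
structure AugCx (F : CohTop.Ab X) where
  /-- the complex -/
  K : CochainComplex (CohTop.Ab X) ℕ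
  /-- the augmentation -/
  ι : F ⟶ K.X 0
  w : ι ≫ K.d 0 1 = 0
  mono : Mono ι
  exact₀ : (ShortComplex.mk ι (K.d 0 1) w).Exact
  exact_succ : ∀ n, (ShortComplex.mk (K.d n (n + 1)) (K.d (n + 1) (n + 2))
    (K.d_comp_d _ _ _)).Exact

namespace AugCx

variable {F : CohTop.Ab X} (R : AugCx F)

attribute [instance] AugCx.mono

/-- Cycles. -/
noncomputable abbrev Z (n : ℕ) : CohTop.Ab X := kernel (R.K.d n (n + 1))

/-- `0 → Zⁿ → Kⁿ → Zⁿ⁺¹ → 0`. -/
noncomputable abbrev zSC (n : ℕ) : ShortComplex (CohTop.Ab X) :=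
  ShortComplex.mk (kernel.ι (R.K.d n (n + 1)))
    (kernel.lift (R.K.d (n + 1) (n + 2)) (R.K.d n (n + 1)) (R.K.d_comp_d _ _ _)) (by
      rw [← cancel_mono (kernel.ι (R.K.d (n + 1) (n + 2))), Category.assoc, kernel.lift_ι,
        kernel.condition, zero_comp])

lemma zSC_shortExact (n : ℕ) : (R.zSC n).ShortExact := by
  have h := (ShortComplex.exact_iff_epi_kernel_lift _).1 (R.exact_succ n)
  have : Epi (R.zSC n).g := h
  refine { exact := ShortComplex.exact_of_f_is_kernel _ ?_ }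
  exact isKernelOfComp (f := (R.zSC n).g) (kernel.ι (R.K.d (n + 1) (n + 2)))
    (R.K.d n (n + 1)) (kernelIsKernel _) (R.zSC n).zero (kernel.lift_ι _ _ _)

/-- The zeroth cycles are the augmented object. -/
noncomputable def z0Iso : F ≅ R.Z 0 :=
  have := (ShortComplex.exact_iff_epi_kernel_lift _).1 R.exact₀
  have : Epi (kernel.lift (R.K.d 0 1) R.ι R.w) := this
  have : Mono (kernel.lift (R.K.d 0 1) R.ι R.w) := mono_of_mono_fac (kernel.lift_ι _ _ _)
  have : IsIso (kernel.lift (R.K.d 0 1) R.ι R.w) := isIso_of_mono_of_epi _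
  asIso (kernel.lift (R.K.d 0 1) R.ι R.w)

/-- The class of the extension `0 → F → K⁰ → ⋯ → Kⁿ⁻¹ → Zⁿ → 0`. -/
noncomputable def e (R : AugCx F) : (n : ℕ) → Ext.{u} (R.Z n) F n
  | 0 => Ext.mk₀ R.z0Iso.inv
  | n + 1 => (R.zSC_shortExact n).extClass.comp (e R n) (Nat.add_comm 1 n)

lemma e_zero : R.e 0 = Ext.mk₀ R.z0Iso.inv := rfl

lemma comp_e_zero_bijective (j : ℕ) (U : Opens X) :
    Function.Bijective (fun x : Hc (R.Z 0) j U => x.comp (R.e 0) (add_zero j)) := by
  refine ⟨fun x y hxy => ?_, fun y => ⟨y.comp (Ext.mk₀ R.z0Iso.hom) (add_zero _), ?_⟩⟩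
  · have h := congrArg (fun t => t.comp (Ext.mk₀ R.z0Iso.hom) (add_zero _)) hxy
    simp only [e_zero, Ext.comp_assoc_of_third_deg_zero, Ext.mk₀_comp_mk₀, Iso.inv_hom_id,
      Ext.comp_mk₀_id] at h
    exact h
  · simp only [e_zero, Ext.comp_assoc_of_third_deg_zero, Ext.mk₀_comp_mk₀, Iso.hom_inv_id,
      Ext.comp_mk₀_id]

/-- Acyclicity of the terms over an open. -/
def AcyclicOn (U : Opens X) : Prop := ∀ q j, Subsingleton (Hc (R.K.X q) (j + 1) U)

variable {R} {U : Opens X} (hA : R.AcyclicOn U)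

include hA in
lemma comp_e_bijective (n : ℕ) : ∀ (j m : ℕ) (h : j + 1 + n = m),
    Function.Bijective (fun x : Hc (R.Z n) (j + 1) U => x.comp (R.e n) h) := by
  induction n with
  | zero =>
    intro j m h
    obtain rfl : j + 1 = m := h
    exact R.comp_e_zero_bijective (j + 1) U
  | succ n ih =>
    intro j m h
    have h2 : (fun x : Hc (R.Z (n + 1)) (j + 1) U => x.comp (R.e (n + 1)) h) =
        (fun y : Hc (R.Z n) (j + 2) U => y.comp (R.e n) (by omega : j + 2 + n = m)) ∘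
          delta (R.zSC_shortExact n) (j + 1) U := by
      funext x
      exact (Ext.comp_assoc x (R.zSC_shortExact n).extClass (R.e n) rfl (Nat.add_comm 1 n)
        (by omega)).symm
    rw [h2]
    exact (ih (j + 1) m (by omega)).comp
      (delta_bijective (R.zSC_shortExact n) j U (hA n j) (hA n (j + 1)))

variable (R) (U)

/-- Cycles to cohomology. -/
noncomputable def toHc (n : ℕ) : (R.Z n).obj.obj (op U) →+ Hc F n U :=
  ((R.e n).postcomp (freeU U) (zero_add n)).comp (hc0 (R.Z n) U).symm.toAddMonoidHom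

lemma toHc_apply (n : ℕ) (z : (R.Z n).obj.obj (op U)) :
    R.toHc U n z = ((hc0 (R.Z n) U).symm z).comp (R.e n) (zero_add n) := rfl

lemma toHc_map {V : Opens X} (h : V ≤ U) (n : ℕ) (z : (R.Z n).obj.obj (op U)) :
    R.toHc V n ((R.Z n).obj.map (homOfLE h).op z) = rs F n h (R.toHc U n z) := by
  have e : (hc0 (R.Z n) V).symm ((R.Z n).obj.map (homOfLE h).op z) =
      rs (R.Z n) 0 h ((hc0 (R.Z n) U).symm z) := by
    apply (hc0 (R.Z n) V).injective
    rw [AddEquiv.apply_symm_apply, hc0_rs, AddEquiv.apply_symm_apply]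
  rw [toHc_apply, toHc_apply, e, rs_apply, rs_apply]
  exact Ext.comp_assoc _ _ _ _ (zero_add n) (by omega)

variable {U}

lemma toHc_succ_eq (n : ℕ) (z : (R.Z (n + 1)).obj.obj (op U)) :
    R.toHc U (n + 1) z =
      (delta₀ (R.zSC_shortExact n) U z).comp (R.e n) (Nat.add_comm 1 n) := by
  exact (Ext.comp_assoc ((hc0 (R.Z (n + 1)) U).symm z) (R.zSC_shortExact n).extClass (R.e n)
    rfl (Nat.add_comm 1 n) (by omega)).symm

lemma toHc_zero_bijective : Function.Bijective (R.toHc U 0) := by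
  have h := R.comp_e_zero_bijective 0 U
  exact h.comp (hc0 (R.Z 0) U).symm.bijective

variable {R}

include hA in
lemma toHc_surjective (n : ℕ) : Function.Surjective (R.toHc U n) := by
  cases n with
  | zero => exact R.toHc_zero_bijective.2
  | succ n =>
    intro x
    obtain ⟨c, rfl⟩ := (comp_e_bijective hA n 0 (n + 1) (by omega)).2 x
    obtain ⟨z, rfl⟩ := delta₀_surjective (R.zSC_shortExact n) U (hA n 0) c
    exact ⟨z, R.toHc_succ_eq n z⟩

include hA in
lemma toHc_succ_eq_zero_iff (n : ℕ) (z : (R.Z (n + 1)).obj.obj (op U)) :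
    R.toHc U (n + 1) z = 0 ↔ ∃ t, (R.K.d n (n + 1)).hom.app (op U) t =
      (kernel.ι (R.K.d (n + 1) (n + 2))).hom.app (op U) z := by
  have h0 : R.toHc U (n + 1) z = 0 ↔ z ∈ (delta₀ (R.zSC_shortExact n) U).ker := by
    rw [toHc_succ_eq, AddMonoidHom.mem_ker]
    refine ⟨fun h => (comp_e_bijective hA n 0 (n + 1) (by omega)).1 ?_, fun h => by
      rw [h, Ext.zero_comp]⟩
    change Ext.comp _ (R.e n) _ = Ext.comp _ (R.e n) _
    rw [Ext.zero_comp]
    exact h
  rw [h0, delta₀_ker]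
  have e1 : ∀ t, (kernel.ι (R.K.d (n + 1) (n + 2))).hom.app (op U) ((R.zSC n).g.hom.app (op U) t) =
      (R.K.d n (n + 1)).hom.app (op U) t := fun t =>
    congrArg (fun φ : R.K.X n ⟶ R.K.X (n + 1) => φ.hom.app (op U) t) (kernel.lift_ι _ _ _)
  constructor
  · rintro ⟨t, rfl⟩
    exact ⟨t, (e1 t).symm⟩
  · rintro ⟨t, ht⟩
    exact ⟨t, injective_app_of_mono (kernel.ι (R.K.d (n + 1) (n + 2))) U ((e1 t).trans ht)⟩

end AugCx

end Groth.Agent.CohFound
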