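import Groth.Agent.Lib.CohFound.AugCx

/-!
# Naturality of cycles to cohomology
-/

set_option maxHeartbeats 400000

universe u

open CategoryTheory TopologicalSpace Opposite CategoryTheory.Limits Abelian

namespace Groth.Agent.CohFound.AugCx

variable {X : TopCat.{u}} {F G : CohTop.Ab X} (R : AugCx F) (R' : AugCx G)
  (τ : R.K ⟶ R'.K) (φ : F ⟶ G) (h : φ ≫ R'.ι = R.ι ≫ τ.f 0)

/-- The map on cycles. -/
noncomputable def zMap (n : ℕ) : R.Z n ⟶ R'.Z n :=
  kernel.lift _ (kernel.ι _ ≫ τ.f n) (by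
    rw [Category.assoc, τ.comm, kernel.condition_assoc, zero_comp])

lemma zMap_ι (n : ℕ) : zMap R R' τ n ≫ kernel.ι _ = kernel.ι _ ≫ τ.f n := kernel.lift_ι _ _ _

/-- The map of the short exact sequences of cycles. -/
noncomputable def zSCMap (n : ℕ) : R.zSC n ⟶ R'.zSC n where
  τ₁ := zMap R R' τ n
  τ₂ := τ.f n
  τ₃ := zMap R R' τ (n + 1)
  comm₁₂ := zMap_ι R R' τ n
  comm₂₃ := by
    rw [← cancel_mono (kernel.ι (R'.K.d (n + 1) (n + 2))), Category.assoc, Category.assoc, zMap_ι,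
      kernel.lift_ι, kernel.lift_ι_assoc, τ.comm]

include h in
lemma z0Iso_zMap : φ ≫ R'.z0Iso.hom = R.z0Iso.hom ≫ zMap R R' τ 0 := by
  rw [← cancel_mono (kernel.ι (R'.K.d 0 1)), Category.assoc, Category.assoc, zMap_ι]
  change φ ≫ kernel.lift _ R'.ι R'.w ≫ kernel.ι _ = kernel.lift _ R.ι R.w ≫ kernel.ι _ ≫ τ.f 0
  rw [kernel.lift_ι, kernel.lift_ι_assoc, h]

include h in
lemma e_natural (n : ℕ) :
    (R.e n).comp (Ext.mk₀ φ) (add_zero n) =
      (Ext.mk₀ (zMap R R' τ n)).comp (R'.e n) (zero_add n) := by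
  induction n with
  | zero =>
    rw [e_zero, e_zero, Ext.mk₀_comp_mk₀, Ext.mk₀_comp_mk₀]
    congr 1
    rw [Iso.inv_comp_eq, ← Category.assoc, Iso.eq_comp_inv]
    exact z0Iso_zMap R R' τ φ h
  | succ n ih =>
    change ((R.zSC_shortExact n).extClass.comp (R.e n) _).comp _ _ =
      (Ext.mk₀ _).comp ((R'.zSC_shortExact n).extClass.comp (R'.e n) _) _
    rw [Ext.comp_assoc_of_third_deg_zero, ih, ← Ext.comp_assoc_of_second_deg_zero,
      show Ext.mk₀ (zMap R R' τ n) = Ext.mk₀ (zSCMap R R' τ n).τ₁ from rfl,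
      ShortComplex.ShortExact.extClass_naturality (R.zSC_shortExact n) (R'.zSC_shortExact n)
        (zSCMap R R' τ n)]
    exact Ext.comp_assoc _ _ _ _ _ (by omega)

include h in
/-- Cycles to cohomology is natural in the resolution. -/
theorem toHc_natural (U : Opens X) (n : ℕ) (z : (R.Z n).obj.obj (op U)) :
    mp φ n U (R.toHc U n z) = R'.toHc U n ((zMap R R' τ n).hom.app (op U) z) := by
  have e : (hc0 (R'.Z n) U).symm ((zMap R R' τ n).hom.app (op U) z) =
      mp (zMap R R' τ n) 0 U ((hc0 (R.Z n) U).symm z) := by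
    apply (hc0 (R'.Z n) U).injective
    rw [AddEquiv.apply_symm_apply, hc0_mp, AddEquiv.apply_symm_apply]
  rw [toHc_apply, toHc_apply, e, mp_apply, mp_apply, Ext.comp_assoc_of_third_deg_zero,
    e_natural R R' τ φ h n, Ext.comp_assoc_of_second_deg_zero]

end Groth.Agent.CohFound.AugCx
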