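import Groth.Agent.Lib.CohFound.Push
import Mathlib.CategoryTheory.Abelian.Basic

/-!
# Maps bijective over the opens below `U` are bijective on `H^n(U, -)`
-/

set_option maxHeartbeats 400000

universe u

open CategoryTheory TopologicalSpace Opposite CategoryTheory.Limits Abelian

namespace Groth.Agent.CohFound

variable {Z : TopCat.{u}}

lemma hc_eq_zero_of_sections (G : CohTop.Ab Z) (U : Opens Z)
    (h : ∀ V ≤ U, Subsingleton (G.obj.obj (op V))) (n : ℕ) (x : Hc G n U) : x = 0 := by
  obtain ⟨e⟩ := nonempty_hc_restr U G n ⊤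
  have hG : IsZero (CohTop.restr G U) := by
    rw [IsZero.iff_id_eq_zero]
    ext W s
    exact (h (im U W.unop) (fun z hz => ((mem_im U).1 hz).1)).elim _ _
  have : Subsingleton (Hc (CohTop.restr G U) n ⊤) := subsingleton_of_forall_eq 0 fun y => by
    rw [← Ext.comp_mk₀_id y, hG.eq_of_src (𝟙 _) 0, Ext.mk₀_zero, Ext.comp_zero]
  rw [im_top] at e
  exact e.symm.injective (Subsingleton.elim _ _)

lemma mp_mono_bijective_of_cokernel {F G : CohTop.Ab Z} (i : F ⟶ G) [Mono i] (U : Opens Z)
    (h : ∀ n (x : Hc (cokernel i) n U), x = 0) (n : ℕ) : Function.Bijective (mp i n U) := by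
  let S := ShortComplex.mk i (cokernel.π i) (cokernel.condition i)
  have hS : S.ShortExact := { exact := ShortComplex.exact_of_g_is_cokernel _ (cokernelIsCokernel _) }
  refine ⟨(injective_iff_map_eq_zero _).2 fun x hx => ?_,
    fun y => exact₂ hS n U y (h n _)⟩
  rcases n with _ | m
  · exact mp_f_injective hS U (hx.trans (map_zero _).symm)
  · obtain ⟨c, rfl⟩ := exact₁ hS m U x hx
    exact (congrArg (delta hS m U) (h m c)).trans (map_zero _)

lemma mp_epi_bijective_of_kernel {F G : CohTop.Ab Z} (p : F ⟶ G) [Epi p] (U : Opens Z)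
    (h : ∀ n (x : Hc (kernel p) n U), x = 0) (n : ℕ) : Function.Bijective (mp p n U) := by
  let S := ShortComplex.mk (kernel.ι p) p (kernel.condition p)
  have hS : S.ShortExact := { exact := ShortComplex.exact_of_f_is_kernel _ (kernelIsKernel _) }
  refine ⟨(injective_iff_map_eq_zero _).2 fun x hx => ?_, fun y => exact₃ hS n U y (h _ _)⟩
  obtain ⟨c, rfl⟩ := exact₂ hS n U x hx
  exact (congrArg (mp S.f n U) (h n c)).trans (map_zero _)

lemma mp_comp_bijective {F I G : CohTop.Ab Z} (p : F ⟶ I) (i : I ⟶ G) [Epi p] [Mono i] (U : Opens Z)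
    (h : ∀ V ≤ U, Function.Bijective ((p ≫ i).hom.app (op V))) (n : ℕ) :
    Function.Bijective (mp (p ≫ i) n U) := by
  have hk : ∀ V ≤ U, Subsingleton ((kernel p).obj.obj (op V)) := fun V hV => by
    refine subsingleton_of_forall_eq 0 fun s => injective_app_of_mono (kernel.ι p) V ?_
    rw [map_zero]
    refine (h V hV).1 (Eq.trans ?_ (map_zero _).symm)
    refine (congrArg (i.hom.app (op V)) ?_).trans (map_zero _)
    exact congrArg (fun ψ : kernel p ⟶ I => ψ.hom.app (op V) s) (kernel.condition p)
  have hc : ∀ V ≤ U, Subsingleton ((cokernel i).obj.obj (op V)) := fun V hV => by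
    refine subsingleton_of_forall_eq 0 fun s => ?_
    refine TopCat.Sheaf.eq_of_locally_eq' (cokernel i) (fun W : {W : Opens Z // ∃ hW : W ≤ V,
      (cokernel i).obj.map (homOfLE hW).op s = 0} => W.1) V (fun W => homOfLE W.2.choose) ?_ s 0
      fun W => W.2.choose_spec.trans (map_zero _).symm
    intro y hy
    obtain ⟨W, hW, hyW, t, ht⟩ := locally_lift_of_epi (cokernel.π i) V s hy
    refine Opens.mem_iSup.2 ⟨⟨W, hW, ?_⟩, hyW⟩
    obtain ⟨r, rfl⟩ := (h W (hW.trans hV)).2 t
    rw [← ht]
    exact congrArg (fun ψ : I ⟶ cokernel i => ψ.hom.app (op W) (p.hom.app (op W) r))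
      (cokernel.condition i)
  have hb := (mp_mono_bijective_of_cokernel i U (hc_eq_zero_of_sections _ U hc) n).comp
    (mp_epi_bijective_of_kernel p U (hc_eq_zero_of_sections _ U hk) n)
  convert hb using 1
  funext x
  exact mp_comp p i n U x

/-- A map bijective on sections over the opens below `U` is bijective on `H^n(U, -)`. -/
theorem mp_bijective_of_bijective_app {F G : CohTop.Ab Z} (φ : F ⟶ G) (U : Opens Z)
    (h : ∀ V ≤ U, Function.Bijective (φ.hom.app (op V))) (n : ℕ) :
    Function.Bijective (mp φ n U) := by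
  have e := Abelian.image.fac φ
  have hb := mp_comp_bijective (Abelian.factorThruImage φ) (Abelian.image.ι φ) U
    (fun V hV => by rw [e]; exact h V hV) n
  rwa [e] at hb

end Groth.Agent.CohFound
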