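import Groth.Agent.Lib.CohFound.Loc
import Groth.Agent.Lib.CohFound.LocUnit
import Groth.Prelude.Def_ega3

/-!
# `Hⁿ(U_g, M)` as a localised module of `Hⁿ(U, M)`
-/

set_option maxHeartbeats 400000

universe u

open CategoryTheory TopologicalSpace Opposite CategoryTheory.Limits Abelian AlgebraicGeometry

namespace Groth.Agent.CohFound

variable {X : Scheme.{u}}

lemma gEnd_app_bijective (M : X.Modules) (g : Γ(X, ⊤)) {V : Opens (sp X)} (hV : V ≤ gOpen g) :
    Function.Bijective ((gEnd M g).hom.app (op V)) := by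
  have hu : IsUnit (M1.ores (le_top : V ≤ (⊤ : X.Opens)) g) := by
    have h := (RingedSpace.isUnit_res_basicOpen X.toLocallyRingedSpace.toRingedSpace g)
    have h2 : IsUnit (M1.ores (hV : (V : X.Opens) ≤ X.basicOpen g)
        (M1.ores (le_top : X.basicOpen g ≤ ⊤) g)) := IsUnit.map _ h
    rwa [M1.ores_ores] at h2
  obtain ⟨v, hv⟩ := hu
  have : ∀ m : Γ(M, V), (gEnd M g).hom.app (op V) m = (v : Γ(X, V)) • m := fun m => by
    rw [hv]; rfl
  have hb : Function.Bijective (fun m : Γ(M, V) => (v : Γ(X, V)) • m) :=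
    ⟨fun a b hab => v.isUnit.smul_left_cancel.1 hab,
      fun m => ⟨((v⁻¹ : Γ(X, V)ˣ) : Γ(X, V)) • m,
        (mul_smul _ _ m).symm.trans (by rw [v.mul_inv, one_smul])⟩⟩
  refine ⟨fun a b hab => hb.1 ((this a).symm.trans (hab.trans (this b))), fun m => ?_⟩
  obtain ⟨m', hm'⟩ := hb.2 m
  exact ⟨m', (this m').trans hm'⟩

lemma gMul_bijective (M : X.Modules) (g : Γ(X, ⊤)) (n : ℕ) {U : Opens (sp X)} (hU : U ≤ gOpen g) :
    Function.Bijective (gMul M g n U) :=
  mp_bijective_of_bijective_app (gEnd M g) U (fun _ hV => gEnd_app_bijective M g (hV.trans hU)) n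

/-- The action on cohomology of a ring acting on a sheaf. -/
noncomputable def actRingHom {Z : TopCat.{u}} {R : Type u} [CommRing R] (F : CohTop.Ab Z)
    (e : R → (F ⟶ F)) (h1 : e 1 = 𝟙 F) (hm : ∀ r s, e (r * s) = e s ≫ e r) (h0 : e 0 = 0)
    (ha : ∀ r s, e (r + s) = e r + e s) (n : ℕ) (U : Opens Z) :
    R →+* AddMonoid.End (Hc F n U) where
  toFun r := mp (e r) n U
  map_one' := AddMonoidHom.ext fun x =>
    (congrArg (fun φ => mp φ n U x) h1).trans (mp_id F n U x)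
  map_mul' r s := AddMonoidHom.ext fun x =>
    (congrArg (fun φ => mp φ n U x) (hm r s)).trans (mp_comp _ _ n U x)
  map_zero' := AddMonoidHom.ext fun x =>
    (congrArg (fun φ => mp φ n U x) h0).trans (mp_zero _ _ n U x)
  map_add' r s := AddMonoidHom.ext fun x =>
    (congrArg (fun φ => mp φ n U x) (ha r s)).trans (mp_add _ _ n U x)

/-- The module structure on cohomology from a ring acting on a sheaf. -/
@[reducible] noncomputable def actModule {Z : TopCat.{u}} {R : Type u} [CommRing R] (F : CohTop.Ab Z)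
    (e : R → (F ⟶ F)) (h1 : e 1 = 𝟙 F) (hm : ∀ r s, e (r * s) = e s ≫ e r) (h0 : e 0 = 0)
    (ha : ∀ r s, e (r + s) = e r + e s) (n : ℕ) (U : Opens Z) : Module R (Hc F n U) :=
  Module.compHom _ (actRingHom F e h1 hm h0 ha n U)

/-- If the two localisation properties hold, restriction is a localisation of modules. -/
theorem isLocalizedModule_act {Z : TopCat.{u}} {R : Type u} [CommRing R] {F : CohTop.Ab Z}
    (e : R → (F ⟶ F)) (h1 : e 1 = 𝟙 F) (hm : ∀ r s, e (r * s) = e s ≫ e r) (h0 : e 0 = 0)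
    (ha : ∀ r s, e (r + s) = e r + e s) (g : R) {D U : Opens Z} (n : ℕ)
    (hinj : InjLoc F (fun k => e (g ^ k)) D n U) (hsurj : SurjLoc F (fun k => e (g ^ k)) D n U)
    (hb : Function.Bijective (mp (e g) n (U ⊓ D))) :
    letI := actModule F e h1 hm h0 ha n U
    letI := actModule F e h1 hm h0 ha n (U ⊓ D)
    ∃ L : Hc F n U →ₗ[R] Hc F n (U ⊓ D),
      (∀ x, L x = rs F n (inf_le_left : U ⊓ D ≤ U) x) ∧
      IsLocalizedModule (Submonoid.powers g) L := by
  let := actModule F e h1 hm h0 ha n U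
  let := actModule F e h1 hm h0 ha n (U ⊓ D)
  let L : Hc F n U →ₗ[R] Hc F n (U ⊓ D) :=
    { toFun := rs F n (inf_le_left : U ⊓ D ≤ U)
      map_add' := map_add _
      map_smul' := fun r x => (mp_rs (e r) n _ x).symm }
  refine ⟨L, fun _ => rfl, ?_, ?_, ?_⟩
  · rintro ⟨_, k, rfl⟩
    rw [map_pow]
    exact ((Module.End.isUnit_iff _).2 hb).pow k
  · intro ξ
    obtain ⟨k, η, hη⟩ := hsurj ξ
    exact ⟨⟨η, ⟨g ^ k, k, rfl⟩⟩, hη.symm⟩
  · intro x₁ x₂ h
    obtain ⟨k, hk⟩ := hinj (x₁ - x₂) (by rw [map_sub, sub_eq_zero]; exact h)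
    refine ⟨⟨g ^ k, k, rfl⟩, ?_⟩
    rw [map_sub, sub_eq_zero] at hk
    exact hk

/-- The localised module, transported. -/
theorem nonempty_localized_equiv {Z : TopCat.{u}} {R : Type u} [CommRing R] {F : CohTop.Ab Z}
    (e : R → (F ⟶ F)) (h1 : e 1 = 𝟙 F) (hm : ∀ r s, e (r * s) = e s ≫ e r) (h0 : e 0 = 0)
    (ha : ∀ r s, e (r + s) = e r + e s) (g : R) {D U : Opens Z} (n : ℕ)
    (hinj : InjLoc F (fun k => e (g ^ k)) D n U) (hsurj : SurjLoc F (fun k => e (g ^ k)) D n U)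
    (hb : Function.Bijective (mp (e g) n (U ⊓ D))) (hD : D ≤ U) {H : Type u} [AddCommGroup H]
    [Module R H] (eH : H ≃+ Hc F n U) (hsmul : ∀ r x, eH (r • x) = mp (e r) n U (eH x)) :
    Nonempty (LocalizedModule (Submonoid.powers g) H ≃+ Hc F n D) := by
  let := actModule F e h1 hm h0 ha n U
  let := actModule F e h1 hm h0 ha n (U ⊓ D)
  obtain ⟨L, -, hL⟩ := isLocalizedModule_act e h1 hm h0 ha g n hinj hsurj hb
  let eL : H ≃ₗ[R] Hc F n U := { eH with map_smul' := hsmul }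
  have := IsLocalizedModule.of_linearEquiv_right (Submonoid.powers g) L eL
  let e₁ := (IsLocalizedModule.iso (Submonoid.powers g) (L ∘ₗ eL.toLinearMap)).toAddEquiv
  obtain ⟨e₂⟩ : Nonempty (Hc F n (U ⊓ D) ≃+ Hc F n D) := by
    rw [inf_eq_right.2 hD]; exact ⟨AddEquiv.refl _⟩
  exact ⟨e₁.trans e₂⟩

/-- The module structure of `Hⁿ(U, M)` over global functions. -/
noncomputable abbrev gModule (M : X.Modules) (n : ℕ) (U : Opens (sp X)) :
    Module Γ(X, ⊤) (Hc ((abF X).obj M) n U) :=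
  actModule ((abF X).obj M) (gEnd M) (Coh.smulAb_one M) (Coh.smulAb_mul M) (Coh.smulAb_zero M)
    (Coh.smulAb_add M) n U

/-- `Hⁿ(U ⊓ X_g, M)` is the localisation of `Hⁿ(U, M)`. -/
theorem isLocalizedModule_rs [QuasiSeparatedSpace X] (M : X.Modules) [M.IsQuasicoherent]
    (g : Γ(X, ⊤)) {U : Opens (sp X)} (hU : IsCompact (U : Set X)) (n : ℕ) :
    letI := gModule M n U
    letI := gModule M n (U ⊓ gOpen g)
    ∃ L : Hc ((abF X).obj M) n U →ₗ[Γ(X, ⊤)] Hc ((abF X).obj M) n (U ⊓ gOpen g),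
      (∀ x, L x = rs _ n (inf_le_left : U ⊓ gOpen g ≤ U) x) ∧
      IsLocalizedModule (Submonoid.powers g) L :=
  isLocalizedModule_act (gEnd M) (Coh.smulAb_one M) (Coh.smulAb_mul M) (Coh.smulAb_zero M)
    (Coh.smulAb_add M) g n (locAll_of_isCompact M g (U := U) hU n).1
    (locAll_of_isCompact M g (U := U) hU n).2 (gMul_bijective M g n inf_le_right)

/-- `Hⁿ(X_g, M)` is `Hⁿ(X, M)` localised at `g`. -/
theorem nonempty_HHon_basicOpen [CompactSpace X] [QuasiSeparatedSpace X] (M : X.Modules)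
    [M.IsQuasicoherent] (g : Γ(X, ⊤)) (n : ℕ) :
    Nonempty (Coh.HHon X M (X.basicOpen g) n ≃+
      LocalizedModule (Submonoid.powers g) (Coh.HH X M n)) := by
  obtain ⟨e⟩ := nonempty_localized_equiv (gEnd M) (Coh.smulAb_one M) (Coh.smulAb_mul M)
    (Coh.smulAb_zero M) (Coh.smulAb_add M) g (D := gOpen g) (U := ⊤) n
    (locAll_of_isCompact M g (U := ⊤) isCompact_univ n).1
    (locAll_of_isCompact M g (U := ⊤) isCompact_univ n).2 (gMul_bijective M g n inf_le_right)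
    le_top (hhExt M n) (fun r x => hExt_map (gEnd M r) n x)
  obtain ⟨e₂⟩ := nonempty_HHon_addEquiv M (X.basicOpen g) n
  exact ⟨e₂.trans e.symm⟩

end Groth.Agent.CohFound
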