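import Groth.Agent.Lib.CohFound.AugHom
import Groth.Agent.Lib.CohFound.RpushHc
import Groth.Agent.Lib.CohFound.LocModule

/-!
# Flasque resolutions of modules and cycles of their direct images
-/

set_option maxHeartbeats 400000

universe u

open CategoryTheory TopologicalSpace Opposite CategoryTheory.Limits Abelian AlgebraicGeometry

namespace Groth.Agent.CohFound

/-- In abelian sheaves, pullback along an open embedding preserves exactness. -/
lemma exact_resEmb {X Y : TopCat.{u}} {f : Y ⟶ X} (hf : Topology.IsOpenEmbedding f)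
    {S : ShortComplex (CohTop.Ab X)} (hS : S.Exact) : (S.map (resEmb hf)).Exact := by
  refine exact_of_local_lift fun W s hs x hx => ?_
  obtain ⟨V, hV, hxV, t, ht⟩ := exists_local_lift_of_exact hS (U := hf.isOpenMap.functor.obj W) s hs
    (x := f x) ⟨x, hx, rfl⟩
  have hV' : hf.isOpenMap.functor.obj ((Opens.map f).obj V) ≤ V := by
    rintro _ ⟨y, hy, rfl⟩
    exact hy
  have hW : (Opens.map f).obj V ≤ W := fun y hy => by
    obtain ⟨z, hz, e⟩ := hV hy
    exact hf.injective e ▸ hz
  refine ⟨(Opens.map f).obj V, hW, hxV, S.X₁.obj.map (homOfLE hV').op t, ?_⟩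
  refine (NatTrans.naturality_apply S.f.hom (homOfLE hV').op t).trans ?_
  exact (congrArg (S.X₂.obj.map (homOfLE hV').op) ht).trans (map_map_apply S.X₂ hV hV' s)

variable {X : Scheme.{u}}

/-- The underlying sheaf of a restriction. -/
noncomputable def abFRestrictIso {U : Scheme.{u}} (j : U ⟶ X) [IsOpenImmersion j] (M : X.Modules) :
    (abF U).obj (M.restrict j) ≅ (resEmb (isOpenEmbedding_base j)).obj ((abF X).obj M) :=
  (fullyFaithfulSheafToPresheaf (Opens.grothendieckTopology (sp U)) AddCommGrpCat.{u}).preimageIso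
    (NatIso.ofComponents (fun _ => Iso.refl _) fun _ => rfl)

lemma abFRestrictIso_natural {U : Scheme.{u}} (j : U ⟶ X) [IsOpenImmersion j] {M N : X.Modules}
    (φ : M ⟶ N) :
    (abFRestrictIso j M).hom ≫ (resEmb (isOpenEmbedding_base j)).map ((abF X).map φ) =
      (abF U).map ((Scheme.Modules.restrictFunctor j).map φ) ≫ (abFRestrictIso j N).hom := by
  ext W s
  rfl

lemma exact_abF_restrict {U : Scheme.{u}} (j : U ⟶ X) [IsOpenImmersion j] {A B C : X.Modules}
    (f : A ⟶ B) (g : B ⟶ C) (w : f ≫ g = 0)
    (w' : (Scheme.Modules.restrictFunctor j).map f ≫ (Scheme.Modules.restrictFunctor j).map g = 0)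
    (h : ((ShortComplex.mk f g w).map (abF X)).Exact) :
    ((ShortComplex.mk ((Scheme.Modules.restrictFunctor j).map f)
      ((Scheme.Modules.restrictFunctor j).map g) w').map (abF U)).Exact :=
  ShortComplex.exact_of_iso (ShortComplex.isoMk (abFRestrictIso j A) (abFRestrictIso j B)
    (abFRestrictIso j C) (abFRestrictIso_natural j f) (abFRestrictIso_natural j g)).symm
    (exact_resEmb (isOpenEmbedding_base j) h)

lemma mono_abF_restrict {U : Scheme.{u}} (j : U ⟶ X) [IsOpenImmersion j] {A B : X.Modules}
    (f : A ⟶ B) (h : Mono ((abF X).map f)) :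
    Mono ((abF U).map ((Scheme.Modules.restrictFunctor j).map f)) :=
  mono_of_injective_app _ fun W => @injective_app_of_mono _ _ _ ((abF X).map f) h (j ''ᵁ W)

lemma restrict_map_comp_eq_zero {U : Scheme.{u}} (j : U ⟶ X) [IsOpenImmersion j] {A B C : X.Modules}
    (f : A ⟶ B) (g : B ⟶ C) (w : f ≫ g = 0) :
    (Scheme.Modules.restrictFunctor j).map f ≫ (Scheme.Modules.restrictFunctor j).map g = 0 := by
  rw [← CategoryTheory.Functor.map_comp, w]
  apply (abF U).map_injective
  ext W s
  rfl

lemma restrict_map_eq_zero {U : Scheme.{u}} (j : U ⟶ X) [IsOpenImmersion j] {A B : X.Modules}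
    (f : A ⟶ B) (w : f = 0) : (Scheme.Modules.restrictFunctor j).map f = 0 := by
  subst w
  apply (abF U).map_injective
  ext W s
  rfl

/-- The restriction of a complex. -/
noncomputable def restrictCx {U : Scheme.{u}} (j : U ⟶ X) [IsOpenImmersion j]
    (K : CochainComplex X.Modules ℕ) : CochainComplex U.Modules ℕ where
  X n := (K.X n).restrict j
  d a b := (Scheme.Modules.restrictFunctor j).map (K.d a b)
  shape a b h := restrict_map_eq_zero j _ (K.shape a b h)
  d_comp_d' a b c _ _ := restrict_map_comp_eq_zero j _ _ (K.d_comp_d a b c)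

/-- A resolution of a module by modules with flasque underlying sheaves. -/
structure ModRes (M : X.Modules) where
  /-- the complex -/
  K : CochainComplex X.Modules ℕ
  /-- the augmentation -/
  ι : M ⟶ K.X 0
  w : ι ≫ K.d 0 1 = 0
  mono : Mono ((abF X).map ι)
  exact₀ : ((ShortComplex.mk ι (K.d 0 1) w).map (abF X)).Exact
  exact_succ : ∀ n, ((ShortComplex.mk (K.d n (n + 1)) (K.d (n + 1) (n + 2))
    (K.d_comp_d _ _ _)).map (abF X)).Exact
  flasque : ∀ n, TopCat.Sheaf.IsFlasque ((abF X).obj (K.X n))

namespace ModRes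

variable {M : X.Modules} (R : ModRes M)

/-- The underlying augmented complex. -/
noncomputable def toAug : AugCx ((abF X).obj M) where
  K := ((abF X).mapHomologicalComplex (ComplexShape.up ℕ)).obj R.K
  ι := (abF X).map R.ι
  w := (CategoryTheory.Functor.map_comp (abF X) _ _).symm.trans
    ((congrArg (abF X).map R.w).trans ((abF X).map_zero _ _))
  mono := R.mono
  exact₀ := R.exact₀
  exact_succ := R.exact_succ

lemma acyclicOn (U : Opens (sp X)) : R.toAug.AcyclicOn U := fun q j =>
  have : TopCat.Sheaf.IsFlasque (R.toAug.K.X q) := R.flasque q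
  subsingleton_hc_of_isFlasque _ j U

/-- An injective resolution is one. -/
noncomputable def ofInj (I : InjectiveResolution M) : ModRes M where
  K := I.cocomplex
  ι := I.ι.f 0
  w := I.ι_f_zero_comp_complex_d
  mono := (augOfModInj I).mono
  exact₀ := (augOfModInj I).exact₀
  exact_succ := (augOfModInj I).exact_succ
  flasque n := isFlasque_abF_injective (hI := I.injective n) (I.cocomplex.X n)

/-- Restriction along an open immersion. -/
noncomputable def restrict {U : Scheme.{u}} (j : U ⟶ X) [IsOpenImmersion j] :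
    ModRes (M.restrict j) where
  K := restrictCx j R.K
  ι := (Scheme.Modules.restrictFunctor j).map R.ι
  w := restrict_map_comp_eq_zero j _ _ R.w
  mono := mono_abF_restrict j R.ι R.mono
  exact₀ := exact_abF_restrict j R.ι (R.K.d 0 1) R.w _ R.exact₀
  exact_succ n := exact_abF_restrict j (R.K.d n (n + 1)) (R.K.d (n + 1) (n + 2))
    (R.K.d_comp_d _ _ _) _ (R.exact_succ n)
  flasque n := @isFlasque_resEmb _ _ _ (isOpenEmbedding_base j) _ (R.flasque n)

/-- Multiplication by a global function on the complex. -/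
noncomputable def smulK (r : Γ(X, ⊤)) : R.toAug.K ⟶ R.toAug.K where
  f n := gEnd (R.K.X n) r
  comm' a b _ := by
    ext V s
    exact Scheme.Modules.Hom.app_smul (R.K.d a b) (M1.ores (le_top : V.unop ≤ (⊤ : X.Opens)) r) s

lemma smulK_ι (r : Γ(X, ⊤)) : gEnd M r ≫ R.toAug.ι = R.toAug.ι ≫ (R.smulK r).f 0 := by
  ext V s
  exact Scheme.Modules.Hom.app_smul R.ι (M1.ores (le_top : V.unop ≤ (⊤ : X.Opens)) r) s

/-- Cycles to cohomology intertwine multiplication by global functions. -/
lemma gMul_toHc (r : Γ(X, ⊤)) (U : Opens (sp X)) (n : ℕ) (z : (R.toAug.Z n).obj.obj (op U)) :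
    gMul M r n U (R.toAug.toHc U n z) =
      R.toAug.toHc U n ((AugCx.zMap R.toAug R.toAug (R.smulK r) n).hom.app (op U) z) :=
  AugCx.toHc_natural R.toAug R.toAug (R.smulK r) (gEnd M r) (R.smulK_ι r) U n z

end ModRes

end Groth.Agent.CohFound
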