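import Groth.Agent.Lib.CohFound.SecTransfer
import Groth.Agent.Lib.CohFound.ModRes

/-!
# Restriction of acyclic resolutions and good sections
-/

set_option maxHeartbeats 400000

universe u

open CategoryTheory TopologicalSpace Opposite CategoryTheory.Limits

namespace Groth.Agent.CohFound

namespace AugCx

variable {X Y X' Y' : TopCat.{u}} {F : CohTop.Ab X}

/-- Transport along an isomorphism of the augmented object. -/
noncomputable def congr (R : AugCx F) {G : CohTop.Ab X} (e : G ≅ F) : AugCx G where
  K := R.K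
  ι := e.hom ≫ R.ι
  w := by rw [Category.assoc, R.w, comp_zero]
  mono := inferInstance
  exact₀ := ShortComplex.exact_of_iso
    (S₁ := ShortComplex.mk R.ι (R.K.d 0 1) R.w)
    (ShortComplex.isoMk e.symm (Iso.refl _) (Iso.refl _)
      (show e.inv ≫ e.hom ≫ R.ι = R.ι ≫ 𝟙 _ by rw [Iso.inv_hom_id_assoc, Category.comp_id])
      (show 𝟙 _ ≫ R.K.d 0 1 = R.K.d 0 1 ≫ 𝟙 _ by rw [Category.id_comp, Category.comp_id]))
    R.exact₀
  exact_succ := R.exact_succ

/-- All terms are flasque. -/
def IsFlasqueRes (R : AugCx F) : Prop := ∀ n, TopCat.Sheaf.IsFlasque (R.K.X n)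

lemma IsFlasqueRes.acyclicOn {R : AugCx F} (h : R.IsFlasqueRes) (U : Opens X) : R.AcyclicOn U :=
  fun q j =>
    have := h q
    subsingleton_hc_of_isFlasque (R.K.X q) j U

lemma isFlasqueRes_congr {R : AugCx F} (h : R.IsFlasqueRes) {G : CohTop.Ab X} (e : G ≅ F) :
    (R.congr e).IsFlasqueRes := h

variable {i : X' ⟶ X} (hi : Topology.IsOpenEmbedding i)

/-- The restriction of a resolution to an open subspace. -/
noncomputable def restr (R : AugCx F) : AugCx ((resEmb hi).obj F) where
  K := ((resEmb hi).mapHomologicalComplex (ComplexShape.up ℕ)).obj R.K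
  ι := (resEmb hi).map R.ι
  w := (CategoryTheory.Functor.map_comp (resEmb hi) _ _).symm.trans
    ((congrArg (resEmb hi).map R.w).trans ((resEmb hi).map_zero _ _))
  mono := mono_of_injective_app _ fun W =>
    @injective_app_of_mono _ _ _ R.ι R.mono (hi.isOpenMap.functor.obj W)
  exact₀ := exact_resEmb hi R.exact₀
  exact_succ n := exact_resEmb hi (R.exact_succ n)

lemma isFlasqueRes_restr {R : AugCx F} (h : R.IsFlasqueRes) : (R.restr hi).IsFlasqueRes :=
  fun n => @isFlasque_resEmb _ _ _ hi _ (h n)

/-- Base change of direct images to an open subspace. -/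
noncomputable def pushResIso {f : X ⟶ Y} {f' : X' ⟶ Y'} {j : Y' ⟶ Y}
    (hj : Topology.IsOpenEmbedding j)
    (e : ∀ W, hi.isOpenMap.functor.obj ((Opens.map f').obj W) =
      (Opens.map f).obj (hj.isOpenMap.functor.obj W)) (G : CohTop.Ab X) :
    (resEmb hj).obj ((CohTop.push f).obj G) ≅ (CohTop.push f').obj ((resEmb hi).obj G) :=
  (fullyFaithfulSheafToPresheaf (Opens.grothendieckTopology Y') AddCommGrpCat.{u}).preimageIso
    (NatIso.ofComponents (fun W => G.obj.mapIso (eqToIso (congrArg op (e W.unop).symm)))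
      fun {W W'} g =>
        (CategoryTheory.Functor.map_comp G.obj _ _).symm.trans
          ((congrArg G.obj.map (Subsingleton.elim _ _)).trans
            (CategoryTheory.Functor.map_comp G.obj _ _)))

lemma pushResIso_natural {f : X ⟶ Y} {f' : X' ⟶ Y'} {j : Y' ⟶ Y}
    (hj : Topology.IsOpenEmbedding j)
    (e : ∀ W, hi.isOpenMap.functor.obj ((Opens.map f').obj W) =
      (Opens.map f).obj (hj.isOpenMap.functor.obj W)) {G H : CohTop.Ab X} (φ : G ⟶ H) :
    (pushResIso hi hj e G).hom ≫ (CohTop.push f').map ((resEmb hi).map φ) =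
      (resEmb hj).map ((CohTop.push f).map φ) ≫ (pushResIso hi hj e H).hom := by
  ext W s
  exact NatTrans.naturality_apply φ.hom (eqToHom (congrArg op (e W.unop).symm)) s

/-- Good sections of the restricted pushed resolution give good sections over the open. -/
theorem secGood_of_restr (R : AugCx F) {f : X ⟶ Y} {f' : X' ⟶ Y'} {j : Y' ⟶ Y}
    (hj : Topology.IsOpenEmbedding j)
    (e : ∀ W, hi.isOpenMap.functor.obj ((Opens.map f').obj W) =
      (Opens.map f).obj (hj.isOpenMap.functor.obj W)) {a q : ℕ} {V' : Opens Y'}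
    (h : SecGood ((R.restr hi).pushSC f' a q) V') :
    SecGood (R.pushSC f a q) (hj.isOpenMap.functor.obj V') := by
  refine SecGood.of_resEmb hj _ (SecGood.of_iso ?_ h)
  exact (ShortComplex.isoMk (pushResIso hi hj e _) (pushResIso hi hj e _) (pushResIso hi hj e _)
    (pushResIso_natural hi hj e (R.K.d a q)) (pushResIso_natural hi hj e (R.K.d q (q + 1)))).symm

end AugCx

end Groth.Agent.CohFound
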