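import Groth.Agent.Lib.CohFound.Free

/-!
# Sheaf cohomology over opens as a delta functor

`Hc F n U` is `Ext^n` from the free abelian sheaf on `U` to `F`.  It is identified with `CohTop.HU`
and `CohTop.H` in `Groth.Agent.Lib.CohFound.Bridge`; work with `Hc` and translate at the end
(statements mentioning the group structure of `CohTop.HU` are expensive for the kernel).
-/

universe u

open CategoryTheory TopologicalSpace Opposite CategoryTheory.Limits Abelian

namespace Groth.Agent.CohFound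

variable {X : TopCat.{u}}

/-- `H^n(U, F)`. -/
noncomputable abbrev Hc (F : CohTop.Ab X) (n : ℕ) (U : Opens X) : Type u :=
  Ext.{u} (freeU U) F n

/-- Restriction. -/
noncomputable def rs (F : CohTop.Ab X) (n : ℕ) {U V : Opens X} (h : V ≤ U) :
    Hc F n U →+ Hc F n V :=
  (Ext.mk₀ ((freeFunctor X).map (homOfLE h))).precomp F (zero_add n)

/-- Functoriality in the sheaf. -/
noncomputable def mp {F G : CohTop.Ab X} (φ : F ⟶ G) (n : ℕ) (U : Opens X) :
    Hc F n U →+ Hc G n U :=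
  (Ext.mk₀ φ).postcomp (freeU U) (add_zero n)

lemma rs_apply (F : CohTop.Ab X) (n : ℕ) {U V : Opens X} (h : V ≤ U) (x : Hc F n U) :
    rs F n h x = (Ext.mk₀ ((freeFunctor X).map (homOfLE h))).comp x (zero_add n) := rfl

lemma mp_apply {F G : CohTop.Ab X} (φ : F ⟶ G) (n : ℕ) (U : Opens X) (x : Hc F n U) :
    mp φ n U x = x.comp (Ext.mk₀ φ) (add_zero n) := rfl

lemma mp_rs {F G : CohTop.Ab X} (φ : F ⟶ G) (n : ℕ) {U V : Opens X} (h : V ≤ U)
    (x : Hc F n U) : mp φ n V (rs F n h x) = rs G n h (mp φ n U x) := by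
  simp only [rs_apply, mp_apply, Ext.comp_assoc_of_third_deg_zero]

lemma rs_rs (F : CohTop.Ab X) (n : ℕ) {U V W : Opens X} (h : V ≤ U) (h' : W ≤ V)
    (x : Hc F n U) : rs F n h' (rs F n h x) = rs F n (h'.trans h) x := by
  simp only [rs_apply]
  rw [Ext.mk₀_comp_mk₀_assoc, ← CategoryTheory.Functor.map_comp, homOfLE_comp]

lemma rs_refl (F : CohTop.Ab X) (n : ℕ) {U : Opens X} (x : Hc F n U) :
    rs F n (le_refl U) x = x := by
  rw [rs_apply, Subsingleton.elim (homOfLE _) (𝟙 U)]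
  erw [CategoryTheory.Functor.map_id]
  rw [Ext.mk₀_id_comp]

lemma mp_comp {F G K : CohTop.Ab X} (φ : F ⟶ G) (ψ : G ⟶ K) (n : ℕ) (U : Opens X)
    (x : Hc F n U) : mp (φ ≫ ψ) n U x = mp ψ n U (mp φ n U x) := by
  simp only [mp_apply, Ext.comp_assoc_of_third_deg_zero, Ext.mk₀_comp_mk₀]

lemma mp_id (F : CohTop.Ab X) (n : ℕ) (U : Opens X) (x : Hc F n U) : mp (𝟙 F) n U x = x := by
  rw [mp_apply, Ext.comp_mk₀_id]

lemma mp_zero (F G : CohTop.Ab X) (n : ℕ) (U : Opens X) (x : Hc F n U) :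
    mp (0 : F ⟶ G) n U x = 0 := by
  rw [mp_apply, Ext.mk₀_zero, Ext.comp_zero]

lemma mp_add {F G : CohTop.Ab X} (φ ψ : F ⟶ G) (n : ℕ) (U : Opens X) (x : Hc F n U) :
    mp (φ + ψ) n U x = mp φ n U x + mp ψ n U x := by
  simp only [mp_apply, Ext.mk₀_add, Ext.comp_add]

/-- Degree zero cohomology over `U` is sections over `U`. -/
noncomputable def hc0 (F : CohTop.Ab X) (U : Opens X) : Hc F 0 U ≃+ F.obj.obj (op U) :=
  Ext.addEquiv₀.trans (freeHomAddEquiv U F)

lemma hc0_mk₀ (F : CohTop.Ab X) (U : Opens X) (φ : freeU U ⟶ F) :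
    hc0 F U (Ext.mk₀ φ) = freeHomAddEquiv U F φ :=
  congrArg (freeHomAddEquiv U F) (Ext.addEquiv₀.apply_symm_apply φ)

lemma hc0_rs (F : CohTop.Ab X) {U V : Opens X} (h : V ≤ U) (x : Hc F 0 U) :
    hc0 F V (rs F 0 h x) = F.obj.map (homOfLE h).op (hc0 F U x) := by
  obtain ⟨φ, rfl⟩ := (Ext.mk₀_bijective _ _).2 x
  rw [rs_apply, Ext.mk₀_comp_mk₀, hc0_mk₀, hc0_mk₀, freeHomAddEquiv_map_comp]

lemma hc0_mp {F G : CohTop.Ab X} (φ : F ⟶ G) (U : Opens X) (x : Hc F 0 U) :
    hc0 G U (mp φ 0 U x) = φ.hom.app (op U) (hc0 F U x) := by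
  obtain ⟨ψ, rfl⟩ := (Ext.mk₀_bijective _ _).2 x
  rw [mp_apply, Ext.mk₀_comp_mk₀, hc0_mk₀, hc0_mk₀, freeHomAddEquiv_comp]

section SES

variable {S : ShortComplex (CohTop.Ab X)} (hS : S.ShortExact)

/-- The connecting map. -/
noncomputable def delta (n : ℕ) (U : Opens X) : Hc S.X₃ n U →+ Hc S.X₁ (n + 1) U :=
  hS.extClass.postcomp (freeU U) rfl

lemma delta_apply (n : ℕ) (U : Opens X) (x : Hc S.X₃ n U) :
    delta hS n U x = x.comp hS.extClass rfl := rfl

lemma delta_rs (n : ℕ) {U V : Opens X} (h : V ≤ U) (x : Hc S.X₃ n U) :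
    delta hS n V (rs S.X₃ n h x) = rs S.X₁ (n + 1) h (delta hS n U x) := by
  simp only [delta_apply, rs_apply]
  exact Ext.comp_assoc _ _ _ (zero_add n) rfl (by omega)

lemma delta_natural {S' : ShortComplex (CohTop.Ab X)} (hS' : S'.ShortExact) (f : S ⟶ S')
    (n : ℕ) (U : Opens X) (x : Hc S.X₃ n U) :
    mp f.τ₁ (n + 1) U (delta hS n U x) = delta hS' n U (mp f.τ₃ n U x) := by
  rw [mp_apply, delta_apply, delta_apply, mp_apply, Ext.comp_assoc_of_third_deg_zero,
    Ext.comp_assoc_of_second_deg_zero, ShortComplex.ShortExact.extClass_naturality]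

include hS in
lemma exact₂ (n : ℕ) (U : Opens X) (x : Hc S.X₂ n U) (hx : mp S.g n U x = 0) :
    ∃ y, mp S.f n U y = x :=
  Ext.covariant_sequence_exact₂ (freeU U) hS x hx

lemma exact₃ (n : ℕ) (U : Opens X) (x : Hc S.X₃ n U) (hx : delta hS n U x = 0) :
    ∃ y, mp S.g n U y = x :=
  Ext.covariant_sequence_exact₃ (freeU U) hS x (n₁ := n + 1) rfl hx

lemma exact₁ (n : ℕ) (U : Opens X) (x : Hc S.X₁ (n + 1) U) (hx : mp S.f (n + 1) U x = 0) :
    ∃ y, delta hS n U y = x :=
  Ext.covariant_sequence_exact₁ (freeU U) hS x hx (n₀ := n) rfl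

lemma delta_mp (n : ℕ) (U : Opens X) (x : Hc S.X₂ n U) :
    delta hS n U (mp S.g n U x) = 0 := by
  rw [delta_apply, mp_apply, Ext.comp_assoc_of_second_deg_zero,
    ShortComplex.ShortExact.comp_extClass, Ext.comp_zero]

lemma mp_delta (n : ℕ) (U : Opens X) (x : Hc S.X₃ n U) :
    mp S.f (n + 1) U (delta hS n U x) = 0 := by
  rw [mp_apply, delta_apply, Ext.comp_assoc_of_third_deg_zero,
    ShortComplex.ShortExact.extClass_comp, Ext.comp_zero]

include hS in
lemma mp_f_injective (U : Opens X) : Function.Injective (mp S.f 0 U) := by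
  have := hS.mono_f
  exact Ext.postcomp_mk₀_injective_of_mono (freeU U) S.f

end SES

instance subsingleton_hc_injective (I : CohTop.Ab X) [Injective I] (n : ℕ) (U : Opens X) :
    Subsingleton (Hc I (n + 1) U) :=
  subsingleton_of_forall_eq 0 fun x => Ext.eq_zero_of_injective x

/-- An embedding into an injective sheaf, completed to a short exact sequence. -/
noncomputable abbrev injSC (F : CohTop.Ab X) : ShortComplex (CohTop.Ab X) :=
  ShortComplex.mk _ _ (cokernel.condition (Injective.ι F))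

lemma injSC_shortExact (F : CohTop.Ab X) : (injSC F).ShortExact where
  exact := ShortComplex.exact_of_g_is_cokernel _ (cokernelIsCokernel _)

end Groth.Agent.CohFound
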