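import Mathlib.RingTheory.Spectrum.Prime.Topology

/-!
# A presheaf of modules on basic opens which localises is a sheaf on basic opens
-/

universe u

open TopologicalSpace PrimeSpectrum

namespace Groth.Agent.CohFound

variable (A : Type u) [CommRing A]

/-- A presheaf of `A`-modules on basic opens turning inclusions into localisations. -/
structure BasisLoc where
  /-- sections over `D(g)` -/
  P : A → Type u
  [grp : ∀ g, AddCommGroup (P g)]
  [mod : ∀ g, Module A (P g)]
  /-- restriction -/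
  r : ∀ {g h : A}, basicOpen h ≤ basicOpen g → P g →ₗ[A] P h
  r_refl : ∀ {g : A} (x : P g), r (le_refl (basicOpen g)) x = x
  r_r : ∀ {g h k : A} (a : basicOpen h ≤ basicOpen g) (b : basicOpen k ≤ basicOpen h) (x : P g),
    r b (r a x) = r (b.trans a) x
  unit : ∀ g, Function.Bijective (fun x : P g => g • x)
  inj : ∀ (g h : A) (x : P g), r (basicOpen_mul_le_left g h) x = 0 → ∃ k, h ^ k • x = 0
  surj : ∀ (g h : A) (y : P (g * h)), ∃ (k : ℕ) (x : P g),
    r (basicOpen_mul_le_left g h) x = h ^ k • y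

namespace BasisLoc

attribute [instance] BasisLoc.grp BasisLoc.mod

variable {A} (B : BasisLoc A) {g h : A}

lemma pow_smul_injective (g : A) (k : ℕ) : Function.Injective (fun x : B.P g => g ^ k • x) := by
  induction k with
  | zero => intro a b e; simpa using e
  | succ k ih =>
    intro a b e
    simp only [pow_succ', mul_smul] at e
    exact ih ((B.unit g).1 e)

lemma pow_smul_surjective (g : A) (k : ℕ) : Function.Surjective (fun x : B.P g => g ^ k • x) := by
  induction k with
  | zero => exact fun y => ⟨y, by simp⟩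
  | succ k ih =>
    intro y
    obtain ⟨z, rfl⟩ := (B.unit g).2 y
    obtain ⟨w, rfl⟩ := ih z
    exact ⟨w, by simp only [pow_succ', mul_smul]⟩

lemma le_mul (hle : basicOpen h ≤ basicOpen g) : basicOpen h ≤ basicOpen (g * h) := by
  rw [basicOpen_mul]; exact le_inf hle le_rfl

lemma exists_pow_smul_eq_zero (hle : basicOpen h ≤ basicOpen g) (x : B.P g) (hx : B.r hle x = 0) :
    ∃ k, h ^ k • x = 0 := by
  refine B.inj g h x ?_
  rw [← B.r_r hle (basicOpen_mul_le_right g h), hx, map_zero]

lemma exists_pow_smul_eq_r (hle : basicOpen h ≤ basicOpen g) (y : B.P h) :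
    ∃ (k : ℕ) (x : B.P g), B.r hle x = h ^ k • y := by
  obtain ⟨k, x, hx⟩ := B.surj g h (B.r (basicOpen_mul_le_right g h) y)
  refine ⟨k, x, ?_⟩
  rw [← B.r_r (basicOpen_mul_le_left g h) (le_mul hle), hx, map_smul, B.r_r, B.r_refl]

lemma eq_zero_of_mem_radical (x : B.P g) (hg : g ∈ (Submodule.span A {x}).annihilator.radical) :
    x = 0 := by
  obtain ⟨m, hm⟩ := hg
  apply B.pow_smul_injective g m
  simpa using Submodule.mem_annihilator.1 hm x (Submodule.mem_span_singleton_self x)

variable {ι : Type*} {h : ι → A}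

lemma mem_radical_span (hcov : basicOpen g ≤ ⨆ i, basicOpen (h i)) :
    g ∈ (Ideal.span (Set.range h)).radical := by
  rw [← PrimeSpectrum.vanishingIdeal_zeroLocus_eq_radical, PrimeSpectrum.mem_vanishingIdeal]
  intro p hp
  rw [PrimeSpectrum.zeroLocus_span, PrimeSpectrum.mem_zeroLocus] at hp
  by_contra hg
  obtain ⟨i, hi⟩ := Opens.mem_iSup.1 (hcov hg)
  exact hi (hp ⟨i, rfl⟩)

/-- Sections vanishing on a cover vanish. -/
theorem separated (hle : ∀ i, basicOpen (h i) ≤ basicOpen g)
    (hcov : basicOpen g ≤ ⨆ i, basicOpen (h i)) (x : B.P g) (hx : ∀ i, B.r (hle i) x = 0) :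
    x = 0 := by
  refine B.eq_zero_of_mem_radical x
    (Ideal.radical_le_radical_iff.2 (Ideal.span_le.2 ?_) (mem_radical_span hcov))
  rintro _ ⟨i, rfl⟩
  obtain ⟨k, hk⟩ := B.exists_pow_smul_eq_zero (hle i) x (hx i)
  refine ⟨k, Submodule.mem_annihilator.2 fun y hy => ?_⟩
  obtain ⟨a, rfl⟩ := Submodule.mem_span_singleton.1 hy
  rw [smul_comm, hk, smul_zero]

/-- Compatible sections on a finite cover glue. -/
theorem glue [Finite ι] (hle : ∀ i, basicOpen (h i) ≤ basicOpen g)
    (hcov : basicOpen g ≤ ⨆ i, basicOpen (h i)) (p : ∀ i, B.P (h i))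
    (hp : ∀ i j, B.r (basicOpen_mul_le_left (h i) (h j)) (p i) =
      B.r (basicOpen_mul_le_right (h i) (h j)) (p j)) :
    ∃ x : B.P g, ∀ i, B.r (hle i) x = p i := by
  classical
  cases nonempty_fintype ι
  choose k q hq using fun i => B.exists_pow_smul_eq_r (hle i) (p i)
  let K := Finset.univ.sup k
  obtain ⟨q', hq'⟩ : ∃ q' : ι → B.P g, ∀ i, B.r (hle i) (q' i) = h i ^ K • p i :=
    ⟨fun i => h i ^ (K - k i) • q i, fun i => by
      rw [map_smul, hq, ← mul_smul, ← pow_add,
        Nat.sub_add_cancel (Finset.le_sup (Finset.mem_univ i))]⟩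
  have hij : ∀ ij : ι × ι, ∃ m, (h ij.1 * h ij.2) ^ m •
      (h ij.2 ^ K • q' ij.1 - h ij.1 ^ K • q' ij.2) = 0 := by
    rintro ⟨i, j⟩
    refine B.exists_pow_smul_eq_zero ((basicOpen_mul_le_left (h i) (h j)).trans (hle i)) _ ?_
    have e : ∀ (l : ι) (a : basicOpen (h i * h j) ≤ basicOpen g)
        (b : basicOpen (h i * h j) ≤ basicOpen (h l)), B.r a (q' l) = h l ^ K • B.r b (p l) :=
      fun l a b => by rw [← B.r_r (hle l) b, hq' l, map_smul]
    rw [map_sub, map_smul, e i _ (basicOpen_mul_le_left (h i) (h j)), map_smul,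
      e j _ (basicOpen_mul_le_right (h i) (h j)), sub_eq_zero, hp i j, ← mul_smul, ← mul_smul,
      mul_comm (h j ^ K)]
  choose m hm using hij
  let L := Finset.univ.sup m
  have hL : ∀ i j, h j ^ (K + L) • (h i ^ L • q' i) = h i ^ (K + L) • (h j ^ L • q' j) := fun i j => by
    have h0 := congrArg (fun z => (h i * h j) ^ (L - m (i, j)) • z) (hm (i, j))
    simp only [smul_zero] at h0
    rw [← mul_smul, ← pow_add, Nat.sub_add_cancel (Finset.le_sup (Finset.mem_univ (i, j))),
      smul_sub, sub_eq_zero, ← mul_smul, ← mul_smul] at h0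
    rw [← mul_smul, ← mul_smul]
    rw [show h j ^ (K + L) * h i ^ L = (h i * h j) ^ L * h j ^ K by ring,
      show h i ^ (K + L) * h j ^ L = (h i * h j) ^ L * h i ^ K by ring]
    exact h0
  have hg : g ∈ (Ideal.span (Set.range fun i => h i ^ (K + L))).radical := by
    refine Ideal.radical_le_radical_iff.2 (Ideal.span_le.2 ?_) (mem_radical_span hcov)
    rintro _ ⟨i, rfl⟩
    show h i ∈ (Ideal.span (Set.range fun i => h i ^ (K + L))).radical
    exact Ideal.mem_radical_iff.2 ⟨K + L, Ideal.subset_span ⟨i, rfl⟩⟩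
  obtain ⟨N, hN⟩ := Ideal.mem_radical_iff.1 hg
  obtain ⟨c, hc⟩ := (Ideal.mem_span_range_iff_exists_fun).1 hN
  obtain ⟨x, hx⟩ := B.pow_smul_surjective g N (∑ i, c i • (h i ^ L • q' i))
  refine ⟨x, fun j => ?_⟩
  have h2 : h j ^ (K + L) • g ^ N • B.r (hle j) x = h j ^ (K + L) • g ^ N • p j := by
    rw [← map_smul _ (g ^ N), show g ^ N • x = ∑ i, c i • (h i ^ L • q' i) from hx, ← map_smul,
      Finset.smul_sum]
    have : ∀ i ∈ Finset.univ, h j ^ (K + L) • c i • (h i ^ L • q' i) =
        (c i * h i ^ (K + L)) • (h j ^ L • q' j) := fun i _ => by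
      rw [smul_comm, hL i j, ← mul_smul]
    rw [Finset.sum_congr rfl this, ← Finset.sum_smul, hc, map_smul, map_smul, hq' j,
      ← mul_smul (h j ^ L), ← pow_add, add_comm L K, smul_comm]
  have h3 := B.pow_smul_injective (h j) (K + L) h2
  have hu : Function.Injective (fun y : B.P (h j) => g ^ N • y) := fun y z e => by
    have hjg := (basicOpen_le_basicOpen_iff (h j) g).1 (hle j)
    obtain ⟨n, hn⟩ := hjg
    obtain ⟨d, hd⟩ := Ideal.mem_span_singleton.1 hn
    apply B.pow_smul_injective (h j) (n * N)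
    show h j ^ (n * N) • y = h j ^ (n * N) • z
    rw [pow_mul, hd, mul_pow, mul_comm, mul_smul, mul_smul]
    exact congrArg (d ^ N • ·) e
  exact hu h3

end BasisLoc

end Groth.Agent.CohFound
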