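import Groth.Agent.Lib.CohFound.SecEquiv
import Groth.Agent.Lib.CohFound.BasisLoc
import Groth.Agent.Lib.CohFound.LocModule

/-!
# Localising cohomology gives good sections (generic form)
-/

set_option maxHeartbeats 400000

universe u

open CategoryTheory TopologicalSpace Opposite CategoryTheory.Limits Abelian PrimeSpectrum

namespace Groth.Agent.CohFound

variable {X Y : TopCat.{u}} {F : CohTop.Ab X} {A : Type u} [CommRing A] (f : X ⟶ Y)

/-- A ring acting on a sheaf on `X`, with opens of `Y` playing the role of basic opens, such that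
`W ↦ H^q(f⁻¹ W, F)` localises. -/
structure ActLoc (F : CohTop.Ab X) (A : Type u) [CommRing A] (q : ℕ) where
  /-- the action -/
  e : A → (F ⟶ F)
  h1 : e 1 = 𝟙 F
  hm : ∀ r s, e (r * s) = e s ≫ e r
  h0 : e 0 = 0
  ha : ∀ r s, e (r + s) = e r + e s
  /-- the basic opens -/
  O : A → Opens Y
  mono : ∀ {g h}, basicOpen h ≤ basicOpen g ↔ O h ≤ O g
  mul : ∀ g h, O (g * h) = O g ⊓ O h
  basis : ∀ (g : A) (W : Opens Y), W ≤ O g → ∀ y ∈ W, ∃ h, y ∈ O h ∧ O h ≤ W
  iSup : ∀ {ι : Type u} (g : A) (h : ι → A), O g ≤ ⨆ i, O (h i) →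
    basicOpen g ≤ ⨆ i, basicOpen (h i)
  compact : ∀ g, IsCompact (O g : Set Y)
  bij : ∀ g, Function.Bijective (mp (e g) q ((Opens.map f).obj (O g)))
  inj : ∀ g h, InjLoc F (fun k => e (h ^ k)) ((Opens.map f).obj (O h)) q ((Opens.map f).obj (O g))
  surj : ∀ g h, SurjLoc F (fun k => e (h ^ k)) ((Opens.map f).obj (O h)) q ((Opens.map f).obj (O g))

namespace ActLoc

variable {f} {q : ℕ} (L : ActLoc f F A q)

/-- The module structures. -/
@[reducible] noncomputable def mod (g : A) : Module A (Hc F q ((Opens.map f).obj (L.O g))) :=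
  actModule F L.e L.h1 L.hm L.h0 L.ha q _

lemma pre_mul (g h : A) :
    (Opens.map f).obj (L.O g) ⊓ (Opens.map f).obj (L.O h) = (Opens.map f).obj (L.O (g * h)) := by
  rw [L.mul]; rfl

/-- The associated presheaf of modules on basic opens. -/
noncomputable def toBasisLoc : BasisLoc A where
  P g := Hc F q ((Opens.map f).obj (L.O g))
  mod g := L.mod g
  r {g h} hle :=
    let := L.mod g
    let := L.mod h
    { toFun := rs F q (AugCx.preLe f (L.mono.1 hle))
      map_add' := map_add _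
      map_smul' := fun a x => (mp_rs (L.e a) q _ x).symm }
  r_refl x := rs_refl _ _ x
  r_r _ _ x := rs_rs _ _ _ _ x
  unit g := L.bij g
  inj g h x hx := by
    have h1 := congrArg (rs F q (L.pre_mul g h).le) hx
    rw [map_zero] at h1
    exact L.inj g h x ((rs_rs _ _ _ _ x).symm.trans h1)
  surj g h y := by
    obtain ⟨k, η, hη⟩ := L.surj g h (rs F q (L.pre_mul g h).le y)
    refine ⟨k, η, ?_⟩
    have h1 := congrArg (rs F q (L.pre_mul g h).ge) hη
    rw [rs_rs, ← mp_rs, rs_rs, rs_refl] at h1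
    exact h1

/-- Sections over basic opens are good. -/
theorem secGood (L : ActLoc f F A q) (R : AugCx F)
    (hA : ∀ W, R.AcyclicOn ((Opens.map f).obj W)) {i : ℕ}
    (hi : (ComplexShape.up ℕ).prev q = i) (g : A) :
    SecGood (R.pushSC f i q) (L.O g) := by
  refine AugCx.secGood_push hA hi
    (Bas := {b : Opens Y | ∃ h : A, b = L.O h ∧ L.O h ≤ L.O g})
    ⟨g, rfl, le_rfl⟩ (L.compact g) ?_ ?_ ?_ ?_ ?_
  · rintro _ ⟨h, rfl, hle⟩
    exact hle
  · intro W hW y hy
    obtain ⟨h, hy', hle⟩ := L.basis g W hW y hy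
    exact ⟨L.O h, ⟨h, rfl, hle.trans hW⟩, hy', hle⟩
  · rintro _ ⟨a, rfl, ha⟩ _ ⟨b, rfl, -⟩
    exact ⟨a * b, (L.mul a b).symm, (L.mul a b).trans_le (inf_le_left.trans ha)⟩
  · rintro _ ⟨a, rfl, -⟩ x hx
    choose b hb hle hy h0 using fun y : L.O a => hx y y.2
    choose c hc _ using hb
    refine L.toBasisLoc.separated (g := a) (h := c) (fun y => L.mono.2 ((hc y).ge.trans (hle y)))
      (L.iSup a c fun y hy' => Opens.mem_iSup.2 ⟨⟨y, hy'⟩, (hc ⟨y, hy'⟩).le (hy ⟨y, hy'⟩)⟩)
      x fun y => ?_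
    have h1 := congrArg (rs F q (AugCx.preLe f (hc y).ge)) (h0 y)
    rw [rs_rs, map_zero] at h1
    exact h1
  · intro ι _ C hC hcov x hx
    have hC' := hC
    choose c hc hle using hC'
    obtain ⟨y, hy⟩ := L.toBasisLoc.glue (g := g) (h := c) (fun a => L.mono.2 (hle a))
      (L.iSup g c (hcov.trans (iSup_mono fun a => (hc a).le)))
      (fun a => rs F q (AugCx.preLe f (hc a).ge) (x a))
      fun a b => by
        have hle' : L.O (c a * c b) ≤ C a ⊓ C b := by rw [hc a, hc b, L.mul]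
        have h1 := congrArg (rs F q (AugCx.preLe f hle')) (hx a b)
        rw [rs_rs, rs_rs] at h1
        change rs F q _ (rs F q _ (x a)) = rs F q _ (rs F q _ (x b))
        rw [rs_rs, rs_rs]
        exact h1
    refine ⟨y, fun a => ?_⟩
    have h1 : rs F q (AugCx.preLe f (hle a)) y = rs F q (AugCx.preLe f (hc a).ge) (x a) := hy a
    have h2 := congrArg (rs F q (AugCx.preLe f (hc a).le)) h1
    rw [rs_rs, rs_rs] at h2
    exact h2.trans (rs_refl _ _ _)

end ActLoc

end Groth.Agent.CohFound
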