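import Groth.Agent.Lib.SiteCoh.CechExt
import Groth.Agent.Lib.CohFound.Bridge
import Groth.Prelude.Def_CohTop
import Mathlib.CategoryTheory.Limits.Lattice

/-!
# Čech cohomology on a space as Čech cohomology on the site of opens
-/

set_option maxHeartbeats 400000

universe u

open CategoryTheory TopologicalSpace Opposite CategoryTheory.Limits

namespace Groth.Agent.CohFound

variable {X : TopCat.{u}} {ι : Type u} {W : Opens X} (U : ι → Opens X) (hU : ∀ i, U i ≤ W)

/-- A family of opens inside `W`, as objects over `W`. -/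
noncomputable abbrev famOver (i : ι) : Over W := Over.mk (homOfLE (hU i))

lemma pi_famOver_left {n : ℕ} (a : Fin (n + 1) → ι) :
    (∏ᶜ fun k => famOver U hU (a k)).left = ⨅ k, U (a k) := by
  refine le_antisymm (le_iInf fun k => leOfHom (Pi.π (fun k => famOver U hU (a k)) k).left) ?_
  exact leOfHom (Pi.lift (f := fun k => famOver U hU (a k))
    (fun k => (Over.homMk (homOfLE (iInf_le (fun k => U (a k)) k)) :
      Over.mk (homOfLE ((iInf_le (fun k => U (a k)) 0).trans (hU (a 0)))) ⟶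
        famOver U hU (a k)))).left

lemma pi_opens_eq {κ : Type} [Finite κ] (b : κ → Opens X) : ∏ᶜ b = ⨅ k, b k :=
  le_antisymm (le_iInf fun k => leOfHom (Pi.π b k))
    (leOfHom (Pi.lift (f := b) fun k => homOfLE (iInf_le b k)))

/-- Isomorphic families give isomorphic products, compatibly with reindexed maps. -/
lemma pi_square {I J : Type u} {A B : I → AddCommGrpCat.{u}} {A' B' : J → AddCommGrpCat.{u}}
    (r : J → I) (p : ∀ j, A (r j) ⟶ A' j) (q : ∀ j, B (r j) ⟶ B' j) (e : ∀ i, A i ≅ B i)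
    (e' : ∀ j, A' j ≅ B' j) (h : ∀ j, p j ≫ (e' j).hom = (e (r j)).hom ≫ q j) :
    Pi.lift (fun j => Pi.π A (r j) ≫ p j) ≫ (Pi.mapIso e').hom =
      (Pi.mapIso e).hom ≫ Pi.lift (fun j => Pi.π B (r j) ≫ q j) := by
  refine Pi.hom_ext _ _ fun j => ?_
  simp [h]

/-- Opens and opens over `W` give the same products. -/
lemma pi_famOver_eq {n : ℕ} (a : Fin (n + 1) → ι) :
    (∏ᶜ ((famOver U hU) ∘ a)).left = ∏ᶜ (U ∘ a) :=
  (pi_famOver_left U hU a).trans (pi_opens_eq (U ∘ a)).symm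

/-- The two Čech cosimplicial objects agree. -/
noncomputable def cechObjIso (P : (Opens X)ᵒᵖ ⥤ AddCommGrpCat.{u}) :
    (FormalCoproduct.cosimplicialObjectFunctor
      (FormalCoproduct.mk _ (famOver U hU)).cech).obj ((Over.forget W).op ⋙ P) ≅
    (FormalCoproduct.cosimplicialObjectFunctor (FormalCoproduct.mk _ U).cech).obj P :=
  NatIso.ofComponents
    (fun n => Pi.mapIso fun a => P.mapIso (eqToIso (congrArg op (pi_famOver_eq U hU a))))
    (fun {n m} g => pi_square
      ((FormalCoproduct.mk _ U).cech.map g.op).f _ _ _ _ fun a =>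
        (P.map_comp _ _).symm.trans ((congrArg P.map (Subsingleton.elim _ _)).trans
          (P.map_comp _ _)))

/-- Čech cohomology on the space and on the site of opens agree. -/
theorem nonempty_cechH_iso (P : (Opens X)ᵒᵖ ⥤ AddCommGrpCat.{u}) (p : ℕ) :
    Nonempty (CohCx.cechH P (famOver U hU) p ≅ CohTop.cechH P U p) :=
  ⟨(HomologicalComplex.homologyFunctor _ _ p).mapIso
    ((AlgebraicTopology.alternatingCofaceMapComplex _).mapIso (cechObjIso U hU P))⟩

lemma ofArrows_famOver_mem (hW : W ≤ iSup U) :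
    Sieve.ofArrows (fun i => (famOver U hU i).left) (fun i => (famOver U hU i).hom) ∈
      Opens.grothendieckTopology X W := by
  intro x hx
  obtain ⟨i, hi⟩ := Opens.mem_iSup.1 (hW hx)
  exact ⟨U i, homOfLE (hU i), (Sieve.mem_ofArrows_iff _ _ _).2 ⟨i, 𝟙 _, rfl⟩, hi⟩

/-- Covers with acyclic intersections compute cohomology. -/
theorem nonempty_cechH_HU (F : CohTop.Ab X) (hW : W ≤ iSup U)
    (h : ∀ (p : ℕ) (a : Fin (p + 1) → ι) (q : ℕ),
      Subsingleton (CohTop.HU F (q + 1) (⨅ k, U (a k)))) (hU : ∀ i, U i ≤ W) (p : ℕ) :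
    Nonempty (CohTop.cechH F.obj U p ≃+ CohTop.HU F p W) := by
  obtain ⟨e⟩ := Groth.Agent.SiteCoh.nonempty_cechH_equiv (J := Opens.grothendieckTopology X) F
    (famOver U hU) (fun p a q => by rw [pi_famOver_left]; exact h p a q) p
  have := Groth.Agent.SiteCoh.isIso_famImg (famOver U hU) (Opens.grothendieckTopology X)
    (ofArrows_famOver_mem U hU hW)
  obtain ⟨e'⟩ := nonempty_cechH_iso U hU F.obj p
  exact ⟨e'.addCommGroupIsoToAddEquiv.symm.trans (e.trans (Groth.Agent.SiteCoh.extPreEquiv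
    (asIso ((Groth.Agent.SiteCoh.frP (Opens.grothendieckTopology X)).map
      (Subfunctor.range (Groth.Agent.SiteCoh.famBase (famOver U hU))).ι)).symm F p))⟩

lemma isZero_cechH_iff (P : (Opens X)ᵒᵖ ⥤ AddCommGrpCat.{u}) (p : ℕ) :
    IsZero (CohCx.cechH P (famOver U hU) p) ↔ IsZero (CohTop.cechH P U p) := by
  obtain ⟨e⟩ := nonempty_cechH_iso U hU P p
  exact ⟨fun h => h.of_iso e.symm, fun h => h.of_iso e⟩

/-- Cartan's criterion on a basis. -/
theorem subsingleton_HU_of_cech (F : CohTop.Ab X) (B : Set (Opens X))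
    (Cov : ∀ (ι : Type u), (ι → Opens X) → Prop)
    (h1 : ∀ (ι : Type u) (V : ι → Opens X), Cov ι V →
      iSup V ∈ B ∧ ∀ (p : ℕ) (a : Fin (p + 1) → ι), (iInf fun k => V (a k)) ∈ B)
    (h2 : ∀ U ∈ B, ∀ (κ : Type u) (W : κ → Opens X), iSup W = U →
      ∃ (ι : Type u) (V : ι → Opens X), Cov ι V ∧ iSup V = U ∧ ∀ i, ∃ k, V i ≤ W k)
    (h3 : ∀ (ι : Type u) (V : ι → Opens X), Cov ι V → ∀ p : ℕ,
      IsZero (CohTop.cechH F.obj V (p + 1)))
    (U : Opens X) (hU : U ∈ B) (p : ℕ) : Subsingleton (CohTop.HU F (p + 1) U) := by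
  let Cov' : ∀ (U : Opens X) (ι : Type u), (ι → Over U) → Prop := fun U ι Y =>
    ∃ (V : ι → Opens X) (hV : ∀ i, V i ≤ U), Cov ι V ∧ iSup V = U ∧ Y = famOver V hV
  refine Groth.Agent.SiteCoh.subsingleton_HU_of_cech (J := Opens.grothendieckTopology X) B Cov'
    ?_ ?_ p F ?_ U hU
  · rintro U ι Y ⟨V, hV, hC, rfl, rfl⟩
    refine ⟨(h1 ι V hC).1, ofArrows_famOver_mem V hV le_rfl, fun p a => ?_⟩
    rw [pi_famOver_left]
    exact (h1 ι V hC).2 p a
  · intro U hU T hT
    choose W i hi hx using fun x : U => hT x x.2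
    obtain ⟨ι, V, hC, hsup, hle⟩ := h2 U hU U W (le_antisymm (iSup_le fun x => leOfHom (i x))
      fun x hx' => Opens.mem_iSup.2 ⟨⟨x, hx'⟩, hx ⟨x, hx'⟩⟩)
    refine ⟨ι, famOver V (fun j => hsup ▸ le_iSup V j), ⟨V, _, hC, hsup, rfl⟩, fun j => ?_⟩
    obtain ⟨k, hk⟩ := hle j
    have := T.downward_closed (hi k) (homOfLE hk)
    rwa [show homOfLE hk ≫ i k = (famOver V (fun j => hsup ▸ le_iSup V j) j).hom from
      Subsingleton.elim _ _] at this
  · rintro V ι Y ⟨W, hW, hC, -, rfl⟩ q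
    exact (Groth.Agent.SiteCoh.isZero_cechH_iff (famOver W hW) F q).1
      ((isZero_cechH_iff W hW F.obj (q + 1)).2 (h3 ι W hC q))

end Groth.Agent.CohFound
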