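import Groth.Agent.Lib.CohFound.Inst

/-!
# The free abelian sheaf on an open and sections
-/

universe u

open CategoryTheory TopologicalSpace Opposite CategoryTheory.Limits

namespace Groth.Agent.CohFound

variable {X : TopCat.{u}}

/-- The functor sending an open `U` to the free abelian sheaf on `U`. -/
noncomputable abbrev freeFunctor (X : TopCat.{u}) : Opens X ⥤ CohTop.Ab X :=
  yoneda ⋙ (Functor.whiskeringRight _ _ _).obj AddCommGrpCat.free ⋙ presheafToSheaf _ _

/-- The free abelian sheaf on `U`. -/
noncomputable abbrev freeU (U : Opens X) : CohTop.Ab X := (freeFunctor X).obj U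

/-- The tautological section of the free sheaf on `U` over `U`. -/
noncomputable def gen (U : Opens X) : (freeU U).obj.obj (op U) :=
  (toSheafify (Opens.grothendieckTopology X) ((yoneda.obj U) ⋙ AddCommGrpCat.free)).app (op U)
    (FreeAbelianGroup.of (𝟙 U))

lemma gen_natural {U V : Opens X} (i : V ⟶ U) :
    ((freeFunctor X).map i).hom.app (op V) (gen V) = (freeU U).obj.map i.op (gen U) := by
  unfold gen
  have h1 := toSheafify_naturality (Opens.grothendieckTopology X)
    (((Functor.whiskeringRight _ _ _).obj AddCommGrpCat.free).map (yoneda.map i))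
  have h2 := (toSheafify (Opens.grothendieckTopology X) ((yoneda.obj U) ⋙ AddCommGrpCat.free)).naturality i.op
  have h1' := congrArg (fun (φ : _ ⟶ _) => (φ.app (op V)) (FreeAbelianGroup.of (𝟙 V))) h1
  have h2' := congrArg (fun φ => φ (FreeAbelianGroup.of (𝟙 U))) h2
  simp only [NatTrans.comp_app, ConcreteCategory.comp_apply] at h1' h2'
  refine h1'.symm.trans (Eq.trans ?_ h2')
  congr 1

/-- Adjunction used for maps out of the free sheaf. -/
noncomputable def freeHomEquiv (U : Opens X) (F : CohTop.Ab X) :
    (freeU U ⟶ F) ≃ F.obj.obj (op U) :=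
  ((sheafificationAdjunction (Opens.grothendieckTopology X) AddCommGrpCat.{u}).homEquiv _ _).trans
    (((AddCommGrpCat.adj.whiskerRight _).homEquiv _ _).trans yonedaEquiv)

lemma freeHomEquiv_apply (U : Opens X) (F : CohTop.Ab X) (φ : freeU U ⟶ F) :
    freeHomEquiv U F φ = φ.hom.app (op U) (gen U) := by
  rfl

/-- Maps out of the free sheaf on `U` are sections over `U`. -/
noncomputable def freeHomAddEquiv (U : Opens X) (F : CohTop.Ab X) :
    (freeU U ⟶ F) ≃+ F.obj.obj (op U) where
  toEquiv := freeHomEquiv U F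
  map_add' φ ψ := by
    change freeHomEquiv U F (φ + ψ) = freeHomEquiv U F φ + freeHomEquiv U F ψ
    simp only [freeHomEquiv_apply]
    rfl

lemma freeHomAddEquiv_apply (U : Opens X) {F : CohTop.Ab X} (φ : freeU U ⟶ F) :
    freeHomAddEquiv U F φ = φ.hom.app (op U) (gen U) :=
  freeHomEquiv_apply U F φ

lemma freeHomAddEquiv_comp (U : Opens X) {F G : CohTop.Ab X} (φ : freeU U ⟶ F) (g : F ⟶ G) :
    freeHomAddEquiv U G (φ ≫ g) = g.hom.app (op U) (freeHomAddEquiv U F φ) := by
  simp only [freeHomAddEquiv_apply]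
  rfl

lemma freeHomAddEquiv_map_comp {U V : Opens X} (i : V ⟶ U) {F : CohTop.Ab X} (φ : freeU U ⟶ F) :
    freeHomAddEquiv V F ((freeFunctor X).map i ≫ φ) = F.obj.map i.op (freeHomAddEquiv U F φ) := by
  simp only [freeHomAddEquiv_apply]
  change φ.hom.app (op V) (((freeFunctor X).map i).hom.app (op V) (gen V)) = _
  rw [gen_natural]
  exact ConcreteCategory.congr_hom (φ.hom.naturality i.op) (gen U)

end Groth.Agent.CohFound
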