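import Groth.Agent.Lib.CohFound.SecEquiv
import Groth.Agent.Lib.CohFound.RpushHc

/-!
# The degenerate Leray spectral sequence: acyclic higher direct images
-/

set_option maxHeartbeats 400000

universe u

open CategoryTheory TopologicalSpace Opposite CategoryTheory.Limits

namespace Groth.Agent.CohFound

variable {Y : TopCat.{u}} (C : CochainComplex (CohTop.Ab Y) ℕ)

/-- The sequence `0 → B → Z → H → 0`. -/
noncomputable abbrev bdSC (n : ℕ) : ShortComplex (CohTop.Ab Y) :=
  ShortComplex.mk (kernel.ι (C.homologyπ n)) (C.homologyπ n) (kernel.condition _)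

lemma bdSC_shortExact (n : ℕ) : (bdSC C n).ShortExact where
  exact := ShortComplex.exact_of_f_is_kernel _ (kernelIsKernel _)

/-- The sequence `0 → Zⁿ → Cⁿ → Bⁿ⁺¹ → 0`. -/
noncomputable abbrev cycSC (n : ℕ) : ShortComplex (CohTop.Ab Y) :=
  ShortComplex.mk (C.iCycles n)
    (kernel.lift (C.homologyπ (n + 1)) (C.toCycles n (n + 1))
      (C.toCycles_comp_homologyπ n (n + 1))) (by
      rw [← cancel_mono (kernel.ι (C.homologyπ (n + 1))), Category.assoc, kernel.lift_ι,
        ← cancel_mono (C.iCycles (n + 1)), Category.assoc, C.toCycles_i, C.iCycles_d,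
        zero_comp, zero_comp])

lemma cycSC_shortExact (n : ℕ) : (cycSC C n).ShortExact := by
  have h : (ShortComplex.mk _ _ (C.toCycles_comp_homologyπ n (n + 1))).Exact :=
    ShortComplex.exact_of_g_is_cokernel _ (C.homologyIsCokernel n (n + 1) (by simp))
  have : Epi (cycSC C n).g := (ShortComplex.exact_iff_epi_kernel_lift _).1 h
  refine { exact := ShortComplex.exact_of_f_is_kernel _ ?_ }
  refine isKernelOfComp (f := (cycSC C n).g) (kernel.ι (C.homologyπ (n + 1)) ≫ C.iCycles (n + 1))
    (C.d n (n + 1)) (C.cyclesIsKernel n (n + 1) (by simp)) (cycSC C n).zero ?_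
  rw [← Category.assoc, kernel.lift_ι, C.toCycles_i]

variable {C} {U : Opens Y} (hC : ∀ n j, Subsingleton (Hc (C.X n) (j + 1) U))
  (hH : ∀ n j, Subsingleton (Hc (C.homology n) (j + 1) U))

include hC in
lemma subsingleton_hc_bd_succ {n : ℕ} (h : ∀ j, Subsingleton (Hc (C.cycles n) (j + 1) U)) (j : ℕ) :
    Subsingleton (Hc (bdSC C (n + 1)).X₁ (j + 1) U) := by
  have h1 : Subsingleton (Hc (cycSC C n).X₁ (j + 2) U) := h (j + 1)
  have h2 : Subsingleton (Hc (cycSC C n).X₂ (j + 1) U) := hC n j
  refine subsingleton_of_forall_eq 0 fun x => ?_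
  obtain ⟨y, rfl⟩ := exact₃ (cycSC_shortExact C n) (j + 1) U x (Subsingleton.elim _ _)
  rw [Subsingleton.elim y 0, map_zero]

include hC hH in
lemma subsingleton_hc_cycles : ∀ n j, Subsingleton (Hc (C.cycles n) (j + 1) U) := by
  intro n
  induction n with
  | zero =>
    intro j
    have h0 : IsZero (bdSC C 0).X₁ := by
      have h : (ShortComplex.mk _ _ (C.toCycles_comp_homologyπ 0 0)).Exact :=
        ShortComplex.exact_of_g_is_cokernel _ (C.homologyIsCokernel 0 0 (by simp))
      have h2 := (ShortComplex.exact_iff_epi_kernel_lift _).1 h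
      have h3 : kernel.lift (C.homologyπ 0) (C.toCycles 0 0) (C.toCycles_comp_homologyπ 0 0) = 0 := by
        rw [← cancel_mono (kernel.ι _), kernel.lift_ι, zero_comp, ← cancel_mono (C.iCycles 0),
          C.toCycles_i, zero_comp, C.shape 0 0 (by simp)]
      rw [IsZero.iff_id_eq_zero]
      exact (@cancel_epi _ _ _ _ _ _ h2 _ _).1 (by rw [h3, zero_comp, zero_comp])
    have h1 : Subsingleton (Hc (bdSC C 0).X₁ (j + 1) U) := by
      refine subsingleton_of_forall_eq 0 fun x => ?_
      rw [← mp_id _ _ U x, h0.eq_of_src (𝟙 _) 0, mp_zero]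
    exact subsingleton_hc_of_exact (bdSC_shortExact C 0) (j + 1) U h1 (hH 0 j)
  | succ n ih =>
    intro j
    exact subsingleton_hc_of_exact (bdSC_shortExact C (n + 1)) (j + 1) U
      (subsingleton_hc_bd_succ hC ih j) (hH (n + 1) j)

variable {X : TopCat.{u}} {F : CohTop.Ab X}

/-- Homology of the complex as homology data. -/
noncomputable def cxHData (R : AugCx F) (f : X ⟶ Y) {i q : ℕ}
    (hi : (ComplexShape.up ℕ).prev q = i) : HData (R.pushSC f i q) :=
  let K := ((CohTop.push f).mapHomologicalComplex (ComplexShape.up ℕ)).obj R.K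
  { Z := K.cycles q
    H := K.homology q
    i := K.iCycles q
    mono := mono_of_isLimit_fork (K.cyclesIsKernel q (q + 1) (by simp))
    wi := K.iCycles_d q (q + 1)
    exactI := ShortComplex.exact_of_f_is_kernel _ (K.cyclesIsKernel q (q + 1) (by simp))
    a := K.toCycles i q
    ha := K.toCycles_i i q
    π := K.homologyπ q
    w := K.toCycles_comp_homologyπ i q
    exactπ := ShortComplex.exact_of_g_is_cokernel _ (K.homologyIsCokernel i q hi)
    epi := inferInstance }

/-- If all higher direct images are acyclic, cohomology is sections of the higher direct images. -/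
theorem nonempty_sections_of_acyclic (R : AugCx F) (hR : ∀ W, R.AcyclicOn W) (f : X ⟶ Y)
    (hC : ∀ n j, Subsingleton (Hc ((CohTop.push f).obj (R.K.X n)) (j + 1) (⊤ : Opens Y)))
    (hH : ∀ n j, Subsingleton (Hc
      ((((CohTop.push f).mapHomologicalComplex (ComplexShape.up ℕ)).obj R.K).homology n) (j + 1)
      (⊤ : Opens Y))) (q : ℕ) :
    Nonempty (((((CohTop.push f).mapHomologicalComplex (ComplexShape.up ℕ)).obj R.K).homology q).obj.obj
      (op (⊤ : Opens Y)) ≃+ Hc F q ((Opens.map f).obj ⊤)) := by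
  let K := ((CohTop.push f).mapHomologicalComplex (ComplexShape.up ℕ)).obj R.K
  let D := cxHData R f (q := q) rfl
  have hZ := subsingleton_hc_cycles (C := K) hC hH
  have hB : ∀ n, Subsingleton (Hc (bdSC K (n + 1)).X₁ 1 ⊤) := fun n =>
    subsingleton_hc_bd_succ (C := K) hC (hZ n) 0
  have hker : ∀ z, D.π.hom.app (op ⊤) z = 0 → AugCx.dataCls D ⊤ z = 0 := fun z hz => by
    refine (R.cls_eq_zero_iff (hR _) rfl _ (D.g_i ⊤ z)).2 ?_
    obtain ⟨b, hb⟩ := exact_app (bdSC_shortExact K q).exact (U := ⊤) z hz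
    cases q with
    | zero =>
      refine ⟨0, (map_zero _).trans ?_⟩
      have h : (ShortComplex.mk _ _ (K.toCycles_comp_homologyπ 0 0)).Exact :=
        ShortComplex.exact_of_g_is_cokernel _ (K.homologyIsCokernel 0 0 (by simp))
      have hz0 : z = 0 := TopCat.Sheaf.eq_of_locally_eq' (K.cycles 0)
        (fun y : (⊤ : Opens Y) => (exists_local_lift_of_exact h z hz y.2).choose) ⊤
        (fun y => homOfLE le_top)
        (fun y hy => Opens.mem_iSup.2
          ⟨⟨y, hy⟩, (exists_local_lift_of_exact h z hz hy).choose_spec.choose_spec.1⟩) z 0 fun y => by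
        obtain ⟨t, ht⟩ := (exists_local_lift_of_exact h z hz y.2).choose_spec.choose_spec.2
        rw [map_zero]
        refine ht.symm.trans (injective_app_of_mono (K.iCycles 0) _ ?_)
        refine (congrArg (fun φ : K.X 0 ⟶ K.X 0 => φ.hom.app (op _) t)
          ((K.toCycles_i 0 0).trans (K.shape 0 0 (by simp)))).trans (map_zero _).symm
      exact ((congrArg (D.i.hom.app (op ⊤)) hz0).trans (map_zero _)).symm
    | succ m =>
      obtain ⟨t, rfl⟩ := app_surjective_of_subsingleton (cycSC_shortExact K m) ⊤ (hZ m 0) b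
      have hp : (ComplexShape.up ℕ).prev (m + 1) = m := CochainComplex.prev_nat_succ m
      subst hb
      have e : (D.i.hom.app (op ⊤)) ((bdSC K (m + 1)).f.hom.app (op ⊤)
          ((cycSC K m).g.hom.app (op ⊤) t)) = (K.d m (m + 1)).hom.app (op ⊤) t :=
        congrArg (fun φ : K.X m ⟶ K.X (m + 1) => φ.hom.app (op ⊤) t)
        (show kernel.lift (K.homologyπ (m + 1)) (K.toCycles m (m + 1))
            (K.toCycles_comp_homologyπ m (m + 1)) ≫ kernel.ι _ ≫ K.iCycles (m + 1) =
          K.d m (m + 1) by rw [kernel.lift_ι_assoc, K.toCycles_i])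
      exact (show ∀ i, i = m → ∃ t', (R.K.d i (m + 1)).hom.app (op ((Opens.map f).obj ⊤)) t' = _
        from fun i hi => by subst hi; exact ⟨t, e.symm⟩) _ hp
  have hker' : ∀ z, AugCx.dataCls D ⊤ z = 0 → D.π.hom.app (op ⊤) z = 0 := fun z hz => by
    obtain ⟨t, ht⟩ := (R.cls_eq_zero_iff (hR _) rfl _ (D.g_i ⊤ z)).1 hz
    rw [← injective_app_of_mono D.i ⊤ ((D.i_a ⊤ t).trans ht)]
    exact congrArg (fun φ : (R.pushSC f _ q).X₁ ⟶ D.H => φ.hom.app (op ⊤) t) D.w
  have hsurj : Function.Surjective (D.π.hom.app (op (⊤ : Opens Y))) := by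
    refine app_surjective_of_subsingleton (bdSC_shortExact K q) ⊤ ?_
    cases q with
    | zero =>
      refine subsingleton_of_forall_eq 0 fun x => ?_
      have := hZ 0 0
      obtain ⟨y, rfl⟩ := exact₁ (bdSC_shortExact K 0) 0 ⊤ x (Subsingleton.elim _ _)
      have hb0 : Epi ((bdSC K 0).g) := inferInstance
      have : Mono (K.homologyπ 0) := by
        have h : (ShortComplex.mk _ _ (K.toCycles_comp_homologyπ 0 0)).Exact :=
          ShortComplex.exact_of_g_is_cokernel _ (K.homologyIsCokernel 0 0 (by simp))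
        refine (ShortComplex.exact_iff_mono _ ?_).1 h
        rw [← cancel_mono (K.iCycles 0), K.toCycles_i, zero_comp, K.shape 0 0 (by simp)]
      have hiso := isIso_of_mono_of_epi (K.homologyπ 0)
      obtain ⟨w, rfl⟩ : ∃ w, mp (K.homologyπ 0) 0 ⊤ w = y :=
        ⟨mp (inv (K.homologyπ 0)) 0 ⊤ y, by rw [← mp_comp, IsIso.inv_hom_id, mp_id]⟩
      exact delta_mp (bdSC_shortExact K 0) 0 ⊤ w
    | succ m => exact hB m
  exact ⟨(QuotientAddGroup.quotientKerEquivOfSurjective (D.π.hom.app (op ⊤)).hom hsurj).symm.trans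
    ((QuotientAddGroup.quotientAddEquivOfEq (AddSubgroup.ext fun z => ⟨hker z, hker' z⟩)).trans
      (QuotientAddGroup.quotientKerEquivOfSurjective (AugCx.dataCls D ⊤)
        (AugCx.dataCls_surjective D (hR _))))⟩

end Groth.Agent.CohFound
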