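import Groth.Agent.Lib.CohFound.Colim
import Groth.Agent.Lib.CohFound.AffMor
import Groth.Agent.Lib.CohFound.RpushComp
import Groth.Agent.Lib.QcohDesc12.BC
import Groth.Prelude.Def_Formal
import Mathlib.CategoryTheory.Limits.Constructions.Filtered
import Mathlib.LinearAlgebra.TensorProduct.Basis

/-!
# Pullback along a base change with a basis

If `C` is free over `A` with basis `(βᵢ)`, then for `π : X_C ⟶ X` the base change and `M` quasi-coherent
the map `∐ᵢ M ⟶ π_* π^* M` with components `βᵢ • unit` is an isomorphism.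
-/

set_option autoImplicit false
set_option backward.isDefEq.respectTransparency.types false

universe u

open CategoryTheory TopologicalSpace Opposite CategoryTheory.Limits AlgebraicGeometry
open scoped TensorProduct

namespace Groth.Agent.CohFound

/-- Transport of a basis along compatible ring equivalences. -/
theorem exists_basis_transport {A C R L : Type u} [CommRing A] [CommRing C] [CommRing R] [CommRing L]
    [Algebra A C] [Algebra R L] (eA : A ≃+* R) (eC : C ≃+* L)
    (h : ∀ x, eC (algebraMap A C x) = algebraMap R L (eA x)) {ι : Type u}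
    (b : Module.Basis ι A C) : ∃ b' : Module.Basis ι R L, ∀ i, b' i = eC (b i) := by
  have hs : ∀ (x : A) (c : C), eC (x • c) = eA x • eC c := fun x c => by
    rw [Algebra.smul_def, Algebra.smul_def, map_mul, h]
  have hs' : ∀ (r : R) (l : L), eC.symm (r • l) = eA.symm r • eC.symm l := fun r l => by
    apply eC.injective
    rw [hs, eA.apply_symm_apply, eC.apply_symm_apply, eC.apply_symm_apply]
  letI : Module A L := Module.compHom L eA.toRingHom
  let e : C ≃ₗ[A] L := { eC.toAddEquiv with map_smul' := hs }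
  refine ⟨(b.map e).mapCoeffs eA (fun _ _ => rfl), fun i => ?_⟩
  rw [Module.Basis.mapCoeffs_apply, Module.Basis.map_apply]
  rfl

variable {X : Scheme.{u}}

/-- Sections of a coproduct over a finite index type. -/
theorem mem_closure_range_sigma_finite {α : Type u} [Finite α] (L : X.Modules) (U : X.Opens)
    (s : Γ(∐ fun _ : α => L, U)) :
    s ∈ AddSubgroup.closure {t | ∃ (i : α) (m : Γ(L, U)), (Sigma.ι (fun _ : α => L) i).app U m = t} := by
  classical
  cases nonempty_fintype α
  let pr (i : α) : (∐ fun _ : α => L) ⟶ L := Sigma.desc fun j => if j = i then 𝟙 L else 0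
  have htot : ∑ i, pr i ≫ Sigma.ι (fun _ : α => L) i = 𝟙 _ := by
    refine Sigma.hom_ext _ _ fun j => ?_
    rw [Preadditive.comp_sum, Category.comp_id, Finset.sum_eq_single j]
    · rw [Sigma.ι_desc_assoc, if_pos rfl, Category.id_comp]
    · intro i _ hi
      rw [Sigma.ι_desc_assoc, if_neg (Ne.symm hi), zero_comp]
    · simp
  have h := congrArg (fun χ => ((abF X).map χ).hom.app (op U) s) htot
  simp only [CategoryTheory.Functor.map_sum, CategoryTheory.Functor.map_id] at h
  have key : ∀ (t : Finset α), ((∑ i ∈ t, (abF X).map (pr i ≫ Sigma.ι (fun _ : α => L) i))).hom.app (op U) s ∈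
      AddSubgroup.closure {t | ∃ (i : α) (m : Γ(L, U)), (Sigma.ι (fun _ : α => L) i).app U m = t} := by
    intro t
    induction t using Finset.induction with
    | empty => exact zero_mem _
    | insert i t hi ih =>
      rw [Finset.sum_insert hi]
      exact add_mem (AddSubgroup.subset_closure ⟨i, (pr i).app U s, rfl⟩) ih
  refine (congrArg (· ∈ _) ?_).mp (key Finset.univ)
  exact h

/-- Sections of a coproduct over a quasi-compact quasi-separated open are finite sums. -/
theorem mem_closure_range_sigma {α : Type u} (L : X.Modules) [PrespectralSpace (sp X)] {U : X.Opens}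
    (hU : IsCompact (U : Set X)) (hq : IsQuasiSeparated (U : Set X)) (s : Γ(∐ fun _ : α => L, U)) :
    s ∈ AddSubgroup.closure {t | ∃ (i : α) (m : Γ(L, U)), (Sigma.ι (fun _ : α => L) i).app U m = t} := by
  let c := CoproductsFromFiniteFiltered.finiteSubcoproductsCocone (fun _ : α => L)
  have hc : IsColimit ((abF X).mapCocone c) :=
    isColimitOfPreserves _ (CoproductsFromFiniteFiltered.isColimitFiniteSubproductsCocone (fun _ : α => L))
  obtain ⟨j, t, rfl⟩ := exists_rep_app hc hU hq s
  refine AddSubgroup.closure_induction (p := fun t _ => (cι ((abF X).mapCocone c) j).hom.app (op U) t ∈ _)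
    ?_ ?_ ?_ ?_ (mem_closure_range_sigma_finite (α := (j : Finset (Discrete α))) L U t)
  · rintro _ ⟨i, m, rfl⟩
    refine AddSubgroup.subset_closure ⟨i.1.as, m, ?_⟩
    have e : Sigma.ι (fun _ : (j : Finset (Discrete α)) => L) i ≫ c.ι.app j = Sigma.ι (fun _ : α => L) i.1.as :=
      Sigma.ι_desc _ _
    exact (congrArg (fun χ => ((abF X).map χ).hom.app (op U) m) e.symm).trans rfl
  · exact (map_zero ((cι ((abF X).mapCocone c) j).hom.app (op U)).hom).symm ▸ zero_mem _
  · intro x y _ _ hx hy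
    exact (map_add ((cι ((abF X).mapCocone c) j).hom.app (op U)).hom x y).symm ▸ add_mem hx hy
  · intro x _ hx
    exact (map_neg ((cι ((abF X).mapCocone c) j).hom.app (op U)).hom x).symm ▸ neg_mem hx

variable {S XK Z : Scheme.{u}} {fk : XK ⟶ S} {h : X ⟶ S} (a : Z ⟶ XK) (π : Z ⟶ X) (M : X.Modules)
  {ι : Type u}

/-- The unit of pullback followed by multiplication by `β`. -/
noncomputable def bcComp (β : Γ(XK, ⊤)) :
    M ⟶ (Scheme.Modules.pushforward π).obj ((Scheme.Modules.pullback π).obj M) :=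
  (Scheme.Modules.pullbackPushforwardAdjunction π).unit.app M ≫
    (Scheme.Modules.pushforward π).map (Formal.smulModΓ _ (a.appTop β))

/-- The map `∐ᵢ M ⟶ π_* π^* M`. -/
noncomputable def basisDesc (β : ι → Γ(XK, ⊤)) :
    (∐ fun _ : ι => M) ⟶ (Scheme.Modules.pushforward π).obj ((Scheme.Modules.pullback π).obj M) :=
  Sigma.desc fun i => bcComp a π M (β i)

lemma ι_basisDesc (β : ι → Γ(XK, ⊤)) (i : ι) :
    Sigma.ι (fun _ : ι => M) i ≫ basisDesc a π M β = bcComp a π M (β i) :=
  Sigma.ι_desc _ _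

lemma bcComp_app (β : Γ(XK, ⊤)) (U : X.Opens) (m : Γ(M, U)) :
    (bcComp a π M β).app U m = a.appLE ⊤ (π ⁻¹ᵁ U) le_top β • ModLimH13.res' π M (le_refl (π ⁻¹ᵁ U)) m := by
  have e : ModLimH13.res' π M (le_refl (π ⁻¹ᵁ U)) m = M2.pullSec π M m := M1.mres_id _ _ _
  rw [e]
  rfl

/-- Over a base change of affine schemes with a basis, `∐ M ⟶ π_* π^* M` is an isomorphism. -/
theorem isIso_basisDesc (H : IsPullback a π fk h) [IsAffine S] [IsAffine XK] [Coh.IsQCoh M]
    [Algebra Γ(S, ⊤) Γ(XK, ⊤)] (hB : ∀ r, algebraMap Γ(S, ⊤) Γ(XK, ⊤) r = fk.appTop r)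
    (b : Module.Basis ι Γ(S, ⊤) Γ(XK, ⊤)) : IsIso (basisDesc a π M b) := by
  classical
  haveI : PrespectralSpace (sp X) := inferInstanceAs (PrespectralSpace X)
  suffices IsIso ((abF X).map (basisDesc a π M b)) from
    isIso_of_reflects_iso (basisDesc a π M b) (abF X)
  refine isIso_of_bijective_basis _ (fun U => IsAffineOpen (X := X) U) (fun W y hy => ?_) fun U hU => ?_
  · obtain ⟨_, ⟨U, hU, rfl⟩, hyU, hUW⟩ :=
      X.isBasis_affineOpens.exists_subset_of_mem_open (SetLike.mem_coe.2 hy) W.2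
    exact ⟨U, hU, hyU, hUW⟩
  letI : Module Γ(S, ⊤) Γ(M, U) := Module.compHom _ (h.appLE ⊤ U le_top).hom
  have hM : ∀ (r : Γ(S, ⊤)) (s : Γ(M, U)), r • s = h.appLE ⊤ U le_top r • s := fun _ _ => rfl
  have hfk : ∀ r, algebraMap Γ(S, ⊤) Γ(XK, ⊤) r = fk.appLE ⊤ ⊤ le_top r := fun r => by
    rw [hB r]
    exact congrArg (fun φ => φ.hom r) (Scheme.Hom.app_eq_appLE fk)
  let L := QcohDesc12.bcSec (U := (⊤ : S.Opens)) (W := (⊤ : XK.Opens)) (fk := fk) (h := h) (a := a) (g := π)
    le_top le_top le_top (le_refl (π ⁻¹ᵁ U)) H.w M hfk hM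
  have hL : Function.Bijective L := QcohDesc12.bcSec_bijective _ _ _ _ _ M hfk hM H (isAffineOpen_top S)
    (isAffineOpen_top XK) hU (by rw [Scheme.Hom.preimage_top, top_inf_eq])
  let D : Γ(∐ fun _ : ι => M, U) →+ Γ((Scheme.Modules.pullback π).obj M, π ⁻¹ᵁ U) :=
    ((basisDesc a π M b).app U).hom
  show Function.Bijective D
  have hD : ∀ i m, D ((Sigma.ι (fun _ : ι => M) i).app U m) = L (b i ⊗ₜ m) := fun i m => by
    refine Eq.trans ?_ (QcohDesc12.bcSec_tmul _ _ _ _ _ M hfk hM (b i) m).symm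
    exact (congrArg (fun χ => χ.app U m) (ι_basisDesc a π M b i)).trans (bcComp_app a π M (b i) U m)
  let J : (ι →₀ Γ(M, U)) →+ Γ(∐ fun _ : ι => M, U) :=
    Finsupp.liftAddHom fun i => ((Sigma.ι (fun _ : ι => M) i).app U).hom
  let E : Γ(XK, ⊤) ⊗[Γ(S, ⊤)] Γ(M, U) ≃ₗ[Γ(S, ⊤)] (ι →₀ Γ(M, U)) := TensorProduct.equivFinsuppOfBasisLeft b
  have hE : ∀ f, D (J f) = L (E.symm f) := by
    intro f
    induction f using Finsupp.induction_linear with
    | zero => rw [map_zero, map_zero, map_zero, map_zero]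
    | add f g hf hg => rw [map_add, map_add, map_add, map_add, hf, hg]
    | single i m =>
      have e : E.symm (Finsupp.single i m) = b i ⊗ₜ m := E.symm_apply_eq.2 (by
        rw [TensorProduct.equivFinsuppOfBasisLeft_apply_tmul, Module.Basis.repr_self, Finsupp.mapRange_single, one_smul])
      rw [e, show J (Finsupp.single i m) = _ from Finsupp.liftAddHom_apply_single _ _ _]
      exact hD i m
  have hJ : Function.Surjective J := fun s => by
    refine AddSubgroup.closure_induction (p := fun s _ => ∃ f, J f = s) ?_ ⟨0, map_zero J⟩ ?_ ?_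
      (mem_closure_range_sigma M hU.isCompact hU.isQuasiSeparated s)
    · rintro _ ⟨i, m, rfl⟩
      exact ⟨Finsupp.single i m, Finsupp.liftAddHom_apply_single _ _ _⟩
    · rintro _ _ _ _ ⟨f, rfl⟩ ⟨g, rfl⟩
      exact ⟨f + g, map_add J f g⟩
    · rintro _ _ ⟨f, rfl⟩
      exact ⟨-f, map_neg J f⟩
  refine ⟨(injective_iff_map_eq_zero D).2 fun s hs => ?_, fun t => ?_⟩
  · obtain ⟨f, rfl⟩ := hJ s
    have h0 : E.symm f = 0 := hL.1 ((hE f).symm.trans (hs.trans (map_zero L).symm))
    rw [E.symm.map_eq_zero_iff] at h0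
    rw [h0, map_zero]
  · obtain ⟨z, rfl⟩ := hL.2 t
    exact ⟨J (E z), (hE _).trans (congrArg L (E.symm_apply_apply z))⟩

/-- The form over spectra of rings. -/
theorem isIso_basisDesc_spec {A C : Type u} [CommRing A] [CommRing C] [Algebra A C]
    {X Z : Scheme.{u}} {h : X ⟶ Spec (CommRingCat.of A)} (a : Z ⟶ Spec (CommRingCat.of C)) (π : Z ⟶ X)
    (H : IsPullback a π (Spec.map (CommRingCat.ofHom (algebraMap A C))) h)
    (M : X.Modules) [Coh.IsQCoh M] {ι : Type u} (b : Module.Basis ι A C) :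
    IsIso (basisDesc a π M fun i => (Scheme.ΓSpecIso (CommRingCat.of C)).inv (b i)) := by
  letI : Algebra Γ(Spec (CommRingCat.of A), ⊤) Γ(Spec (CommRingCat.of C), ⊤) :=
    (Spec.map (CommRingCat.ofHom (algebraMap A C))).appTop.hom.toAlgebra
  obtain ⟨b', hb'⟩ := exists_basis_transport (Scheme.ΓSpecIso (CommRingCat.of A)).symm.commRingCatIsoToRingEquiv
    (Scheme.ΓSpecIso (CommRingCat.of C)).symm.commRingCatIsoToRingEquiv
    (fun x => congrArg (fun φ => φ.hom x) (Scheme.ΓSpecIso_inv_naturality (CommRingCat.ofHom (algebraMap A C)))) b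
  have := isIso_basisDesc a π M H (fun _ => rfl) b'
  rwa [show (⇑b' : ι → _) = _ from funext hb'] at this

end Groth.Agent.CohFound
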