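import Groth.Agent.Lib.CohFound.HFin
import Groth.Agent.Lib.CohFound.ModAb
import Groth.Agent.Lib.ModM1.Coh
import Mathlib.CategoryTheory.Limits.Shapes.BinaryBiproducts

/-!
# Descending induction for finiteness of cohomology
-/

universe u

open CategoryTheory TopologicalSpace Opposite CategoryTheory.Limits AlgebraicGeometry

namespace Groth.Agent.CohFound

variable {X : Scheme.{u}} {A : Type u} [CommRing A] {φ : A →+* Γ(X, ⊤)}

/-- Finiteness passes along isomorphisms of modules. -/
theorem HFin.of_iso {M N : X.Modules} {n : ℕ} {U : Opens (sp X)} (e : M ≅ N) (h : HFin φ M n U) :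
    HFin φ N n U := by
  refine h.of_surjective (equivariant_mp e.hom n U) fun y => ⟨mp ((abF X).map e.inv) n U y, ?_⟩
  rw [← mp_comp, ← CategoryTheory.Functor.map_comp, e.inv_hom_id, CategoryTheory.Functor.map_id]
  exact mp_id _ n U y

/-- Finiteness is inherited by a module whose identity is a sum of maps through finite ones. -/
theorem HFin.of_sum {ι : Type} [Fintype ι] {N : ι → X.Modules} {M : X.Modules} {n : ℕ}
    {U : Opens (sp X)} (a : ∀ j, M ⟶ N j) (b : ∀ j, N j ⟶ M) (hab : ∑ j, a j ≫ b j = 𝟙 M)
    (h : ∀ j, HFin φ (N j) n U) : HFin φ M n U := by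
  classical
  let := hMod φ M n U
  let L : ∀ j, Submodule A (Hc ((abF X).obj M) n U) := fun j =>
    letI := hMod φ (N j) n U
    ((equivariant_mp (b j) n U).linear (φ := φ)).range
  refine ⟨?_⟩
  have htop : (⊤ : Submodule A (Hc ((abF X).obj M) n U)) = ⨆ j, L j := by
    refine (top_le_iff.1 fun x _ => ?_).symm
    have hx : x = ∑ j, mp ((abF X).map (b j)) n U (mp ((abF X).map (a j)) n U x) := by
      have hs : ∀ s : Finset ι, mp ((abF X).map (∑ j ∈ s, a j ≫ b j)) n U x =
          ∑ j ∈ s, mp ((abF X).map (b j)) n U (mp ((abF X).map (a j)) n U x) := by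
        intro s
        induction s using Finset.induction_on with
        | empty => simp [mp_zero]
        | insert j s hj ih =>
          rw [Finset.sum_insert hj, Finset.sum_insert hj, Functor.map_add, mp_add, ih,
            Functor.map_comp, mp_comp]
      have := hs Finset.univ
      rw [hab, CategoryTheory.Functor.map_id, mp_id] at this
      exact this
    rw [hx]
    exact Submodule.sum_mem _ fun j _ => Submodule.mem_iSup_of_mem j ⟨_, rfl⟩
  rw [htop]
  refine Submodule.fg_iSup _ fun j => ?_
  let := hMod φ (N j) n U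
  have : Module.Finite A (Hc ((abF X).obj (N j)) n U) := h j
  change ((equivariant_mp (b j) n U).linear (φ := φ)).range.FG
  rw [LinearMap.range_eq_map]
  exact Module.Finite.fg_top.map _

/-- Finiteness for finite coproducts. -/
theorem HFin.sigma {k : ℕ} {L : X.Modules} {n : ℕ} {U : Opens (sp X)} (h : HFin φ L n U) :
    HFin φ (∐ fun _ : Fin k => L) n U := by
  classical
  have : HasFiniteBiproducts X.Modules := Abelian.hasFiniteBiproducts
  let b := (biproduct.isoCoproduct fun _ : Fin k => L)
  refine HFin.of_iso b (HFin.of_sum (fun j => biproduct.π (fun _ : Fin k => L) j)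
    (fun j => biproduct.ι (fun _ : Fin k => L) j) biproduct.total fun _ => h)

/-- Descending induction: if cohomology of quasi-coherent modules vanishes from degree `N` on and
every coherent module is a quotient of a coherent module with finite cohomology, all coherent
cohomology is finite. -/
theorem hFin_of_quotients [IsLocallyNoetherian X] [IsNoetherianRing A] (N : ℕ) {U : Opens (sp X)}
    (hvan : ∀ (M : X.Modules), Coh.IsQCoh M → ∀ p, N ≤ p → Subsingleton (Hc ((abF X).obj M) p U))
    (hquot : ∀ (M : X.Modules), Coh.IsCoh M → ∃ (E : X.Modules) (π : E ⟶ M), Epi π ∧ Coh.IsCoh E ∧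
      ∀ q, HFin φ E q U)
    (q : ℕ) : ∀ (M : X.Modules), Coh.IsCoh M → HFin φ M q U := by
  suffices h : ∀ d q, N ≤ q + d → ∀ (M : X.Modules), Coh.IsCoh M → HFin φ M q U from h N q (by omega)
  intro d
  induction d with
  | zero => exact fun q hq M hM => HFin.of_subsingleton (hvan M hM.1 q hq)
  | succ d ih =>
    intro q hq M hM
    obtain ⟨E, π, hπ, hE, hfin⟩ := hquot M hM
    let S : ShortComplex X.Modules := ShortComplex.mk (kernel.ι π) π (kernel.condition π)
    have hS : S.ShortExact := { exact := ShortComplex.exact_of_f_is_kernel _ (kernelIsKernel π) }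
    have hK : Coh.IsCoh S.X₁ := M1.isCoh_kernel hE hM.1 π
    exact HFin.of_exact (M := E) (N := M) (P := S.X₁) (hfin q) (ih (q + 1) (by omega) S.X₁ hK)
      (equivariant_mp π q U) (equivariant_delta (shortExact_abF hS) q U)
      (fun x hx => exact₃ (shortExact_abF hS) q U x hx)

end Groth.Agent.CohFound
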