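import Groth.Agent.Lib.CohFound.ProjTop
import Groth.Agent.Lib.CohFound.ProjQuot
import Groth.Agent.Lib.CohFound.SerreFin

/-!
# Finiteness of coherent cohomology on projective space
-/

set_option autoImplicit false

universe u

open CategoryTheory TopologicalSpace Opposite CategoryTheory.Limits AlgebraicGeometry MvPolynomial

namespace Groth.Agent.CohFound.ProjNum

variable (n : ℕ) (R : Type u) [CommRing R]

local notation "GR" => CohB1.polyGrading n R

theorem isLocallyNoetherian_projSpace [IsNoetherianRing R] : IsLocallyNoetherian (Proj GR) :=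
  haveI : IsProper (CohB1.ProjSpace.toSpec n R) := ProjSpace.isProper_toSpec n R
  @LocallyOfFiniteType.isLocallyNoetherian _ _ (CohB1.ProjSpace.toSpec n R) this.toLocallyOfFiniteType _

/-- Quasi-coherent cohomology of projective space vanishes above degree `n`. -/
theorem subsingleton_hc_qcoh (M : (Proj GR).Modules) (hM : Coh.IsQCoh M) (p : ℕ) (hp : n + 1 ≤ p) :
    Subsingleton (Hc ((abF (Proj GR)).obj M) p ⊤) := by
  have : M.IsQuasicoherent := hM
  have e : (⊤ : (Proj GR).Opens) = ⨆ i : Fin (n + 1), Proj.basicOpen GR (X i) :=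
    (ProjSpace.iSup_basicOpen n R).symm
  change Subsingleton (Hc ((abF (Proj GR)).obj M) p (⊤ : (Proj GR).Opens))
  rw [e]
  exact subsingleton_hc_iSup_affine _ (fun V W hV hW => hV.inf hW) (n + 1) _
    (fun i => Proj.isAffineOpen_basicOpen GR _ (isHomogeneous_X R i) Nat.one_pos) _ hp

/-- Every coherent module on projective space is a quotient of one with finite cohomology. -/
theorem exists_quot_hFin [IsNoetherianRing R] (M : (Proj GR).Modules) (hM : Coh.IsCoh M) :
    ∃ (E : (Proj GR).Modules) (π : E ⟶ M), Epi π ∧ Coh.IsCoh E ∧ ∀ q, HFin (baseHom n R) E q ⊤ := by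
  have := isLocallyNoetherian_projSpace n R
  obtain ⟨m₀, hm⟩ := exists_epi_twist GR (fun i : Fin (n + 1) => (X i : MvPolynomial (Fin (n + 1)) R))
    (fun i => ProjSpace.X_mem' n R i) (ProjSpace.irrelevant_le_span n R) M hM
  obtain ⟨k, π, hπ, hE⟩ := hm m₀ le_rfl
  exact ⟨_, π, hπ, hE, fun q => HFin.sigma (hFin_Od (n := n) (R := R) (d := -(m₀ : ℤ)) q)⟩

/-- Coherent cohomology of projective space over a Noetherian ring is finite. -/
theorem hFin_coh [IsNoetherianRing R] (M : (Proj GR).Modules) (hM : Coh.IsCoh M) (q : ℕ) :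
    HFin (baseHom n R) M q ⊤ :=
  haveI := isLocallyNoetherian_projSpace n R
  hFin_of_quotients (n + 1) (subsingleton_hc_qcoh n R) (exists_quot_hFin n R) q M hM

end Groth.Agent.CohFound.ProjNum
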