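import Groth.Agent.Lib.Twist.GlobalProjSpace
import Groth.Agent.Lib.Twist.Frac
import Mathlib.RingTheory.MvPolynomial.Homogeneous
import Mathlib.Algebra.MvPolynomial.Division

/-!
# Sections of `O(d)` on intersections of standard opens of projective space, by numerators
-/

set_option autoImplicit false

open CategoryTheory AlgebraicGeometry MvPolynomial TopologicalSpace Opposite

universe u

namespace Groth.Agent.CohFound.ProjNum

open Groth.Agent.Twist

variable (n : ℕ) (R : Type u) [CommRing R]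

local notation "GR" => CohB1.polyGrading n R

/-- A product of variables. -/
noncomputable def px (s : Finset (Fin (n + 1))) : MvPolynomial (Fin (n + 1)) R := ∏ i ∈ s, X i

/-- Its exponent vector. -/
noncomputable def ind (s : Finset (Fin (n + 1))) : Fin (n + 1) →₀ ℕ := ∑ i ∈ s, Finsupp.single i 1

lemma ind_apply (s : Finset (Fin (n + 1))) (i : Fin (n + 1)) : ind n s i = if i ∈ s then 1 else 0 := by
  classical
  simp [ind, Finsupp.finset_sum_apply, Finsupp.single_apply]

lemma px_eq_monomial (s : Finset (Fin (n + 1))) : px n R s = monomial (ind n s) 1 := by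
  simp [px, ind, monomial_sum_one, X]

lemma px_pow (s : Finset (Fin (n + 1))) (K : ℕ) : px n R s ^ K = monomial (K • ind n s) 1 := by
  rw [px_eq_monomial, monomial_pow, one_pow]

lemma px_mem (s : Finset (Fin (n + 1))) : px n R s ∈ GR s.card := by
  have := IsHomogeneous.prod s (fun i => (X i : MvPolynomial (Fin (n + 1)) R)) (fun _ => 1)
    fun i _ => isHomogeneous_X R i
  simpa [px] using this

lemma px_pow_mem (s : Finset (Fin (n + 1))) (K : ℕ) : px n R s ^ K ∈ GR (K * s.card) :=
  pow_mem_smul GR (px_mem n R s) K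

lemma px_mem_nonZeroDivisors (s : Finset (Fin (n + 1))) :
    px n R s ∈ nonZeroDivisors (MvPolynomial (Fin (n + 1)) R) :=
  prod_mem fun i _ => X_mem_nonZeroDivisors n R i

lemma eq_zero_of_px_pow_mul (s : Finset (Fin (n + 1))) (K : ℕ) {a : MvPolynomial (Fin (n + 1)) R}
    (h : px n R s ^ K * a = 0) : a = 0 :=
  (mem_nonZeroDivisors_iff_left.1 (pow_mem (px_mem_nonZeroDivisors n R s) K)) a h

lemma px_split (s : Finset (Fin (n + 1))) : px n R Finset.univ = px n R s * px n R sᶜ :=
  (Finset.prod_mul_prod_compl s _).symm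

/-- The standard open of a set of variables. -/
noncomputable abbrev W (s : Finset (Fin (n + 1))) : (Proj GR).Opens := Proj.basicOpen GR (px n R s)

lemma mem_W {s : Finset (Fin (n + 1))} {x : ProjectiveSpectrum GR} :
    x ∈ W n R s ↔ ∀ i ∈ s, x ∈ Proj.basicOpen GR (X i) := by
  constructor
  · intro h i hi hx
    exact h (Ideal.mem_of_dvd _ (Finset.dvd_prod_of_mem _ hi) hx)
  · intro h hx
    obtain ⟨i, hi, hix⟩ := x.isPrime.prod_mem_iff.1 hx
    exact h i hi hix

lemma W_anti {s t : Finset (Fin (n + 1))} (h : s ⊆ t) : W n R t ≤ W n R s :=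
  fun _ hx => (mem_W n R).2 fun i hi => (mem_W n R).1 hx i (h hi)

lemma W_univ_le (s : Finset (Fin (n + 1))) : W n R Finset.univ ≤ W n R s :=
  W_anti n R (Finset.subset_univ s)

variable {n R} {d : ℤ}

/-- `σ` is `g / (T_0 ⋯ T_n)^K` where all variables are invertible. -/
def IsNum (K : ℕ) {U : (Proj GR).Opens} (σ : Sec (𝒜 := GR) d U) (g : MvPolynomial (Fin (n + 1)) R) :
    Prop :=
  ∀ x (hU : x ∈ U) (hx : x ∈ W n R Finset.univ),
    val σ x hU = Localization.mk g ⟨px n R Finset.univ ^ K, pow_notMem GR hx K⟩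

/-- The degree of numerators at level `K`. -/
def deg (n : ℕ) (d : ℤ) (K : ℕ) : ℕ := (d + (n + 1) * K).toNat

/-- Numerators allowed over `W s`. -/
structure Supp (d : ℤ) (K : ℕ) (s : Finset (Fin (n + 1))) (g : MvPolynomial (Fin (n + 1)) R) : Prop where
  homog : g ∈ GR (deg n d K)
  le : ∀ m, coeff m g ≠ 0 → ∀ i, i ∉ s → K ≤ m i

lemma val_add' {U : (Proj GR).Opens} (f g : Sec (𝒜 := GR) d U) (x : ProjectiveSpectrum GR) (hx : x ∈ U) :
    val (f + g) x hx = val f x hx + val g x hx := rfl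

lemma isNum_zero (K : ℕ) {U : (Proj GR).Opens} : IsNum (d := d) K (0 : Sec (𝒜 := GR) d U) 0 :=
  fun x hU hx => (Localization.mk_zero _).symm

lemma IsNum.add {K : ℕ} {U : (Proj GR).Opens} {σ τ : Sec (𝒜 := GR) d U} {g h : MvPolynomial (Fin (n + 1)) R}
    (hσ : IsNum K σ g) (hτ : IsNum K τ h) : IsNum K (σ + τ) (g + h) := fun x hU hx => by
  rw [val_add', hσ x hU hx, hτ x hU hx, Localization.add_mk_self]

lemma IsNum.neg {K : ℕ} {U : (Proj GR).Opens} {σ : Sec (𝒜 := GR) d U} {g : MvPolynomial (Fin (n + 1)) R}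
    (hσ : IsNum K σ g) : IsNum K (-σ) (-g) := fun x hU hx => by
  rw [← Localization.neg_mk, ← hσ x hU hx]
  rfl

lemma exists_num {s : Finset (Fin (n + 1))} (hs : s.Nonempty) (σ : Sec (𝒜 := GR) d (W n R s)) :
    ∃ K₀ : ℕ, ∀ K, K₀ ≤ K → ∃ g, IsNum K σ g ∧ Supp d K s g := by
  obtain ⟨i, k, a, ha, hik, hval⟩ :=
    exists_eq_frac_of_pos GR (Finset.card_pos.2 hs) (px_mem n R s) σ
  refine ⟨k, fun K hK => ?_⟩
  refine ⟨a * px n R s ^ (K - k) * px n R sᶜ ^ K, fun x hU hx => ?_, ?_, ?_⟩
  · rw [hval x hU]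
    refine (mk_eq_iff GR _ _).2 ⟨1, one_notMem_prime GR x, ?_⟩
    rw [px_split n R s, mul_pow]
    obtain ⟨j, rfl⟩ := Nat.exists_eq_add_of_le hK
    rw [Nat.add_sub_cancel_left, pow_add]
    ring
  · have h := SetLike.mul_mem_graded (SetLike.mul_mem_graded ha (px_pow_mem n R s (K - k)))
      (px_pow_mem n R sᶜ K)
    convert h using 2
    have hc : s.card + sᶜ.card = n + 1 := by simp [Finset.card_add_card_compl]
    obtain ⟨j, rfl⟩ := Nat.exists_eq_add_of_le hK
    rw [Nat.add_sub_cancel_left, deg]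
    generalize s.card = c at hc hik ⊢
    generalize sᶜ.card = c' at hc ⊢
    have : (c : ℤ) + c' = n + 1 := by exact_mod_cast hc
    have e : d + (↑n + 1) * ((k + j : ℕ) : ℤ) = ((i + j * c + (k + j) * c' : ℕ) : ℤ) := by
      push_cast
      rw [hik, ← this]
      ring
    rw [e, Int.toNat_natCast]
  · intro m hm l hl
    rw [mul_comm, px_pow, coeff_monomial_mul'] at hm
    split_ifs at hm with hle
    · have := hle l
      simpa [Finsupp.smul_apply, ind_apply, hl] using this
    · exact absurd rfl hm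

lemma exists_sec {s : Finset (Fin (n + 1))} {K : ℕ} {g : MvPolynomial (Fin (n + 1)) R}
    (hd : 0 ≤ d + (n + 1) * K) (hg : Supp d K s g) : ∃ σ : Sec (𝒜 := GR) d (W n R s), IsNum K σ g := by
  by_cases h0 : g = 0
  · exact ⟨0, h0 ▸ isNum_zero K⟩
  let μ := K • ind n sᶜ
  have hdvd : g.modMonomial μ = 0 := by
    refine ext _ _ fun m => ?_
    rw [coeff_zero]
    by_cases hle : μ ≤ m
    · exact coeff_modMonomial_of_le _ hle
    · rw [coeff_modMonomial_of_not_le _ hle]
      by_contra hne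
      refine hle fun l => ?_
      simp only [μ, Finsupp.smul_apply, ind_apply, Finset.mem_compl, smul_eq_mul]
      split_ifs with hl
      · simp
      · rw [mul_one]
        exact hg.le m hne l hl
  have hgq : g = px n R sᶜ ^ K * g.divMonomial μ := by
    conv_lhs => rw [← divMonomial_add_modMonomial g μ, hdvd, add_zero]
    rw [px_pow]
  have hcard : μ.degree = K * sᶜ.card := by
    classical
    simp only [μ, Finsupp.degree_eq_sum, Finsupp.smul_apply, ind_apply, smul_eq_mul, mul_ite,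
      mul_one, mul_zero, Finset.sum_ite_mem, Finset.univ_inter, Finset.sum_const]
    ring
  have hle : K * sᶜ.card ≤ deg n d K := by
    obtain ⟨m, hm⟩ := MvPolynomial.ne_zero_iff.1 h0
    rw [← hcard, (hg.homog : IsHomogeneous g (deg n d K)).degree_eq_sum_deg_support (mem_support_iff.2 hm), ← Finsupp.degree_apply]
    refine Finsupp.degree_mono fun l => ?_
    simp only [μ, Finsupp.smul_apply, ind_apply, Finset.mem_compl, smul_eq_mul]
    split_ifs with hl
    · simp
    · simpa using hg.le m hm l hl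
  have hq : g.divMonomial μ ∈ GR (deg n d K - K * sᶜ.card) := by
    intro m hm
    rw [coeff_divMonomial] at hm
    have h := hg.homog hm
    simp only [Finsupp.weight_apply] at h ⊢
    rw [Finsupp.sum_add_index' (by simp) (by simp [add_mul])] at h
    have : μ.sum (fun i c => c • (1 : Fin (n + 1) → ℕ) i) = K * sᶜ.card := by
      rw [← hcard, Finsupp.degree_apply]
      simp [Finsupp.sum]
    omega
  refine ⟨frac GR (W n R s) hq (px_pow_mem n R s K) ?_ (fun y hy => pow_notMem GR hy K),
    fun x hU hx => ?_⟩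
  · have hc : K * s.card + K * sᶜ.card = K * (n + 1) := by
      rw [← mul_add, Finset.card_add_card_compl, Fintype.card_fin]
    have e : ((deg n d K : ℕ) : ℤ) = d + (n + 1) * K := Int.toNat_of_nonneg hd
    rw [Nat.cast_sub hle, e]
    generalize K * s.card = A at hc ⊢
    generalize K * sᶜ.card = B at hc ⊢
    have : (A : ℤ) + B = K * (n + 1) := by exact_mod_cast hc
    linarith
  · rw [val_frac]
    refine (mk_eq_iff GR _ _).2 ⟨1, one_notMem_prime GR x, ?_⟩
    conv_rhs => rw [hgq]
    rw [px_split n R s, mul_pow]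
    ring

lemma num_unique {K e : ℕ} {g g' : MvPolynomial (Fin (n + 1)) R} (hg : g ∈ GR e) (hg' : g' ∈ GR e)
    {U : (Proj GR).Opens} (hU : W n R Finset.univ ≤ U) {σ : Sec (𝒜 := GR) d U} (h : IsNum K σ g)
    (h' : IsNum K σ g') : g = g' := by
  obtain ⟨N, hN⟩ := exists_pow_mul_eq_zero_of_forall GR (m := (Finset.univ : Finset (Fin (n + 1))).card)
    (by simp) (px_mem n R Finset.univ) (sub_mem hg hg') fun x hx => by
      obtain ⟨w, hw, hwe⟩ := (mk_eq_iff GR _ _).1 ((h x (hU hx) hx).symm.trans (h' x (hU hx) hx))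
      refine ⟨w * px n R Finset.univ ^ K, fun hmem => ?_, ?_⟩
      · exact (x.isPrime.mem_or_mem hmem).elim hw (pow_notMem GR hx K)
      · rw [mul_sub, mul_assoc, mul_assoc, hwe, sub_self]
  exact sub_eq_zero.1 (eq_zero_of_px_pow_mul n R _ N hN)

lemma sec_unique {s : Finset (Fin (n + 1))} (hs : s.Nonempty) {K : ℕ}
    {g : MvPolynomial (Fin (n + 1)) R} {σ τ : Sec (𝒜 := GR) d (W n R s)} (hσ : IsNum K σ g)
    (hτ : IsNum K τ g) : σ = τ := by
  have h0 : IsNum K (σ + -τ) 0 := by simpa using hσ.add hτ.neg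
  refine add_neg_eq_zero.1 ?_
  obtain ⟨i, k, a, ha, -, hval⟩ :=
    exists_eq_frac_of_pos GR (Finset.card_pos.2 hs) (px_mem n R s) (σ + -τ)
  obtain ⟨N, hN⟩ := exists_pow_mul_eq_zero_of_forall GR (m := (Finset.univ : Finset (Fin (n + 1))).card)
    (by simp) (px_mem n R Finset.univ) ha fun x hx => by
      obtain ⟨w, hw, hwe⟩ := (mk_eq_iff GR _ _).1
        ((hval x (W_univ_le n R s hx)).symm.trans (h0 x (W_univ_le n R s hx) hx))
      refine ⟨w * px n R Finset.univ ^ K, fun hmem => ?_, ?_⟩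
      · exact (x.isPrime.mem_or_mem hmem).elim hw (pow_notMem GR hx K)
      · rw [mul_assoc, hwe, mul_zero, mul_zero]
  have ha0 := eq_zero_of_px_pow_mul n R _ N hN
  refine sec_ext fun x hx => ?_
  rw [hval x hx, ha0]
  exact Localization.mk_zero _

end Groth.Agent.CohFound.ProjNum
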