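import Groth.Agent.Lib.CohFound.MV
import Groth.Agent.Lib.CohFound.Qcqs

/-!
# The map from the total intersection onto top Čech degree cohomology
-/

universe u

open CategoryTheory TopologicalSpace Opposite CategoryTheory.Limits Abelian

namespace Groth.Agent.CohFound

variable {Z : TopCat.{u}} {F : CohTop.Ab Z}

lemma mvδ_rs_inf_right {U V : Opens Z} {n : ℕ} (z : Hc F n V) :
    mvδ U V F n (rs F n (inf_le_right : U ⊓ V ≤ V) z) = 0 := by
  have := mvδ_sub (U := U) (0 : Hc F n U) z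
  rwa [map_zero, zero_sub, map_neg, neg_eq_zero] at this

lemma mvδ_rs_inf_left {U V : Opens Z} {n : ℕ} (y : Hc F n U) :
    mvδ U V F n (rs F n (inf_le_left : U ⊓ V ≤ U) y) = 0 := by
  have := mvδ_sub (V := V) y (0 : Hc F n V)
  rwa [map_zero, sub_zero] at this

/-- All but the last open, intersected with the last. -/
abbrev lastFam {k : ℕ} (U : Fin (k + 2) → Opens Z) (i : Fin (k + 1)) : Opens Z :=
  U i.castSucc ⊓ U (Fin.last (k + 1))

lemma iInf_lastFam_le {k : ℕ} (U : Fin (k + 2) → Opens Z) : ⨅ i, lastFam U i ≤ ⨅ i, U i := by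
  refine le_iInf fun i => ?_
  rcases i.eq_castSucc_or_eq_last with ⟨j, rfl⟩ | rfl
  · exact (iInf_le (lastFam U) j).trans inf_le_left
  · exact (iInf_le (lastFam U) 0).trans inf_le_right

lemma inf_le_iSup_lastFam {k : ℕ} (U : Fin (k + 2) → Opens Z) :
    (⨆ i : Fin (k + 1), U i.castSucc) ⊓ U (Fin.last (k + 1)) ≤ ⨆ i, lastFam U i := by
  rw [iSup_inf_eq]

lemma iSup_le_castSucc_sup {k : ℕ} (U : Fin (k + 2) → Opens Z) :
    ⨆ i, U i ≤ (⨆ i : Fin (k + 1), U i.castSucc) ⊔ U (Fin.last (k + 1)) :=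
  iSup_le fun i => by
    rcases i.eq_castSucc_or_eq_last with ⟨j, rfl⟩ | rfl
    · exact le_sup_of_le_left (le_iSup (fun i : Fin (k + 1) => U i.castSucc) j)
    · exact le_sup_right

lemma iSup_le_iInf_fin_one (U : Fin 1 → Opens Z) : ⨆ i, U i ≤ ⨅ i, U i :=
  iSup_le fun i => le_iInf fun j => (congrArg U (Subsingleton.elim i j)).le

variable (F) in
/-- The iterated Mayer–Vietoris connecting map `H⁰(U₀ ⊓ ⋯ ⊓ U_k) → H^k(U₀ ⊔ ⋯ ⊔ U_k)`. -/
noncomputable def topMap : ∀ (k : ℕ) (U : Fin (k + 1) → Opens Z),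
    Hc F 0 (⨅ i, U i) →+ Hc F k (⨆ i, U i)
  | 0, U => rs F 0 (iSup_le_iInf_fin_one U)
  | k + 1, U => (rs F (k + 1) (iSup_le_castSucc_sup U)).comp
      ((mvδ (⨆ i : Fin (k + 1), U i.castSucc) (U (Fin.last (k + 1))) F k).comp
        ((rs F k (inf_le_iSup_lastFam U)).comp
          ((topMap k (lastFam U)).comp (rs F 0 (iInf_lastFam_le U)))))

lemma topMap_succ (k : ℕ) (U : Fin (k + 2) → Opens Z) (x : Hc F 0 (⨅ i, U i)) :
    topMap F (k + 1) U x = rs F (k + 1) (iSup_le_castSucc_sup U)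
      (mvδ _ _ F k (rs F k (inf_le_iSup_lastFam U)
        (topMap F k (lastFam U) (rs F 0 (iInf_lastFam_le U) x)))) := rfl

lemma topMap_rs (k : ℕ) : ∀ (U U' : Fin (k + 1) → Opens Z) (h : ∀ i, U' i ≤ U i)
    (x : Hc F 0 (⨅ i, U i)),
    topMap F k U' (rs F 0 (iInf_mono h) x) = rs F k (iSup_mono h) (topMap F k U x) := by
  induction k with
  | zero =>
    intro U U' h x
    change rs F 0 _ (rs F 0 _ x) = rs F 0 _ (rs F 0 _ x)
    rw [rs_rs, rs_rs]
  | succ k ih =>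
    intro U U' h x
    have h' : ∀ i, lastFam U' i ≤ lastFam U i := fun i => inf_le_inf (h _) (h _)
    have e : rs F 0 (iInf_lastFam_le U') (rs F 0 (iInf_mono h) x) =
        rs F 0 (iInf_mono h') (rs F 0 (iInf_lastFam_le U) x) := by rw [rs_rs, rs_rs]
    rw [topMap_succ, topMap_succ, e, ih _ _ h', rs_rs, rs_rs]
    have hV : (⨆ i : Fin (k + 1), U' i.castSucc) ≤ ⨆ i : Fin (k + 1), U i.castSucc :=
      iSup_mono fun i => h i.castSucc
    rw [← rs_rs F (k + 1) (sup_le_sup hV (h (Fin.last (k + 1)))) (iSup_le_castSucc_sup U'),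
      rs_mvδ hV (h _), rs_rs]

lemma topMap_mp (k : ℕ) {G : CohTop.Ab Z} (φ : F ⟶ G) : ∀ (U : Fin (k + 1) → Opens Z)
    (x : Hc F 0 (⨅ i, U i)), mp φ k _ (topMap F k U x) = topMap G k U (mp φ 0 _ x) := by
  induction k with
  | zero => exact fun U x => mp_rs φ 0 _ x
  | succ k ih =>
    intro U x
    rw [topMap_succ, topMap_succ, mp_rs, mp_mvδ, mp_rs, ih, mp_rs]

/-- `topMap` kills sections extending to the intersection of all but one of the opens. -/
theorem topMap_rs_eq_zero (k : ℕ) : ∀ (U : Fin (k + 2) → Opens Z) (j : Fin (k + 2)) (O : Opens Z)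
    (hle : ⨅ i, U i ≤ O) (_hO : ∀ y, (∀ i, i ≠ j → y ∈ U i) → y ∈ O) (x : Hc F 0 O),
    topMap F (k + 1) U (rs F 0 hle x) = 0 := by
  induction k with
  | zero =>
    intro U j O hle hO x
    rw [topMap_succ]
    change rs F 1 _ (mvδ _ _ F 0 (rs F 0 _ (rs F 0 _ (rs F 0 _ (rs F 0 hle x))))) = 0
    rw [rs_rs, rs_rs, rs_rs]
    rcases j.eq_castSucc_or_eq_last with ⟨j', rfl⟩ | rfl
    · have hW : U (Fin.last 1) ≤ O := fun y hy => hO y fun i hi => by
        rcases i.eq_castSucc_or_eq_last with ⟨i', rfl⟩ | rfl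
        · exact absurd (congrArg Fin.castSucc (Subsingleton.elim i' j')) hi
        · exact hy
      rw [← rs_rs F 0 hW (inf_le_right : (⨆ i : Fin 1, U i.castSucc) ⊓ U (Fin.last 1) ≤ _),
        mvδ_rs_inf_right, map_zero]
    · have hV : (⨆ i : Fin 1, U i.castSucc) ≤ O := iSup_le fun i y hy => hO y fun l hl => by
        rcases l.eq_castSucc_or_eq_last with ⟨l', rfl⟩ | rfl
        · rwa [Subsingleton.elim l' i]
        · exact absurd rfl hl
      rw [← rs_rs F 0 hV (inf_le_left : (⨆ i : Fin 1, U i.castSucc) ⊓ U (Fin.last 1) ≤ _),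
        mvδ_rs_inf_left, map_zero]
  | succ k ih =>
    intro U j O hle hO x
    rw [topMap_succ]
    rcases j.eq_castSucc_or_eq_last with ⟨j', rfl⟩ | rfl
    · rw [rs_rs, ih (lastFam U) j' O _ (fun y hy => hO y fun i hi => ?_) x, map_zero, map_zero,
        map_zero]
      rcases i.eq_castSucc_or_eq_last with ⟨i', rfl⟩ | rfl
      · exact (hy i' (fun h => hi (congrArg Fin.castSucc h))).1
      · obtain ⟨i', hi'⟩ := exists_ne j'
        exact (hy i' hi').2
    · let V' : Fin (k + 2) → Opens Z := fun i => U i.castSucc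
      have hV : ⨅ i, V' i ≤ O := fun y hy => hO y fun l hl => by
        rcases l.eq_castSucc_or_eq_last with ⟨l', rfl⟩ | rfl
        · exact iInf_le V' l' hy
        · exact absurd rfl hl
      have h' : ∀ i, lastFam U i ≤ V' i := fun i => inf_le_left
      have e : rs F 0 (iInf_lastFam_le U) (rs F 0 hle x) = rs F 0 (iInf_mono h') (rs F 0 hV x) := by
        rw [rs_rs, rs_rs]
      rw [e, topMap_rs (k + 1) V' (lastFam U) h', rs_rs,
        show rs F (k + 1) _ (topMap F (k + 1) V' (rs F 0 hV x)) =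
          rs F (k + 1) (inf_le_left : (⨆ i, V' i) ⊓ U (Fin.last (k + 2)) ≤ _)
            (topMap F (k + 1) V' (rs F 0 hV x)) from rfl,
        mvδ_rs_inf_left, map_zero]

variable (B : Set (Opens Z)) (hB : ∀ V ∈ B, ∀ W ∈ B, V ⊓ W ∈ B)
  (hacyc : ∀ V ∈ B, ∀ q, Subsingleton (Hc F (q + 1) V))

include hB hacyc in
lemma subsingleton_hc_iSup_of_acyclic (t : ℕ) : ∀ (U : Fin (t + 1) → Opens Z), (∀ i, U i ∈ B) →
    ∀ q, t ≤ q → Subsingleton (Hc F (q + 1) (⨆ i, U i)) := by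
  induction t with
  | zero =>
    intro U hU q _
    rw [show (⨆ i, U i) = U 0 from
      le_antisymm (iSup_le fun i => (congrArg U (Fin.fin_one_eq_zero i)).le) (le_iSup U 0)]
    exact hacyc _ (hU 0) q
  | succ t ih =>
    intro U hU q hq
    obtain ⟨p, rfl⟩ : ∃ p, q = p + 1 := ⟨q - 1, by omega⟩
    rw [show (⨆ i, U i) = (⨆ i : Fin (t + 1), U i.castSucc) ⊔ U (Fin.last (t + 1)) from
      le_antisymm (iSup_le_castSucc_sup U)
        (sup_le (iSup_le fun i => le_iSup U _) (le_iSup U _))]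
    refine subsingleton_hc_sup (ih _ (fun i => hU _) _ (by omega)) (hacyc _ (hU _) (p + 1)) ?_
    rw [iSup_inf_eq]
    exact ih _ (fun i => hB _ (hU _) _ (hU _)) p (by omega)

include hB hacyc in
/-- `topMap` is onto. -/
theorem topMap_surjective (k : ℕ) : ∀ (U : Fin (k + 1) → Opens Z), (∀ i, U i ∈ B) →
    Function.Surjective (topMap F k U) := by
  induction k with
  | zero =>
    intro U _ x
    refine ⟨rs F 0 ((iInf_le U 0).trans (le_iSup U 0)) x, ?_⟩
    change rs F 0 _ (rs F 0 _ x) = x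
    rw [rs_rs, rs_refl]
  | succ k ih =>
    intro U hU x
    have hle : (⨆ i : Fin (k + 1), U i.castSucc) ⊔ U (Fin.last (k + 1)) ≤ ⨆ i, U i :=
      sup_le (iSup_le fun i => le_iSup U _) (le_iSup U _)
    obtain ⟨v, hv⟩ := mv_exact (rs F (k + 1) hle x)
      (@Subsingleton.elim _ (subsingleton_hc_iSup_of_acyclic B hB hacyc k _ (fun i => hU _) k le_rfl) _ _)
      (@Subsingleton.elim _ (hacyc _ (hU _) k) _ _)
    have hle' : (⨆ i, lastFam U i) ≤ (⨆ i : Fin (k + 1), U i.castSucc) ⊓ U (Fin.last (k + 1)) :=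
      iSup_le fun i => inf_le_inf_right _ (le_iSup (fun i : Fin (k + 1) => U i.castSucc) i)
    obtain ⟨y, hy⟩ := ih (lastFam U) (fun i => hB _ (hU _) _ (hU _)) (rs F k hle' v)
    have hge : (⨅ i, U i) ≤ ⨅ i, lastFam U i :=
      le_iInf fun i => le_inf (iInf_le U _) (iInf_le U _)
    refine ⟨rs F 0 hge y, ?_⟩
    rw [topMap_succ, rs_rs, rs_refl, hy, rs_rs, rs_refl, hv, rs_rs, rs_refl]

section Sections

variable {k : ℕ} (U : Fin (k + 1) → Opens Z) {W : Opens Z}

variable (F) in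
/-- From sections over the total intersection to top cohomology of the space. -/
noncomputable def topSec (hW : ⨅ i, U i ≤ W) (hcov : (⊤ : Opens Z) ≤ ⨆ i, U i) :
    F.obj.obj (op W) →+ Hc F k ⊤ :=
  (rs F k hcov).comp ((topMap F k U).comp ((rs F 0 hW).comp (hc0 F W).symm.toAddMonoidHom))

variable {U} (hW : ⨅ i, U i ≤ W) (hcov : (⊤ : Opens Z) ≤ ⨆ i, U i)

lemma topSec_apply (s : F.obj.obj (op W)) :
    topSec F U hW hcov s = rs F k hcov (topMap F k U (rs F 0 hW ((hc0 F W).symm s))) := rfl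

lemma topSec_natural {G : CohTop.Ab Z} (φ : F ⟶ G) (s : F.obj.obj (op W)) :
    topSec G U hW hcov (φ.hom.app (op W) s) = mp φ k ⊤ (topSec F U hW hcov s) := by
  have h : (hc0 G W).symm (φ.hom.app (op W) s) = mp φ 0 W ((hc0 F W).symm s) := by
    apply (hc0 G W).injective
    rw [AddEquiv.apply_symm_apply, hc0_mp, AddEquiv.apply_symm_apply]
  rw [topSec_apply, topSec_apply, h, mp_rs, topMap_mp, mp_rs]

include hW hcov in
lemma topSec_surjective (hW' : W ≤ ⨅ i, U i) (B : Set (Opens Z))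
    (hB : ∀ V ∈ B, ∀ V' ∈ B, V ⊓ V' ∈ B)
    (hacyc : ∀ V ∈ B, ∀ q, Subsingleton (Hc F (q + 1) V)) (hU : ∀ i, U i ∈ B) :
    Function.Surjective (topSec F U hW hcov) := fun y => by
  obtain ⟨z, hz⟩ := topMap_surjective B hB hacyc k U hU (rs F k le_top y)
  refine ⟨hc0 F W (rs F 0 hW' z), ?_⟩
  rw [topSec_apply, AddEquiv.symm_apply_apply, rs_rs, rs_refl, hz, rs_rs, rs_refl]

end Sections

lemma topSec_map_eq_zero {k : ℕ} {U : Fin (k + 2) → Opens Z} {W : Opens Z}
    (hW : ⨅ i, U i ≤ W) (hcov : (⊤ : Opens Z) ≤ ⨆ i, U i) (j : Fin (k + 2)) {O : Opens Z}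
    (hO : W ≤ O) (hO' : ∀ y, (∀ i, i ≠ j → y ∈ U i) → y ∈ O) (σ : F.obj.obj (op O)) :
    topSec F U hW hcov (F.obj.map (homOfLE hO).op σ) = 0 := by
  have h : (hc0 F W).symm (F.obj.map (homOfLE hO).op σ) = rs F 0 hO ((hc0 F O).symm σ) := by
    apply (hc0 F W).injective
    rw [AddEquiv.apply_symm_apply, hc0_rs, AddEquiv.apply_symm_apply]
  rw [topSec_apply, h, rs_rs, topMap_rs_eq_zero k U j O _ hO', map_zero]

end Groth.Agent.CohFound
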