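import Groth.Agent.Lib.CohFound.ProjCech
import Groth.Agent.Lib.CohFound.TopMap
import Groth.Agent.Lib.CohFound.HFin

/-!
# Finiteness of the cohomology of `O(d)` on projective space
-/

set_option autoImplicit false
set_option maxHeartbeats 800000

universe u

open CategoryTheory TopologicalSpace Opposite CategoryTheory.Limits AlgebraicGeometry MvPolynomial

namespace Groth.Agent.CohFound.ProjNum

open Groth.Agent.Twist

variable (n : ℕ) (R : Type u) [CommRing R]

local notation "GR" => CohB1.polyGrading n R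

/-- The structure map on global functions. -/
noncomputable def baseHom : R →+* Γ(Proj GR, ⊤) :=
  Coh.toGlobal (X := Proj GR) (CohB1.ProjSpace.toSpec n R)

/-- The total intersection. -/
noncomputable abbrev allI : Opens (sp (Proj GR)) :=
  ⨅ i : Fin (n + 1), (Proj.basicOpen GR (X i) : Opens (sp (Proj GR)))

lemma allI_eq : allI n R = W n R Finset.univ := by
  refine le_antisymm (fun x hx => (mem_W n R).2 fun i _ =>
    (iInf_le (fun i : Fin (n + 1) => (Proj.basicOpen GR (X i) : Opens (sp (Proj GR)))) i) hx) ?_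
  exact le_iInf fun i x hx => (mem_W n R).1 hx i (Finset.mem_univ i)

variable {n R} {d : ℤ}

lemma valO_ores {U : (Proj GR).Opens} (r : Γ(Proj GR, ⊤)) (x : ProjectiveSpectrum GR) (hx : x ∈ U) :
    valO (M1.ores (le_top : U ≤ ⊤) r) x hx = valO r x trivial := rfl

lemma val_smul_base {U : (Proj GR).Opens} (c : R) (σ : Γ(_root_.Twist.twist GR d, U))
    (x : ProjectiveSpectrum GR) (hx : x ∈ U) :
    val (n := d) (M1.ores (le_top : U ≤ ⊤) (baseHom n R c) • σ : Γ(_root_.Twist.twist GR d, U)) x hx =
      Localization.mk (C c) ⟨1, one_notMem n R x⟩ * val (n := d) σ x hx := by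
  rw [val_smul, valO_ores]
  exact congrArg (· * val (n := d) σ x hx) (valO_constFun n R c x)

lemma isNum_smul {K : ℕ} {U : (Proj GR).Opens} (c : R) {σ : (Od n R d).obj.obj (op U)}
    {g : MvPolynomial (Fin (n + 1)) R} (h : IsNum (d := d) K (σ : Sec (𝒜 := GR) d U) g) :
    IsNum (d := d) K (((gEnd (_root_.Twist.twist GR d) (baseHom n R c)).hom.app (op U) σ : _) :
      Sec (𝒜 := GR) d U) (C c * g) := fun x hU hx => by
  refine (val_smul_base c σ x hU).trans ?_
  refine (congrArg (_ * ·) (h x hU hx)).trans ?_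
  rw [Localization.mk_mul]
  refine (mk_eq_iff GR _ _).2 ⟨1, one_notMem_prime GR x, ?_⟩
  simp

/-- The exponent at level `K` attached to negative exponents `-e`. -/
noncomputable def negExp (K : ℕ) (e : Fin (n + 1) → ℕ) : Fin (n + 1) →₀ ℕ :=
  Finsupp.equivFunOnFinite.symm fun l => K - e l

lemma monomial_negExp_level {J K : ℕ} (e : Fin (n + 1) → ℕ) (hJ : ∀ l, e l ≤ J) (hK : ∀ l, e l ≤ K) :
    px n R Finset.univ ^ K * monomial (negExp J e) (1 : R) =
      px n R Finset.univ ^ J * monomial (negExp K e) (1 : R) := by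
  rw [px_pow, px_pow, monomial_mul, monomial_mul]
  refine congrArg (fun m => monomial m ((1 : R) * 1)) (Finsupp.ext fun l => ?_)
  simp [negExp, ind_apply]
  have := hJ l
  have := hK l
  omega

variable (n R) in
/-- The standard opens, indexed by `Fin`. -/
noncomputable abbrev fU (i : Fin (n + 1)) : Opens (sp (Proj GR)) := Proj.basicOpen GR (X i)

lemma top_le_fU : (⊤ : Opens (sp (Proj GR))) ≤ ⨆ i, fU n R i := (ProjSpace.iSup_basicOpen n R).ge

variable (n R d) in
/-- From the total intersection to top cohomology. -/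
noncomputable def topΦ :
    (Od n R d).obj.obj (op (W n R Finset.univ : Opens (sp (Proj GR)))) →+ Hc (Od n R d) n ⊤ :=
  topSec (Od n R d) (fU n R) (allI_eq n R).le top_le_fU

lemma topΦ_gEnd (r : Γ(Proj GR, ⊤)) (s : (Od n R d).obj.obj (op (W n R Finset.univ))) :
    topΦ n R d ((gEnd (_root_.Twist.twist GR d) r).hom.app (op (W n R Finset.univ)) s) =
      gMul (_root_.Twist.twist GR d) r n ⊤ (topΦ n R d s) :=
  topSec_natural (allI_eq n R).le top_le_fU (gEnd (_root_.Twist.twist GR d) r) s

theorem topΦ_surjective : Function.Surjective (topΦ n R d) :=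
  have : (_root_.Twist.twist GR d).IsQuasicoherent := isQCoh_twist' GR d
  topSec_surjective (allI_eq n R).le top_le_fU (allI_eq n R).ge
    {V | IsAffineOpen (V : (Proj GR).Opens)} (fun _ hV _ hW => IsAffineOpen.inf hV hW)
    (fun _ hV q => subsingleton_hc_isAffineOpen (_root_.Twist.twist GR d) hV q)
    (fun i => Proj.isAffineOpen_basicOpen GR _ (isHomogeneous_X R i) Nat.one_pos)

theorem topΦ_map_eq_zero (hn : 0 < n) (l : Fin (n + 1))
    (σ : (Od n R d).obj.obj (op (W n R (Finset.univ.erase l) : Opens (sp (Proj GR))))) :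
    topΦ n R d ((Od n R d).obj.map (homOfLE (W_univ_le n R (Finset.univ.erase l))).op σ) = 0 := by
  obtain ⟨k, rfl⟩ : ∃ k, n = k + 1 := ⟨n - 1, by omega⟩
  exact topSec_map_eq_zero (allI_eq (k + 1) R).le top_le_fU l (W_univ_le (k + 1) R _)
    (fun y hy => (mem_W (k + 1) R).2 fun i hi => hy i (Finset.ne_of_mem_erase hi)) σ

lemma exists_negGen (hd : d < 0) (e : Fin (n + 1) → Fin ((-d).toNat + 1))
    (he : ∑ l, (e l : ℕ) = (-d).toNat) :
    ∃ σ : Sec (𝒜 := GR) d (W n R Finset.univ),
      IsNum (-d).toNat σ (monomial (negExp (-d).toNat fun l => (e l : ℕ)) 1) := by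
  have hJd : (((-d).toNat : ℕ) : ℤ) = -d := Int.toNat_of_nonneg (by omega)
  generalize hJ' : (-d).toNat = J at *
  have hJ : d + (n + 1) * J = ((n * J : ℕ) : ℤ) := by
    push_cast; rw [add_mul, one_mul]; omega
  refine exists_sec (by rw [hJ]; positivity) ⟨isHomogeneous_monomial _ ?_, fun m _ l hl =>
    absurd (Finset.mem_univ l) hl⟩
  rw [Finsupp.degree_eq_sum, deg, hJ, Int.toNat_natCast]
  have h : (∑ l, negExp J (fun l => (e l : ℕ)) l) + ∑ l, (e l : ℕ) = (n + 1) * J := by
    rw [← Finset.sum_add_distrib]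
    refine (Finset.sum_congr rfl fun l _ => ?_ : _ = ∑ _l : Fin (n + 1), J).trans (by simp)
    simp [negExp]
    have := (e l).isLt
    omega
  rw [he, add_mul, one_mul] at h
  omega

variable [IsNoetherianRing R]

omit [IsNoetherianRing R] in
/-- Sections on the total intersection decompose into negative monomials and sections extending to
the intersection of all but one of the standard opens. -/
theorem mem_closure_negGen (hd : d < 0)
    (τ : {e : Fin (n + 1) → Fin ((-d).toNat + 1) // ∑ l, (e l : ℕ) = (-d).toNat} →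
      (Od n R d).obj.obj (op (W n R Finset.univ)))
    (hτ : ∀ e, IsNum (d := d) (-d).toNat (τ e : Sec (𝒜 := GR) d (W n R Finset.univ))
      (monomial (negExp (-d).toNat fun l => (e.1 l : ℕ)) 1))
    (σ : (Od n R d).obj.obj (op (W n R Finset.univ))) :
    σ ∈ AddSubgroup.closure
      ({t | ∃ c e, (gEnd (_root_.Twist.twist GR d) (baseHom n R c)).hom.app (op (W n R Finset.univ)) (τ e) = t} ∪
        {t | 0 < n ∧ ∃ l σl, (Od n R d).obj.map (homOfLE (W_univ_le n R (Finset.univ.erase l))).op σl = t}) := by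
  classical
  let M := _root_.Twist.twist GR d
  let J := (-d).toNat
  have hJd : (J : ℤ) = -d := Int.toNat_of_nonneg (by omega)
  let E := {e : Fin (n + 1) → Fin (J + 1) // ∑ l, (e l : ℕ) = J}
  let M := _root_.Twist.twist GR d
  let S := AddSubgroup.closure
    ({t | ∃ c e, (gEnd M (baseHom n R c)).hom.app (op (W n R Finset.univ)) (τ e) = t} ∪
      {t | 0 < n ∧ ∃ l σl, (Od n R d).obj.map (homOfLE (W_univ_le n R (Finset.univ.erase l))).op σl = t})
  show σ ∈ S
  obtain ⟨K₀, hK₀⟩ := exists_num (Finset.univ_nonempty) (σ : Sec (𝒜 := GR) d (W n R Finset.univ))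
  let K := K₀ + J
  obtain ⟨g, hg, hgs⟩ := hK₀ K (Nat.le_add_right _ _)
  have hdK : 0 ≤ d + (n + 1) * K := by
    push_cast [K]
    nlinarith
  have key : ∀ m ∈ g.support, ∃ σm : (Od n R d).obj.obj (op (W n R Finset.univ)),
      IsNum (d := d) K (σm : Sec (𝒜 := GR) d (W n R Finset.univ)) (monomial m (coeff m g)) ∧
        σm ∈ S := fun m hm => by
    have hw := hgs.homog (mem_support_iff.1 hm)
    rw [show (1 : Fin (n + 1) → ℕ) = fun _ => 1 from rfl, ← Finsupp.degree_eq_weight_one] at hw
    have hdeg : ((∑ l, m l : ℕ) : ℤ) = d + (n + 1) * K := by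
      rw [← Finsupp.degree_eq_sum, hw]
      exact Int.toNat_of_nonneg hdK
    by_cases hl : ∃ l, K ≤ m l
    · obtain ⟨l, hl⟩ := hl
      obtain ⟨σl, hσl⟩ := exists_sec (s := Finset.univ.erase l) (g := monomial m (coeff m g)) hdK
        ⟨isHomogeneous_monomial _ hw, fun m' hm' i hi => by
            rw [coeff_monomial] at hm'
            split_ifs at hm' with h
            · rw [← h]
              have : i = l := by simpa using hi
              rwa [this]
            · exact absurd rfl hm'⟩
      refine ⟨_, isNum_map (W_univ_le n R (Finset.univ.erase l)) hσl, ?_⟩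
      have hn : 0 < n := Nat.pos_of_ne_zero fun h0 => by
        subst h0
        rw [Fin.sum_univ_one, ← Fin.fin_one_eq_zero l] at hdeg
        omega
      exact AddSubgroup.subset_closure (Or.inr ⟨hn, l, σl, rfl⟩)
    · push Not at hl
      let e : Fin (n + 1) → ℕ := fun l => K - m l
      have hm' : m = negExp K e := Finsupp.ext fun l => by
        simp [negExp, e]
        have := hl l
        omega
      have hsum : ∑ l, e l = J := by
        have h : (∑ l, e l) + ∑ l, m l = (n + 1) * K := by
          rw [← Finset.sum_add_distrib]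
          refine (Finset.sum_congr rfl fun l _ => ?_ : _ = ∑ _l : Fin (n + 1), K).trans (by simp)
          have := hl l
          simp [e]
          omega
        have h' : ((∑ l, e l : ℕ) : ℤ) + ((∑ l, m l : ℕ) : ℤ) = (n + 1) * K := by exact_mod_cast h
        have he : ((∑ l, e l : ℕ) : ℤ) = (J : ℤ) := by linarith
        exact_mod_cast he
      have heJ : ∀ l, e l ≤ J := fun l =>
        hsum ▸ Finset.single_le_sum (fun _ _ => Nat.zero_le _) (Finset.mem_univ l)
      let e' : E := ⟨fun l => ⟨e l, Nat.lt_succ_of_le (heJ l)⟩, hsum⟩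
      have hτK : IsNum K (τ e') (monomial m (1 : R)) := fun x hU hx => by
        rw [hτ e' x hU hx]
        refine (mk_eq_iff GR _ _).2 ⟨1, one_notMem_prime GR x, ?_⟩
        rw [one_mul, one_mul, hm']
        exact monomial_negExp_level e heJ (fun l => Nat.sub_le _ _)
      refine ⟨(gEnd M (baseHom n R (coeff m g))).hom.app (op (W n R Finset.univ)) (τ e'), by
        have h := isNum_smul (coeff m g) (σ := (τ e' : (Od n R d).obj.obj (op (W n R Finset.univ)))) hτK
        rwa [C_mul_monomial, mul_one] at h, ?_⟩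
      exact AddSubgroup.subset_closure (Or.inl ⟨coeff m g, e', rfl⟩)
  choose σm hσm hΦm using key
  have hσ : σ = ∑ m ∈ g.support.attach, σm m.1 m.2 := by
    refine sec_unique (d := d) Finset.univ_nonempty (σ := σ) hg ?_
    have h := isNum_sum (d := d) g.support.attach (fun m : g.support => σm m.1 m.2)
      (fun m : g.support => monomial m.1 (coeff m.1 g)) fun m _ => hσm m.1 m.2
    rwa [Finset.sum_attach g.support (fun m => monomial m (coeff m g)), ← g.as_sum] at h
  rw [hσ]
  exact sum_mem fun m _ => hΦm m.1 m.2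

/-- Top cohomology of `O(d)`, `d < 0`, is finite. -/
theorem hFin_top (hd : d < 0) : HFin (baseHom n R) (_root_.Twist.twist GR d) n ⊤ := by
  choose τ hτ using fun e : {e : Fin (n + 1) → Fin ((-d).toNat + 1) // ∑ l, (e l : ℕ) = (-d).toNat} =>
    exists_negGen (n := n) (R := R) hd e.1 e.2
  exact HFin.of_gens (baseHom n R) (topΦ n R d) topΦ_surjective
    (fun c s => (gEnd (_root_.Twist.twist GR d) (baseHom n R c)).hom.app (op (W n R Finset.univ)) s)
    (fun c s => topΦ_gEnd (baseHom n R c) s) τ _
    (fun z hz => by obtain ⟨hn, l, σl, rfl⟩ := hz; exact topΦ_map_eq_zero hn l σl)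
    (mem_closure_negGen hd τ hτ)

omit [IsNoetherianRing R] in
/-- Degree `k` forms as global sections. -/
noncomputable def globalSec (k : ℕ) : GR k →+ (Od n R (k : ℤ)).obj.obj (op (⊤ : Opens (sp (Proj GR)))) :=
  AddMonoidHom.mk' (fun a => _root_.Twist.globalOf GR a) fun _ _ =>
    sec_ext (n := (k : ℤ)) fun _ _ => (Localization.add_mk_self _ _ _).symm

omit [IsNoetherianRing R] in
lemma globalSec_smul (k : ℕ) (c : R) (a : GR k) :
    globalSec k (c • a) =
      (gEnd (_root_.Twist.twist GR (k : ℤ)) (baseHom n R c)).hom.app (op ⊤) (globalSec k a) := by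
  refine sec_ext (n := (k : ℤ)) fun x hx => ?_
  refine Eq.trans ?_ (val_smul_base c _ x hx).symm
  refine Eq.trans ?_ (Localization.mk_mul _ _ _ _).symm
  refine (mk_eq_iff GR _ _).2 ⟨1, one_notMem_prime GR x, ?_⟩
  simp [MvPolynomial.C_mul']

/-- All cohomology groups of `O(d)` are finite. -/
theorem hFin_Od (q : ℕ) : HFin (baseHom n R) (_root_.Twist.twist GR d) q ⊤ := by
  classical
  by_cases h : q = n ∧ d < 0
  · rw [h.1]; exact hFin_top h.2
  rcases Nat.eq_zero_or_pos q with rfl | hq
  swap
  · refine HFin.of_subsingleton (subsingleton_hc_Od q hq ?_)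
    by_cases hqn : q = n
    · exact Or.inl (by have : ¬ d < 0 := fun hd => h ⟨hqn, hd⟩; omega)
    · exact Or.inr hqn
  rcases lt_or_ge d 0 with hd | hd
  · refine HFin.of_subsingleton ?_
    have hn : 0 < n := Nat.pos_of_ne_zero fun hn => h ⟨hn.symm, hd⟩
    have : Subsingleton ((Od n R d).obj.obj (op (⊤ : Opens (sp (Proj GR))))) :=
      subsingleton_sections_twistProjSpace_neg n R hn hd
    exact (hc0 (Od n R d) ⊤).toEquiv.subsingleton
  obtain ⟨k, rfl⟩ : ∃ k : ℕ, d = k := ⟨d.toNat, (Int.toNat_of_nonneg hd).symm⟩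
  have hfin : Module.Finite R (GR k) := by
    rw [Module.Finite.iff_fg]
    exact MvPolynomial.homogeneousSubmodule_fg (σ := Fin (n + 1)) (R := R) k
  exact HFin.of_sections (baseHom n R) (globalSec k) (globalSec_smul k)
    (globalOf_bijective_polyGrading n R k).2

end Groth.Agent.CohFound.ProjNum
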