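import Groth.Agent.Lib.CohFound.ReesMaps
import Groth.Agent.Lib.CohFound.ProperFinite
import Groth.Agent.Lib.CohFound.PushFin

/-!
# Cohomology of the `Iⁿ M` is generated in bounded degrees
-/

set_option autoImplicit false
set_option maxHeartbeats 1000000
set_option backward.isDefEq.respectTransparency.types false

universe u

open CategoryTheory TopologicalSpace Opposite CategoryTheory.Limits AlgebraicGeometry

namespace Groth.Agent.CohFound.Rees

variable {A : Type u} [CommRing A] {X : Scheme.{u}} [X.Over (Spec (CommRingCat.of A))]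

section IPow

variable (I : Ideal A) (M : X.Modules)

/-- `Iⁿ M`. -/
noncomputable abbrev J (n : ℕ) : X.Modules := Abelian.image (Formal.smulFamily (I ^ n) M)

/-- The inclusion `Iⁿ M ⟶ M`. -/
noncomputable abbrev uu (n : ℕ) : J I M n ⟶ M := Abelian.image.ι (Formal.smulFamily (I ^ n) M)

/-- The generators of `Iⁿ M`. -/
noncomputable def gen (n : ℕ) (x : A) (hx : x ∈ I ^ n) : M ⟶ J I M n :=
  Sigma.ι (fun _ : (I ^ n : Ideal A) => M) ⟨x, hx⟩ ≫ Abelian.factorThruImage (Formal.smulFamily (I ^ n) M)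

@[reassoc (attr := simp)]
lemma gen_uu (n : ℕ) (x : A) (hx : x ∈ I ^ n) : gen I M n x hx ≫ uu I M n = Formal.smulMod A M x := by
  rw [gen, Category.assoc, Abelian.image.fac, Formal.smulFamily, Sigma.ι_desc]

lemma J_hom_ext {n : ℕ} {N : X.Modules} {φ ψ : J I M n ⟶ N}
    (h : ∀ x hx, gen I M n x hx ≫ φ = gen I M n x hx ≫ ψ) : φ = ψ := by
  rw [← cancel_epi (Abelian.factorThruImage (Formal.smulFamily (I ^ n) M))]
  refine Sigma.hom_ext _ _ fun i => ?_
  have := h i.1 i.2
  simpa only [gen, Category.assoc] using this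

/-- The transition maps given by an element of `I^(n-m)`. -/
noncomputable def mulJ (m n : ℕ) (h : m ≤ n) (y : A) (hy : y ∈ I ^ (n - m)) : J I M m ⟶ J I M n :=
  kernel.lift (cokernel.π (Formal.smulFamily (I ^ n) M)) (uu I M m ≫ Formal.smulMod A M y) (by
    refine J_hom_ext I M fun x hx => ?_
    rw [comp_zero, Category.assoc, gen_uu_assoc, ← Category.assoc, ← smulMod_mul']
    refine (FormalH7.smulFamily_comp_eq_zero_iff _).1 (cokernel.condition _) _ ?_
    have := Ideal.mul_mem_mul hy hx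
    rwa [← pow_add, Nat.sub_add_cancel h] at this)

@[reassoc (attr := simp)]
lemma mulJ_uu (m n : ℕ) (h : m ≤ n) (y : A) (hy : y ∈ I ^ (n - m)) :
    mulJ I M m n h y hy ≫ uu I M n = uu I M m ≫ Formal.smulMod A M y :=
  kernel.lift_ι _ _ _

end IPow

variable {r : ℕ} (a : Fin r → A) (M : X.Modules)

local notation "II" => Ideal.span (Set.range a)

/-- `Iⁿ M` maps into degree `n` of the Rees module. -/
theorem exists_jmap (n : ℕ) : ∃ j : J II M n ⟶ PN a M, j ≫ inc a M = uu II M n ≫ E a M (Polynomial.X ^ n) := by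
  have hw : (uu II M n ≫ E a M (Polynomial.X ^ n)) ≫ cokernel.π (inc a M) = 0 := by
    refine J_hom_ext II M fun x hx => ?_
    obtain ⟨P, hP⟩ := exists_reesHom a n hx
    rw [comp_zero, Category.assoc, gen_uu_assoc, ← Category.assoc, smulMod_E, ← hP, ← eps_TT_inc,
      Category.assoc, Category.assoc, cokernel.condition, comp_zero, comp_zero]
  exact ⟨Abelian.monoLift (inc a M) _ hw, Abelian.monoLift_comp _ _ _⟩

/-- The inclusion in degree `n`. -/
noncomputable def jmap (n : ℕ) : J II M n ⟶ PN a M := (exists_jmap a M n).choose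

lemma jmap_inc (n : ℕ) : jmap a M n ≫ inc a M = uu II M n ≫ E a M (Polynomial.X ^ n) :=
  (exists_jmap a M n).choose_spec

variable [Coh.IsQCoh M]

/-- The projection to degree `n`. -/
noncomputable def dmap (n : ℕ) : PN a M ⟶ J II M n :=
  kernel.lift (cokernel.π (Formal.smulFamily (II ^ n) M)) (inc a M ≫ coef a M n) (by
    refine PN_hom_ext a M _ _ fun P => ?_
    rw [comp_zero, comp_zero, ← Category.assoc, ← Category.assoc, ← Category.assoc,
      Category.assoc (eps a M), eps_TT_inc, E_coef]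
    exact (FormalH7.smulFamily_comp_eq_zero_iff _).1 (cokernel.condition _) _ (coeff_reesHom_mem a P n))

@[reassoc]
lemma dmap_uu (n : ℕ) : dmap a M n ≫ uu II M n = inc a M ≫ coef a M n :=
  kernel.lift_ι _ _ _

lemma coeff_mem (P : MvPolynomial (Fin r) A) (k : ℕ) : (reesHom a P).coeff k ∈ II ^ k := coeff_reesHom_mem a P k

/-- Projection after multiplication is multiplication by a coefficient. -/
lemma jmap_TT_dmap (m n : ℕ) (h : m ≤ n) (P : MvPolynomial (Fin r) A) :
    jmap a M m ≫ TT a M P ≫ dmap a M n =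
      mulJ II M m n h ((reesHom a P).coeff (n - m)) (coeff_mem a P (n - m)) := by
  rw [← cancel_mono (uu II M n), mulJ_uu, Category.assoc, Category.assoc, dmap_uu,
    ← Category.assoc (TT a M P), TT_inc, Category.assoc, ← Category.assoc, jmap_inc, Category.assoc,
    ← Category.assoc (E a M _), E_smul, E_coef, Polynomial.coeff_mul_X_pow', if_pos h]

lemma jmap_dmap (n : ℕ) : jmap a M n ≫ dmap a M n = 𝟙 _ := by
  rw [← cancel_mono (uu II M n), Category.assoc, dmap_uu, ← Category.assoc, jmap_inc, Category.assoc, E_coef,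
    Polynomial.coeff_X_pow, if_pos rfl, smulMod_one', Category.comp_id, Category.id_comp]

/-- Maps on cohomology. -/
noncomputable abbrev hm {N N' : X.Modules} (φ : N ⟶ N') (q : ℕ) :
    Hc ((abF X).obj N) q ⊤ →+ Hc ((abF X).obj N') q ⊤ :=
  mp ((abF X).map φ) q ⊤

omit [X.Over (Spec (CommRingCat.of A))] in
lemma hm_comp {N N' N'' : X.Modules} (φ : N ⟶ N') (ψ : N' ⟶ N'') (q : ℕ) (x : Hc ((abF X).obj N) q ⊤) :
    hm (φ ≫ ψ) q x = hm ψ q (hm φ q x) :=
  (congrArg (fun χ => mp χ q ⊤ x) ((abF X).map_comp φ ψ)).trans (mp_comp _ _ q ⊤ x)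

omit [X.Over (Spec (CommRingCat.of A))] in
lemma hm_id (N : X.Modules) (q : ℕ) (x : Hc ((abF X).obj N) q ⊤) : hm (𝟙 N) q x = x :=
  (congrArg (fun χ => mp χ q ⊤ x) ((abF X).map_id N)).trans (mp_id _ q ⊤ x)

/-- The comparison of the cohomology on `X` and on `X_B`. -/
theorem exists_transfer (q : ℕ) :
    ∃ e : Hc ((abF X).obj (PN a M)) q ⊤ ≃+ Hc ((abF (XB (A := A) r X)).obj (NN a M)) q ⊤,
      ∀ P x, e (hm (TT a M P) q x) = gMul (NN a M) (gB P) q ⊤ (e x) := by
  haveI : (NN a M).IsQuasicoherent := isQCoh_NN a M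
  have hacyc : PushAcyclicUpTo ((pB r X).base : sp (XB (A := A) r X) ⟶ sp X) X.affineOpens q
      ((abF (XB (A := A) r X)).obj (NN a M)) := fun k _ V hV =>
    subsingleton_hc_isAffineOpen (NN a M) (IsAffineOpen.preimage hV (pB r X)) k
  obtain ⟨ε, hε⟩ := exists_hc_push_commute _ X.isBasis_affineOpens q _ hacyc ⊤
  refine ⟨(mpEquiv (abFPushIso (pB r X) (NN a M)) q ⊤).trans ε, fun P x => ?_⟩
  refine trans_commute (abFPushIso (pB r X) (NN a M)) q ⊤ ε _ _ _ ?_ (hε (gEnd (NN a M) (gB P))) x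
  apply CategoryTheory.Sheaf.hom_ext
  exact NatTrans.ext (funext fun V => AddCommGrpCat.ext fun x => rfl)

/-- The cohomology classes generated in degrees `≤ k`. -/
def genSet (q : ℕ) (S : ∀ n, Set (Hc ((abF X).obj (J II M n)) q ⊤)) (k n : ℕ) :
    Set (Hc ((abF X).obj (J II M n)) q ⊤) :=
  {z | ∃ (m : ℕ) (h : m ≤ n) (y : A) (hy : y ∈ II ^ (n - m)), m ≤ k ∧
    ∃ x ∈ S m, hm (mulJ II M m n h y hy) q x = z}

/-- Any family of classes of the `Iⁿ M` is generated by its members of bounded degree. -/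
theorem exists_generation [IsNoetherianRing A] [IsProper (X ↘ Spec (CommRingCat.of A))] (hM : Coh.IsCoh M)
    (q : ℕ) (S : ∀ n, Set (Hc ((abF X).obj (J II M n)) q ⊤)) :
    ∃ k₀ : ℕ, ∀ n, k₀ ≤ n → ∀ x ∈ S n, x ∈ AddSubgroup.closure (genSet a M q S k₀ n) := by
  obtain ⟨e, he⟩ := exists_transfer a M q
  haveI : IsProper (qB (A := A) r X) := MorphismProperty.pullback_fst _ _ ‹_›
  letI := hMod (Coh.toGlobal (qB (A := A) r X)) (NN a M) q ⊤
  haveI : Module.Finite (MvPolynomial (Fin r) A) (Hc ((abF (XB (A := A) r X)).obj (NN a M)) q ⊤) :=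
    hFin_proper (qB r X) (NN a M) (isCoh_NN a M hM) q
  haveI : IsNoetherian (MvPolynomial (Fin r) A) (Hc ((abF (XB (A := A) r X)).obj (NN a M)) q ⊤) :=
    isNoetherian_of_isNoetherianRing_of_finite _ _
  let N : ℕ →o Submodule (MvPolynomial (Fin r) A) (Hc ((abF (XB (A := A) r X)).obj (NN a M)) q ⊤) :=
    ⟨fun k => Submodule.span _ {z | ∃ m, m ≤ k ∧ ∃ x ∈ S m, e (hm (jmap a M m) q x) = z},
      fun k k' hk => Submodule.span_mono fun z ⟨m, hm, hz⟩ => ⟨m, hm.trans hk, hz⟩⟩
  obtain ⟨k₀, hk₀⟩ := monotone_stabilizes_iff_noetherian.2 ‹_› N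
  refine ⟨k₀, fun n hn x hx => ?_⟩
  have hmem : e (hm (jmap a M n) q x) ∈ N k₀ := by
    rw [hk₀ n hn]
    exact Submodule.subset_span ⟨n, le_rfl, x, hx, rfl⟩
  have key : ∀ z ∈ N k₀, ∀ P, hm (dmap a M n) q (hm (TT a M P) q (e.symm z)) ∈
      AddSubgroup.closure (genSet a M q S k₀ n) := by
    intro z hz
    induction hz using Submodule.span_induction with
    | mem z hz =>
      obtain ⟨m, hmk, y, hy, rfl⟩ := hz
      intro P
      rw [e.symm_apply_apply, ← hm_comp, ← hm_comp, jmap_TT_dmap a M m n (hmk.trans hn) P]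
      exact AddSubgroup.subset_closure ⟨m, _, _, _, hmk, y, hy, rfl⟩
    | zero =>
      intro P
      rw [map_zero, map_zero, map_zero]
      exact zero_mem _
    | add z z' _ _ hz hz' =>
      intro P
      rw [map_add, map_add, map_add]
      exact add_mem (hz P) (hz' P)
    | smul Q z _ hz =>
      intro P
      have e1 : e.symm (Q • z) = hm (TT a M Q) q (e.symm z) := by
        apply e.injective
        rw [e.apply_symm_apply, he, e.apply_symm_apply]
        rfl
      rw [e1, ← hm_comp (TT a M Q), ← TT_mul]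
      exact hz (P * Q)
  have h1 := key _ hmem 1
  rwa [e.symm_apply_apply, TT_one, hm_id, ← hm_comp, jmap_dmap, hm_id] at h1

end Groth.Agent.CohFound.Rees
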