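import Groth.Agent.Lib.CohFound.RpushNat
import Groth.Agent.Lib.CohFound.Bridge
import Mathlib.CategoryTheory.Sites.LocallyBijective

/-!
# Higher direct images commute with colimits detected on a basis
-/

set_option maxHeartbeats 400000

universe u

open CategoryTheory TopologicalSpace Opposite CategoryTheory.Limits Abelian

namespace Groth.Agent.CohFound

variable {X Y : TopCat.{u}}

/-- A map of presheaves bijective on a basis sheafifies to an isomorphism. -/
lemma isIso_presheafToSheaf_map_of_basis {P Q : (Opens Y)ᵒᵖ ⥤ AddCommGrpCat.{u}} (κ : P ⟶ Q)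
    {B : Set (Opens Y)} (hB : Opens.IsBasis B)
    (h : ∀ V ∈ B, Function.Bijective (κ.app (op V))) :
    IsIso ((presheafToSheaf (Opens.grothendieckTopology Y) AddCommGrpCat.{u}).map κ) := by
  have h1 : Presheaf.IsLocallyInjective (Opens.grothendieckTopology Y) κ := ⟨fun {U} s t hst x hx => by
    obtain ⟨V, hV, hxV, hVU⟩ := Opens.isBasis_iff_nbhd.1 hB hx
    refine ⟨V, homOfLE hVU, ?_, hxV⟩
    refine (h V hV).1 ?_
    rw [NatTrans.naturality_apply, NatTrans.naturality_apply]
    exact congrArg _ hst⟩
  have h2 : Presheaf.IsLocallySurjective (Opens.grothendieckTopology Y) κ := ⟨fun {U} s x hx => by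
    obtain ⟨V, hV, hxV, hVU⟩ := Opens.isBasis_iff_nbhd.1 hB hx
    exact ⟨V, homOfLE hVU, (h V hV).2 _, hxV⟩⟩
  exact ((Opens.grothendieckTopology Y).W_iff κ).1
    (GrothendieckTopology.W_of_isLocallyBijective _ κ)

/-- Sections of the cohomology presheaf functor are Mathlib's. -/
noncomputable def hcPushFunEvalIso (f : X ⟶ Y) (n : ℕ) (V : Opens Y) :
    ((Sheaf.cohomologyPresheafFunctor (Opens.grothendieckTopology X) n).flip.obj
      (op ((Opens.map f).obj V)) : CohTop.Ab X ⥤ AddCommGrpCat.{u}) ≅
      hcPushFun f n ⋙ (evaluation (Opens Y)ᵒᵖ AddCommGrpCat.{u}).obj (op V) :=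
  NatIso.ofComponents (fun F => (huExt F n ((Opens.map f).obj V)).toAddCommGrpIso) (fun φ => by
    ext x
    exact huExt_HUmap φ n _ x)

/-- If cohomology over the preimages of a basis commutes with a colimit, so does `Rⁿ f_*`. -/
theorem preservesColimit_rpush (f : X ⟶ Y) {ι : Type u} [SmallCategory ι] (F : ι ⥤ CohTop.Ab X)
    (n : ℕ) (h : Opens.IsBasis {V : Opens Y | PreservesColimit F
        ((Sheaf.cohomologyPresheafFunctor (Opens.grothendieckTopology X) n).flip.obj
          (op ((Opens.map f).obj V)))}) :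
    PreservesColimit F (CohTop.Rpush f n) := by
  obtain ⟨e⟩ := nonempty_rpushFun_iso f n
  have : PreservesColimit F (shHcFun f n) := by
    refine ⟨fun {c} hc => ⟨?_⟩⟩
    let Sh := presheafToSheaf (Opens.grothendieckTopology Y) AddCommGrpCat.{u}
    let T := hcPushFun f n
    let κ := colimit.desc (F ⋙ T) (T.mapCocone c)
    have hκ : IsIso (Sh.map κ) := isIso_presheafToSheaf_map_of_basis κ h fun V hV => by
      have : PreservesColimit F _ := hV
      have := preservesColimit_of_natIso F (hcPushFunEvalIso f n V)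
      let ev := (evaluation (Opens Y)ᵒᵖ AddCommGrpCat.{u}).obj (op V)
      let h₁ := isColimitOfPreserves (T ⋙ ev) hc
      let h₂ := isColimitOfPreserves ev (colimit.isColimit (F ⋙ T))
      have e' : κ.app (op V) = (h₂.coconePointUniqueUpToIso h₁).hom := by
        refine h₂.hom_ext fun j => ?_
        refine Eq.trans ?_ (h₂.comp_coconePointUniqueUpToIso_hom h₁ j).symm
        exact congr_app (colimit.ι_desc (T.mapCocone c) j) (op V)
      rw [e']
      exact ConcreteCategory.bijective_of_isIso _
    exact (isColimitOfPreserves Sh (colimit.isColimit (F ⋙ T))).ofIsoColimit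
      (Cocone.ext (asIso (Sh.map κ)) fun j =>
        (Sh.map_comp _ _).symm.trans (congrArg Sh.map (colimit.ι_desc (T.mapCocone c) j)))
  exact preservesColimit_of_natIso F e.symm

end Groth.Agent.CohFound
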