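import Groth.Agent.Lib.CohFound.RpushHc
import Groth.Agent.Lib.CohFound.AugHom

/-!
# `Rⁿ f_* = (V ↦ Hⁿ(f⁻¹ V, -))^#` naturally
-/

set_option maxHeartbeats 400000

universe u

open CategoryTheory TopologicalSpace Opposite CategoryTheory.Limits Abelian

namespace Groth.Agent.CohFound

variable {X Y : TopCat.{u}}

/-- `F ↦ (V ↦ Hⁿ(f⁻¹ V, F))`. -/
noncomputable def hcPushFun (f : X ⟶ Y) (n : ℕ) :
    CohTop.Ab X ⥤ ((Opens Y)ᵒᵖ ⥤ AddCommGrpCat.{u}) where
  obj F := hcPrePush f F n
  map {F G} φ :=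
    { app := fun V => AddCommGrpCat.ofHom (mp φ n ((Opens.map f).obj V.unop))
      naturality := fun V W i => by ext x; exact mp_rs φ n _ x }
  map_id F := by ext V x; exact mp_id F n _ x
  map_comp φ ψ := by ext V x; exact mp_comp φ ψ n _ x

/-- `F ↦ (V ↦ Hⁿ(f⁻¹ V, F))^#`. -/
noncomputable abbrev shHcFun (f : X ⟶ Y) (n : ℕ) : CohTop.Ab X ⥤ CohTop.Ab Y :=
  hcPushFun f n ⋙ presheafToSheaf (Opens.grothendieckTopology Y) AddCommGrpCat.{u}

section Cx

variable {C : Type*} [Category C] [Abelian C] (K : CochainComplex C ℕ)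

lemma isIso_liftCycles (n : ℕ) {Z : C} (i : Z ⟶ K.X n) (w : i ≫ K.d n (n + 1) = 0)
    (hi : IsLimit (KernelFork.ofι i w)) :
    IsIso (K.liftCycles i (n + 1) (CochainComplex.next ℕ n) w) := by
  have hl : hi.lift (KernelFork.ofι (K.iCycles n) (K.iCycles_d n (n + 1))) ≫ i = K.iCycles n :=
    Fork.IsLimit.lift_ι hi
  refine ⟨hi.lift (KernelFork.ofι (K.iCycles n) (K.iCycles_d n (n + 1))), ?_, ?_⟩
  · refine Fork.IsLimit.hom_ext hi ?_
    simp only [Fork.ι_ofι, Category.assoc, Category.id_comp]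
    rw [hl, HomologicalComplex.liftCycles_i]
  · rw [← cancel_mono (K.iCycles n), Category.assoc, HomologicalComplex.liftCycles_i, hl,
      Category.id_comp]

lemma exists_iso_homology_zero {Z H : C} (i : Z ⟶ K.X 0) (w : i ≫ K.d 0 1 = 0)
    (hi : IsLimit (KernelFork.ofι i w)) (π : Z ⟶ H) [IsIso π] :
    ∃ e : H ≅ K.homology 0, π ≫ e.hom =
      K.liftCycles i 1 (CochainComplex.next ℕ 0) w ≫ K.homologyπ 0 := by
  have := isIso_liftCycles K 0 i w hi
  have := K.isIso_homologyπ 0 0 (by simp) (K.shape 0 0 (by simp))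
  exact ⟨(asIso π).symm ≪≫ asIso (K.liftCycles i 1 (CochainComplex.next ℕ 0) w ≫ K.homologyπ 0),
    IsIso.hom_inv_id_assoc _ _⟩

lemma exists_iso_homology_succ (m : ℕ) {Z H : C} (i : Z ⟶ K.X (m + 1))
    (w : i ≫ K.d (m + 1) (m + 1 + 1) = 0) (hi : IsLimit (KernelFork.ofι i w))
    (a : K.X m ⟶ Z) (ha : a ≫ i = K.d m (m + 1)) (π : Z ⟶ H) (wπ : a ≫ π = 0)
    (hex : (ShortComplex.mk a π wπ).Exact) [Epi π] :
    ∃ e : H ≅ K.homology (m + 1), π ≫ e.hom =
      K.liftCycles i (m + 1 + 1) (CochainComplex.next ℕ (m + 1)) w ≫ K.homologyπ (m + 1) := by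
  have := isIso_liftCycles K (m + 1) i w hi
  let l := K.liftCycles i (m + 1 + 1) (CochainComplex.next ℕ (m + 1)) w
  have hal : a ≫ l = K.toCycles m (m + 1) := by
    rw [← cancel_mono (K.iCycles (m + 1)), Category.assoc, HomologicalComplex.liftCycles_i,
      HomologicalComplex.toCycles_i, ha]
  have hH := K.homologyIsCokernel m (m + 1) (CochainComplex.prev_nat_succ m)
  have c₁ : a ≫ l ≫ K.homologyπ (m + 1) = 0 := by
    rw [← Category.assoc, hal, HomologicalComplex.toCycles_comp_homologyπ]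
  have h1 := hex.gIsCokernel
  let u : H ⟶ _ := h1.desc (CokernelCofork.ofπ _ c₁)
  have hu : π ≫ u = l ≫ K.homologyπ (m + 1) := Cofork.IsColimit.π_desc h1
  have c₂ : K.toCycles m (m + 1) ≫ inv l ≫ π = 0 := by
    rw [← hal, Category.assoc, IsIso.hom_inv_id_assoc, wπ]
  let v : K.homology (m + 1) ⟶ _ := hH.desc (CokernelCofork.ofπ _ c₂)
  have hv : K.homologyπ (m + 1) ≫ v = inv l ≫ π := Cofork.IsColimit.π_desc hH
  refine ⟨⟨u, v, ?_, ?_⟩, hu⟩
  · rw [← cancel_epi π, reassoc_of% hu, hv, IsIso.hom_inv_id_assoc, Category.comp_id]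
  · rw [← cancel_epi (K.homologyπ (m + 1)), reassoc_of% hv, hu, IsIso.inv_hom_id_assoc,
      Category.comp_id]

lemma liftCycles_homologyπ_natural {K' : CochainComplex C ℕ} (τ : K ⟶ K') (n : ℕ) {Z Z' : C}
    (i : Z ⟶ K.X n) (w : i ≫ K.d n (n + 1) = 0) (i' : Z' ⟶ K'.X n)
    (w' : i' ≫ K'.d n (n + 1) = 0) (z : Z ⟶ Z') (h : z ≫ i' = i ≫ τ.f n) :
    (K.liftCycles i (n + 1) (CochainComplex.next ℕ n) w ≫ K.homologyπ n) ≫
      HomologicalComplex.homologyMap τ n =
      z ≫ K'.liftCycles i' (n + 1) (CochainComplex.next ℕ n) w' ≫ K'.homologyπ n := by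
  rw [Category.assoc, HomologicalComplex.homologyπ_naturality, ← Category.assoc, ← Category.assoc]
  congr 1
  rw [← cancel_mono (K'.iCycles n), Category.assoc, Category.assoc,
    HomologicalComplex.cyclesMap_i, HomologicalComplex.liftCycles_i_assoc,
    HomologicalComplex.liftCycles_i, h]

end Cx

namespace AugCx

variable {F : CohTop.Ab X} (R : AugCx F) (f : X ⟶ Y) (n : ℕ)

/-- The pushed complex. -/
noncomputable abbrev pushK : CochainComplex (CohTop.Ab Y) ℕ :=
  ((CohTop.push f).mapHomologicalComplex (ComplexShape.up ℕ)).obj R.K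

lemma push_ι_comp_d : (CohTop.push f).map (kernel.ι (R.K.d n (n + 1))) ≫
    (R.pushK f).d n (n + 1) = 0 :=
  (CategoryTheory.Functor.map_comp (CohTop.push f) _ _).symm.trans
    ((congrArg (CohTop.push f).map (kernel.condition _)).trans ((CohTop.push f).map_zero _ _))

/-- Direct image of cycles to cycles of the direct image. -/
noncomputable abbrev pushCycles : (CohTop.push f).obj (R.Z n) ⟶ (R.pushK f).cycles n :=
  (R.pushK f).liftCycles _ (n + 1) (CochainComplex.next ℕ n) (R.push_ι_comp_d f n)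

/-- Direct image preserves the kernels defining cycles. -/
noncomputable def pushKer : IsLimit (KernelFork.ofι (f := (R.pushK f).d n (n + 1))
    ((CohTop.push f).map (kernel.ι (R.K.d n (n + 1)))) (R.push_ι_comp_d f n)) :=
  have : PreservesLimitsOfSize.{0, 0} (CohTop.push f) :=
    (TopCat.Sheaf.pullbackPushforwardAdjunction AddCommGrpCat.{u} f).rightAdjoint_preservesLimits
  KernelFork.mapIsLimit _ (kernelIsKernel (R.K.d n (n + 1))) (CohTop.push f)

/-- Direct image of cycles to homology. -/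
noncomputable abbrev pushπ : (CohTop.push f).obj (R.Z n) ⟶ (R.pushK f).homology n :=
  R.pushCycles f n ≫ (R.pushK f).homologyπ n

variable {R f n} (hA : ∀ V, R.AcyclicOn ((Opens.map f).obj V))

include hA in
/-- The two descriptions of the homology of the pushed complex agree. -/
theorem exists_iso_comp (n : ℕ) : ∃ e : shPre (hcPrePush f F n) ≅ (R.pushK f).homology n,
    shHom (R.toHcPre f n) ≫ e.hom = R.pushπ f n := by
  have : Epi (shHom (R.toHcPre f n)) :=
    epi_shHom (R.toHcPre f n) fun V => R.toHc_surjective (hA V) n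
  cases n with
  | zero =>
    have : Mono (shHom (R.toHcPre f 0)) := mono_of_injective_app _ fun V =>
      (injective_iff_map_eq_zero _).2 fun s hs => by
        choose W hW hyW h0 using fun y : V =>
          exists_local_eq_zero_of_toSh _ ((R.toHcPre f 0).app (op V) s) hs y.2
        refine TopCat.Sheaf.eq_of_locally_eq' ((CohTop.push f).obj (R.Z 0)) W V
          (fun y => homOfLE (hW y)) (fun y hy => Opens.mem_iSup.2 ⟨⟨y, hy⟩, hyW ⟨y, hy⟩⟩) s 0
          fun y => ?_
        rw [map_zero]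
        refine R.toHc_zero_bijective.1 ?_
        refine Eq.trans ?_ (map_zero _).symm
        exact (NatTrans.naturality_apply (R.toHcPre f 0) (homOfLE (hW y)).op s).trans (h0 y)
    have : IsIso (shHom (R.toHcPre f 0)) := isIso_of_mono_of_epi _
    exact exists_iso_homology_zero (R.pushK f) _ _ (R.pushKer f 0) (shHom (R.toHcPre f 0))
  | succ m =>
    let φ := R.toHcPre f (m + 1)
    let a := (CohTop.push f).map (R.zSC m).g
    have hk : ∀ (V : Opens Y) t, (kernel.ι (R.K.d (m + 1) (m + 2))).hom.app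
        (op ((Opens.map f).obj V)) ((R.zSC m).g.hom.app _ t) =
          (R.K.d m (m + 1)).hom.app (op ((Opens.map f).obj V)) t := fun V t =>
      congrArg (fun ψ : R.K.X m ⟶ R.K.X (m + 1) => ψ.hom.app (op ((Opens.map f).obj V)) t)
        (kernel.lift_ι _ _ _)
    have h0 : ∀ (V : Opens Y) t, φ.app (op V) (a.hom.app (op V) t) = 0 := fun V t =>
      (AugCx.toHc_succ_eq_zero_iff (hA V) m _).2 ⟨t, (hk V t).symm⟩
    have hex := exact_shHom a φ h0 (fun V s hs y hy => by
      obtain ⟨t, ht⟩ := (AugCx.toHc_succ_eq_zero_iff (hA V) m s).1 hs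
      refine ⟨V, le_rfl, hy, t, ?_⟩
      refine (injective_app_of_mono (kernel.ι (R.K.d (m + 1) (m + 2))) _ ((hk V t).trans ht)).trans ?_
      exact (ConcreteCategory.congr_hom
        (CategoryTheory.Functor.map_id ((CohTop.push f).obj (R.Z (m + 1))).obj (op V)) s).symm)
    exact exists_iso_homology_succ (R.pushK f) m _ _ (R.pushKer f (m + 1)) a
      ((CategoryTheory.Functor.map_comp (CohTop.push f) _ _).symm.trans
        (congrArg (CohTop.push f).map (kernel.lift_ι _ _ _))) (shHom φ) _ hex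

variable (R f n) {G : CohTop.Ab X} (R' : AugCx G) (τ : R.K ⟶ R'.K) (φ : F ⟶ G)

lemma pushπ_natural :
    R.pushπ f n ≫ HomologicalComplex.homologyMap
      (((CohTop.push f).mapHomologicalComplex (ComplexShape.up ℕ)).map τ) n =
      (CohTop.push f).map (zMap R R' τ n) ≫ R'.pushπ f n :=
  liftCycles_homologyπ_natural (R.pushK f)
    (((CohTop.push f).mapHomologicalComplex (ComplexShape.up ℕ)).map τ) n _ (R.push_ι_comp_d f n) _
    (R'.push_ι_comp_d f n) _
    ((CategoryTheory.Functor.map_comp (CohTop.push f) _ _).symm.trans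
      ((congrArg (CohTop.push f).map (zMap_ι R R' τ n)).trans
        (CategoryTheory.Functor.map_comp (CohTop.push f) _ _)))

lemma shHom_toHcPre_natural (h : φ ≫ R'.ι = R.ι ≫ τ.f 0) :
    shHom (R.toHcPre f n) ≫ (shHcFun f n).map φ =
      (CohTop.push f).map (zMap R R' τ n) ≫ shHom (R'.toHcPre f n) := by
  ext V z
  refine ((ConcreteCategory.congr_hom (congr_app
    (toSheafify_naturality (Opens.grothendieckTopology Y) ((hcPushFun f n).map φ)) V) _).symm).trans ?_
  exact congrArg ((toSh (hcPrePush f G n)).app V) (toHc_natural R R' τ φ h _ n z)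

end AugCx

/-- `Rⁿ f_*` is naturally the sheafified cohomology presheaf. -/
theorem nonempty_rpushFun_iso (f : X ⟶ Y) (n : ℕ) :
    Nonempty (CohTop.Rpush f n ≅ shHcFun f n) := by
  have hA : ∀ (F : CohTop.Ab X) (V : Opens Y),
      (augOfInj (injectiveResolution F)).AcyclicOn ((Opens.map f).obj V) :=
    fun F V => acyclicOn_augOfInj _ _
  choose e he using fun F => AugCx.exists_iso_comp (hA F) n
  refine ⟨(NatIso.ofComponents (F := shHcFun f n) (G := CohTop.Rpush f n)
    (fun F => e F ≪≫ ((injectiveResolution F).isoRightDerivedObj (CohTop.push f) n).symm)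
    (fun {F G} φ => ?_)).symm⟩
  let τ := InjectiveResolution.desc φ (injectiveResolution G) (injectiveResolution F)
  have hτ : (injectiveResolution F).ι.f 0 ≫ τ.f 0 = φ ≫ (injectiveResolution G).ι.f 0 :=
    InjectiveResolution.desc_commutes_zero φ _ _
  let R := augOfInj (injectiveResolution F)
  let R' := augOfInj (injectiveResolution G)
  have : Epi (shHom (R.toHcPre f n)) :=
    epi_shHom (R.toHcPre f n) fun V => R.toHc_surjective (hA F V) n
  let iF := ((injectiveResolution F).isoRightDerivedObj (CohTop.push f) n).inv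
  let iG := ((injectiveResolution G).isoRightDerivedObj (CohTop.push f) n).inv
  let H := HomologicalComplex.homologyMap
    (((CohTop.push f).mapHomologicalComplex (ComplexShape.up ℕ)).map τ) n
  let z := (CohTop.push f).map (AugCx.zMap R R' τ n)
  have E1 : iF ≫ (CohTop.Rpush f n).map φ = H ≫ iG :=
    InjectiveResolution.isoRightDerivedObj_inv_naturality φ _ _ τ hτ (CohTop.push f) n
  have E2 : R.pushπ f n ≫ H = z ≫ R'.pushπ f n := AugCx.pushπ_natural R f n R' τ
  have E3 : shHom (R.toHcPre f n) ≫ (shHcFun f n).map φ = z ≫ shHom (R'.toHcPre f n) :=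
    AugCx.shHom_toHcPre_natural R f n R' τ φ hτ.symm
  refine (cancel_epi (shHom (R.toHcPre f n))).1 ?_
  change shHom (R.toHcPre f n) ≫ ((shHcFun f n).map φ ≫ ((e G).hom ≫ iG)) =
    shHom (R.toHcPre f n) ≫ (((e F).hom ≫ iF) ≫ (CohTop.Rpush f n).map φ)
  calc _ = (shHom (R.toHcPre f n) ≫ (shHcFun f n).map φ) ≫ (e G).hom ≫ iG :=
        (Category.assoc _ _ _).symm
    _ = (z ≫ shHom (R'.toHcPre f n)) ≫ (e G).hom ≫ iG := congrArg (· ≫ (e G).hom ≫ iG) E3
    _ = (z ≫ R'.pushπ f n) ≫ iG :=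
        (Category.assoc _ _ _).trans ((congrArg (z ≫ ·) ((Category.assoc _ _ _).symm.trans
          (congrArg (· ≫ iG) (he G)))).trans (Category.assoc _ _ _).symm)
    _ = (R.pushπ f n ≫ H) ≫ iG := congrArg (· ≫ iG) E2.symm
    _ = R.pushπ f n ≫ (iF ≫ (CohTop.Rpush f n).map φ) :=
        (Category.assoc _ _ _).trans (congrArg (R.pushπ f n ≫ ·) E1.symm)
    _ = (shHom (R.toHcPre f n) ≫ (e F).hom) ≫ (iF ≫ (CohTop.Rpush f n).map φ) :=
        congrArg (· ≫ (iF ≫ (CohTop.Rpush f n).map φ)) (he F).symm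
    _ = _ := (Category.assoc _ _ _).trans (congrArg (shHom (R.toHcPre f n) ≫ ·)
        (Category.assoc _ _ _).symm)

end Groth.Agent.CohFound
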