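import Groth.Agent.Lib.CohFound.Rpush
import Mathlib.CategoryTheory.Sites.LocallySurjective

/-!
# Cokernels of maps of sheaves as sheafified presheaves
-/

set_option maxHeartbeats 400000

universe u

open CategoryTheory TopologicalSpace Opposite CategoryTheory.Limits

namespace Groth.Agent.CohFound

variable {Y : TopCat.{u}} (P : (Opens Y)ᵒᵖ ⥤ AddCommGrpCat.{u})

/-- Sheafification of a presheaf of abelian groups on opens. -/
noncomputable abbrev shPre : CohTop.Ab Y :=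
  (presheafToSheaf (Opens.grothendieckTopology Y) AddCommGrpCat.{u}).obj P

/-- The map to the sheafification. -/
noncomputable abbrev toSh : P ⟶ (shPre P).obj :=
  toSheafify (Opens.grothendieckTopology Y) P

lemma exists_local_toSh_eq {U : Opens Y} (s : (shPre P).obj.obj (op U)) {y : Y} (hy : y ∈ U) :
    ∃ (V : Opens Y) (hV : V ≤ U), y ∈ V ∧
      ∃ t, (toSh P).app (op V) t = (shPre P).obj.map (homOfLE hV).op s := by
  obtain ⟨V, i, ⟨t, ht⟩, hyV⟩ :=
    Presheaf.imageSieve_mem (Opens.grothendieckTopology Y) (toSh P) s y hy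
  exact ⟨V, leOfHom i, hyV, t, ht⟩

lemma exists_local_eq_zero_of_toSh {U : Opens Y} (t : P.obj (op U))
    (ht : (toSh P).app (op U) t = 0) {y : Y} (hy : y ∈ U) :
    ∃ (V : Opens Y) (hV : V ≤ U), y ∈ V ∧ P.map (homOfLE hV).op t = 0 := by
  obtain ⟨V, i, hi, hyV⟩ := Presheaf.equalizerSieve_mem (Opens.grothendieckTopology Y) (toSh P)
    t 0 (by rw [map_zero]; exact ht) y hy
  refine ⟨V, leOfHom i, hyV, ?_⟩
  exact (hi : P.map i.op t = P.map i.op 0).trans (map_zero _)

variable {P} {A Z : CohTop.Ab Y}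

/-- The map to a sheafified presheaf induced by a map of presheaves. -/
noncomputable def shHom (φ : Z.obj ⟶ P) : Z ⟶ shPre P := ⟨φ ≫ toSh P⟩

lemma shHom_app (φ : Z.obj ⟶ P) (U : Opens Y) (s : Z.obj.obj (op U)) :
    (shHom φ).hom.app (op U) s = (toSh P).app (op U) (φ.app (op U) s) := rfl

lemma comp_shHom_eq_zero (a : A ⟶ Z) (φ : Z.obj ⟶ P)
    (h : ∀ U t, φ.app (op U) (a.hom.app (op U) t) = 0) : a ≫ shHom φ = 0 := by
  ext U t
  exact (congrArg ((toSh P).app U) (h U.unop t)).trans (map_zero _)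

lemma exact_shHom (a : A ⟶ Z) (φ : Z.obj ⟶ P)
    (h : ∀ U t, φ.app (op U) (a.hom.app (op U) t) = 0)
    (h' : ∀ U s, φ.app (op U) s = 0 → ∀ y ∈ U, ∃ (V : Opens Y) (hV : V ≤ U), y ∈ V ∧
      ∃ t, a.hom.app (op V) t = Z.obj.map (homOfLE hV).op s) :
    (ShortComplex.mk a (shHom φ) (comp_shHom_eq_zero a φ h)).Exact := by
  refine exact_of_local_lift fun U s hs y hy => ?_
  obtain ⟨V, hV, hyV, h0⟩ := exists_local_eq_zero_of_toSh P (φ.app (op U) s) hs hy
  rw [← NatTrans.naturality_apply] at h0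
  obtain ⟨W, hW, hyW, t, ht⟩ := h' V _ h0 y hyV
  refine ⟨W, hW.trans hV, hyW, t, ht.trans ?_⟩
  exact (CategoryTheory.Functor.map_comp_apply Z.obj _ _ _).symm

lemma epi_shHom (φ : Z.obj ⟶ P) (hφ : ∀ U, Function.Surjective (φ.app (op U))) :
    Epi (shHom φ) := by
  refine epi_of_locally_lift _ fun U s y hy => ?_
  obtain ⟨V, hV, hyV, t, ht⟩ := exists_local_toSh_eq P s hy
  obtain ⟨z, rfl⟩ := hφ V t
  exact ⟨V, hV, hyV, z, ht⟩

end Groth.Agent.CohFound
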