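import Groth.Agent.Lib.CohFound.AugCx
import Groth.Agent.Lib.CohFound.Sheafify

/-!
# Homology of a pushed acyclic resolution is the sheafified cohomology presheaf
-/

set_option maxHeartbeats 400000

universe u

open CategoryTheory TopologicalSpace Opposite CategoryTheory.Limits Abelian

namespace Groth.Agent.CohFound

variable {X Y : TopCat.{u}}

/-- `U ↦ H^n(U, F)`. -/
noncomputable def hcPre (F : CohTop.Ab X) (n : ℕ) : (Opens X)ᵒᵖ ⥤ AddCommGrpCat.{u} where
  obj U := AddCommGrpCat.of (Hc F n U.unop)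
  map i := AddCommGrpCat.ofHom (rs F n (leOfHom i.unop))
  map_id U := by ext x; exact rs_refl F n x
  map_comp i j := by ext x; exact (rs_rs F n (leOfHom i.unop) (leOfHom j.unop) x).symm

lemma hcPre_map_apply (F : CohTop.Ab X) (n : ℕ) {U V : Opens X} (h : V ≤ U) (x : Hc F n U) :
    (hcPre F n).map (homOfLE h).op x = rs F n h x := rfl

/-- `V ↦ H^n(f⁻¹ V, F)`. -/
noncomputable abbrev hcPrePush (f : X ⟶ Y) (F : CohTop.Ab X) (n : ℕ) :
    (Opens Y)ᵒᵖ ⥤ AddCommGrpCat.{u} :=
  (Opens.map f).op ⋙ hcPre F n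

/-- Homology from a kernel and an exact right end. -/
lemma nonempty_homology_iso_of_exact {C : Type*} [Category C] [Abelian C] (S : ShortComplex C)
    {Z H : C} (i : Z ⟶ S.X₂) (wi : i ≫ S.g = 0) (hi : IsLimit (KernelFork.ofι i wi))
    (a : S.X₁ ⟶ Z) (ha : a ≫ i = S.f) (π : Z ⟶ H) (w : a ≫ π = 0)
    (hex : (ShortComplex.mk a π w).Exact) [Epi π] : Nonempty (S.homology ≅ H) := by
  have e : hi.lift (KernelFork.ofι S.f S.zero) = a :=
    Fork.IsLimit.hom_ext hi ((Fork.IsLimit.lift_ι hi).trans ha.symm)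
  subst e
  let h : S.LeftHomologyData :=
    { K := Z
      H := H
      i := i
      π := π
      wi := wi
      hi := hi
      wπ := w
      hπ := hex.gIsCokernel }
  exact ⟨h.homologyIso⟩

namespace AugCx

variable {F : CohTop.Ab X} (R : AugCx F) (f : X ⟶ Y)

/-- Cycles to cohomology, as a map of presheaves. -/
noncomputable def toHcPre (n : ℕ) : ((CohTop.push f).obj (R.Z n)).obj ⟶ hcPrePush f F n where
  app V := AddCommGrpCat.ofHom (R.toHc ((Opens.map f).obj V.unop) n)
  naturality V W i := by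
    ext z
    exact R.toHc_map ((Opens.map f).obj V.unop) (leOfHom ((Opens.map f).map i.unop)) n z

variable {R f} (hA : ∀ V, R.AcyclicOn ((Opens.map f).obj V))

include hA in
/-- `Hⁿ(f_* K) = (V ↦ Hⁿ(f⁻¹ V, F))^#`. -/
theorem nonempty_homology_push_iso (n : ℕ) :
    Nonempty ((((CohTop.push f).mapHomologicalComplex (ComplexShape.up ℕ)).obj R.K).homology n ≅
      shPre (hcPrePush f F n)) := by
  let K := ((CohTop.push f).mapHomologicalComplex (ComplexShape.up ℕ)).obj R.K
  have : PreservesLimitsOfSize.{0, 0} (CohTop.push f) :=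
    (TopCat.Sheaf.pullbackPushforwardAdjunction AddCommGrpCat.{u} f).rightAdjoint_preservesLimits
  let ker := KernelFork.mapIsLimit _ (kernelIsKernel (R.K.d n (n + 1))) (CohTop.push f)
  let φ := R.toHcPre f n
  have hepi : Epi (shHom φ) := epi_shHom φ fun V => R.toHc_surjective (hA V) n
  cases n with
  | zero =>
    let S := K.sc' 0 0 1
    have : Mono (shHom φ) := mono_of_injective_app _ fun V =>
      (injective_iff_map_eq_zero _).2 fun s hs => by
        refine TopCat.Sheaf.eq_of_locally_eq' ((CohTop.push f).obj (R.Z 0))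
          (fun W : {W : Opens Y // ∃ h : W ≤ V, φ.app (op W) (((CohTop.push f).obj (R.Z 0)).obj.map
            (homOfLE h).op s) = 0} => W.1) V (fun W => homOfLE W.2.choose) ?_ s 0 ?_
        · intro y hy
          obtain ⟨W, hW, hyW, h0⟩ := exists_local_eq_zero_of_toSh _ (φ.app (op V) s) hs hy
          refine Opens.mem_iSup.2 ⟨⟨W, hW, ?_⟩, hyW⟩
          rw [NatTrans.naturality_apply]
          exact h0
        · intro W
          rw [map_zero]
          exact R.toHc_zero_bijective.1 (W.2.choose_spec.trans (map_zero _).symm)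
    have w : (0 : (CohTop.push f).obj (R.K.X 0) ⟶ (CohTop.push f).obj (R.Z 0)) ≫ shHom φ = 0 :=
      zero_comp
    have hex : (ShortComplex.mk _ (shHom φ) w).Exact :=
      (ShortComplex.exact_iff_mono _ rfl).2 this
    have ha : (0 : (CohTop.push f).obj (R.K.X 0) ⟶ (CohTop.push f).obj (R.Z 0)) ≫
        (CohTop.push f).map (kernel.ι (R.K.d 0 1)) = S.f :=
      zero_comp.trans (K.shape 0 0 (by simp)).symm
    obtain ⟨e⟩ := nonempty_homology_iso_of_exact S _ (KernelFork.map_condition _ _) ker 0 ha (shHom φ) w hex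
    exact ⟨ShortComplex.homologyMapIso (K.isoSc' 0 0 1 (by simp) (by simp)) ≪≫ e⟩
  | succ m =>
    let a := (CohTop.push f).map (R.zSC m).g
    let S := K.sc' m (m + 1) (m + 2)
    have ha : a ≫ (CohTop.push f).map (kernel.ι (R.K.d (m + 1) (m + 2))) = S.f :=
      (CategoryTheory.Functor.map_comp (CohTop.push f) _ _).symm.trans
        (congrArg (CohTop.push f).map (kernel.lift_ι _ _ _))
    have hk : ∀ (V : Opens Y) t, (kernel.ι (R.K.d (m + 1) (m + 2))).hom.app
        (op ((Opens.map f).obj V)) ((R.zSC m).g.hom.app _ t) =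
          (R.K.d m (m + 1)).hom.app (op ((Opens.map f).obj V)) t := fun V t =>
      congrArg (fun ψ : R.K.X m ⟶ R.K.X (m + 1) => ψ.hom.app (op ((Opens.map f).obj V)) t)
        (kernel.lift_ι _ _ _)
    have h0 : ∀ (V : Opens Y) t, φ.app (op V) (a.hom.app (op V) t) = 0 := fun V t =>
      (AugCx.toHc_succ_eq_zero_iff (hA V) m _).2 ⟨t, (hk V t).symm⟩
    have hex := exact_shHom a φ h0 (fun V s hs y hy => by
      obtain ⟨t, ht⟩ := (AugCx.toHc_succ_eq_zero_iff (hA V) m s).1 hs
      refine ⟨V, le_rfl, hy, t, ?_⟩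
      refine (injective_app_of_mono (kernel.ι (R.K.d (m + 1) (m + 2))) _ ((hk V t).trans ht)).trans ?_
      exact (ConcreteCategory.congr_hom
        (CategoryTheory.Functor.map_id ((CohTop.push f).obj (R.Z (m + 1))).obj (op V)) s).symm)
    obtain ⟨e⟩ := nonempty_homology_iso_of_exact S _ (KernelFork.map_condition _ _) ker a ha (shHom φ) _ hex
    exact ⟨ShortComplex.homologyMapIso (K.isoSc' m (m + 1) (m + 2) (by simp) (by simp)) ≪≫ e⟩

end AugCx

end Groth.Agent.CohFound
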