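import Groth.Agent.Lib.CohFound.SecPush

/-!
# The identification of sections of homology with cohomology
-/

set_option maxHeartbeats 400000

universe u

open CategoryTheory TopologicalSpace Opposite CategoryTheory.Limits Abelian

namespace Groth.Agent.CohFound

/-- Data exhibiting `H` as the homology of `S`. -/
structure HData {T : TopCat.{u}} (S : ShortComplex (CohTop.Ab T)) where
  /-- cycles -/
  Z : CohTop.Ab T
  /-- homology -/
  H : CohTop.Ab T
  /-- inclusion of cycles -/
  i : Z ⟶ S.X₂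
  mono : Mono i
  wi : i ≫ S.g = 0
  exactI : (ShortComplex.mk i S.g wi).Exact
  /-- boundaries to cycles -/
  a : S.X₁ ⟶ Z
  ha : a ≫ i = S.f
  /-- cycles to homology -/
  π : Z ⟶ H
  w : a ≫ π = 0
  exactπ : (ShortComplex.mk a π w).Exact
  epi : Epi π

attribute [instance] HData.mono HData.epi

/-- The homology of a short complex as homology data. -/
noncomputable def HData.ofHomology {T : TopCat.{u}} (S : ShortComplex (CohTop.Ab T)) : HData S where
  Z := S.cycles
  H := S.homology
  i := S.iCycles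
  mono := inferInstance
  wi := S.iCycles_g
  exactI := ShortComplex.exact_of_f_is_kernel _ S.cyclesIsKernel
  a := S.toCycles
  ha := S.toCycles_i
  π := S.homologyπ
  w := S.toCycles_comp_homologyπ
  exactπ := ShortComplex.exact_of_g_is_cokernel _ S.homologyIsCokernel
  epi := inferInstance

namespace HData

variable {T : TopCat.{u}} {S : ShortComplex (CohTop.Ab T)} (D : HData S)

lemma g_i (U : Opens T) (z : D.Z.obj.obj (op U)) :
    S.g.hom.app (op U) (D.i.hom.app (op U) z) = 0 :=
  congrArg (fun φ : D.Z ⟶ S.X₃ => φ.hom.app (op U) z) D.wi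

lemma i_a (U : Opens T) (t : S.X₁.obj.obj (op U)) :
    D.i.hom.app (op U) (D.a.hom.app (op U) t) = S.f.hom.app (op U) t :=
  congrArg (fun φ : S.X₁ ⟶ S.X₂ => φ.hom.app (op U) t) D.ha

end HData

namespace AugCx

variable {X Y : TopCat.{u}} {F : CohTop.Ab X} {R : AugCx F} {f : X ⟶ Y} {i q : ℕ}
  (D : HData (R.pushSC f i q)) {V : Opens Y} (hS : SecGood (R.pushSC f i q) V)

/-- The class of a section of cycles. -/
noncomputable def dataCls (V : Opens Y) : D.Z.obj.obj (op V) →+ Hc F q ((Opens.map f).obj V) where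
  toFun z := R.cls (D.i.hom.app (op V) z) (D.g_i V z)
  map_zero' := (R.cls_eq 0 _ _ ((map_zero _).trans (map_zero (D.i.hom.app (op V)).hom).symm)).trans
    (map_zero _)
  map_add' z z' := by
    obtain ⟨a, ha⟩ := R.exists_cycle _ (D.g_i V z)
    obtain ⟨b, hb⟩ := R.exists_cycle _ (D.g_i V z')
    exact (R.cls_eq (a + b) _ _
      ((map_add _ a b).trans ((congrArg₂ (· + ·) ha hb).trans (map_add _ z z').symm))).trans
      ((map_add _ a b).trans (congrArg₂ (· + ·) (R.cls_eq a _ _ ha).symm (R.cls_eq b _ _ hb).symm))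

lemma rs_dataCls {W : Opens Y} (h : W ≤ V) (z : D.Z.obj.obj (op V)) :
    rs F q (preLe f h) (dataCls D V z) = dataCls D W (D.Z.obj.map (homOfLE h).op z) := by
  refine (R.rs_cls (preLe f h) _ (D.g_i V z)).trans ?_
  obtain ⟨a, ha⟩ := R.exists_cycle _ (D.g_i W (D.Z.obj.map (homOfLE h).op z))
  refine (R.cls_eq a _ _ (ha.trans (NatTrans.naturality_apply D.i.hom _ z))).trans
    (R.cls_eq a _ (D.g_i W _) ha).symm

variable (hA : R.AcyclicOn ((Opens.map f).obj V)) (hi : (ComplexShape.up ℕ).prev q = i)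

include hA in
lemma dataCls_surjective : Function.Surjective (dataCls D V) := by
  intro x
  obtain ⟨s, hs, rfl⟩ := R.exists_cls_eq hA x
  obtain ⟨z, hz⟩ := exact_app D.exactI (U := V) s hs
  obtain ⟨a, ha⟩ := R.exists_cycle s hs
  exact ⟨z, (R.cls_eq a _ (D.g_i V z) (ha.trans hz.symm)).trans (R.cls_eq a _ hs ha).symm⟩

include hS hA hi in
lemma dataCls_eq_zero_iff (z : D.Z.obj.obj (op V)) :
    dataCls D V z = 0 ↔ D.π.hom.app (op V) z = 0 := by
  refine (R.cls_eq_zero_iff hA hi _ (D.g_i V z)).trans ⟨?_, fun h => ?_⟩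
  · rintro ⟨t, ht⟩
    have : D.a.hom.app (op V) t = z := injective_app_of_mono D.i V ((D.i_a V t).trans ht)
    rw [← this]
    exact congrArg (fun φ : (R.pushSC f i q).X₁ ⟶ D.H => φ.hom.app (op V) t) D.w
  · obtain ⟨t, ht⟩ := hS.exists_eq_of_eq_zero D.i D.wi D.a D.ha D.π D.w D.exactπ z h
    exact ⟨t, (D.i_a V t).symm.trans (congrArg (D.i.hom.app (op V)) ht)⟩

include hS in
lemma π_surjective : Function.Surjective (D.π.hom.app (op V)) :=
  hS.surjective D.i D.wi D.exactI D.a D.ha D.π D.w D.exactπ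

/-- Sections of homology are cohomology. -/
noncomputable def secEquiv : D.H.obj.obj (op V) ≃+ Hc F q ((Opens.map f).obj V) :=
  (QuotientAddGroup.quotientKerEquivOfSurjective (D.π.hom.app (op V)).hom
      (π_surjective D hS)).symm.trans
    ((QuotientAddGroup.quotientAddEquivOfEq (AddSubgroup.ext fun z =>
      (dataCls_eq_zero_iff D hS hA hi z).symm)).trans
        (QuotientAddGroup.quotientKerEquivOfSurjective (dataCls D V) (dataCls_surjective D hA)))

lemma secEquiv_π (z : D.Z.obj.obj (op V)) :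
    secEquiv D hS hA hi (D.π.hom.app (op V) z) = dataCls D V z := by
  have e : (QuotientAddGroup.quotientKerEquivOfSurjective (D.π.hom.app (op V)).hom
      (π_surjective D hS)).symm (D.π.hom.app (op V) z) = QuotientAddGroup.mk z := by
    rw [AddEquiv.symm_apply_eq]; rfl
  simp only [secEquiv, AddEquiv.trans_apply, e]
  rfl

lemma rs_secEquiv {W : Opens Y} (hS' : SecGood (R.pushSC f i q) W)
    (hA' : R.AcyclicOn ((Opens.map f).obj W)) (h : W ≤ V) (s : D.H.obj.obj (op V)) :
    rs F q (preLe f h) (secEquiv D hS hA hi s) =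
      secEquiv D hS' hA' hi (D.H.obj.map (homOfLE h).op s) := by
  obtain ⟨z, rfl⟩ := π_surjective D hS s
  rw [secEquiv_π, rs_dataCls, ← secEquiv_π D hS' hA' hi, NatTrans.naturality_apply]

end AugCx

end Groth.Agent.CohFound
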