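import Groth.Agent.Lib.CohFound.Rpush

/-!
# Sections of a homology sheaf as cycles modulo boundaries

`SecGood S V` says, in terms of sections of `S` only, that over `V` the sections of the homology
sheaf of `S` are cycles modulo boundaries.
-/

set_option maxHeartbeats 400000

universe u

open CategoryTheory TopologicalSpace Opposite CategoryTheory.Limits

namespace Groth.Agent.CohFound

variable {T : TopCat.{u}}

/-- Near every point of its domain, `s` is a boundary. -/
def LocBd (S : ShortComplex (CohTop.Ab T)) {W : Opens T} (s : S.X₂.obj.obj (op W)) : Prop :=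
  ∀ y ∈ W, ∃ (N : Opens T) (hN : N ≤ W), y ∈ N ∧
    ∃ t, S.f.hom.app (op N) t = S.X₂.obj.map (homOfLE hN).op s

/-- Cycles modulo boundaries over `V` form the sections of the homology sheaf. -/
structure SecGood (S : ShortComplex (CohTop.Ab T)) (V : Opens T) : Prop where
  isBd : ∀ s : S.X₂.obj.obj (op V), S.g.hom.app (op V) s = 0 → LocBd S s →
    ∃ t, S.f.hom.app (op V) t = s
  glue : ∀ (W : V → Opens T) (hW : ∀ y, W y ≤ V), (∀ y : V, (y : T) ∈ W y) →
    ∀ (z : ∀ y, S.X₂.obj.obj (op (W y))), (∀ y, S.g.hom.app (op (W y)) (z y) = 0) →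
    (∀ y y', LocBd S (S.X₂.obj.map (homOfLE (inf_le_left : W y ⊓ W y' ≤ W y)).op (z y) -
      S.X₂.obj.map (homOfLE (inf_le_right : W y ⊓ W y' ≤ W y')).op (z y'))) →
    ∃ s : S.X₂.obj.obj (op V), S.g.hom.app (op V) s = 0 ∧
      ∀ y, LocBd S (S.X₂.obj.map (homOfLE (hW y)).op s - z y)

namespace LocBd

variable {S : ShortComplex (CohTop.Ab T)} {W : Opens T}

lemma of_eq {s : S.X₂.obj.obj (op W)} (t : S.X₁.obj.obj (op W))
    (h : S.f.hom.app (op W) t = s) : LocBd S s := fun _ hy =>
  ⟨W, le_rfl, hy, t, h.trans (ConcreteCategory.congr_hom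
    (CategoryTheory.Functor.map_id S.X₂.obj (op W)) s).symm⟩

lemma add {s s' : S.X₂.obj.obj (op W)} (h : LocBd S s) (h' : LocBd S s') : LocBd S (s + s') := by
  intro y hy
  obtain ⟨N, hN, hyN, t, ht⟩ := h y hy
  obtain ⟨N', hN', hyN', t', ht'⟩ := h' y hy
  refine ⟨N ⊓ N', inf_le_left.trans hN, ⟨hyN, hyN'⟩,
    S.X₁.obj.map (homOfLE inf_le_left).op t + S.X₁.obj.map (homOfLE inf_le_right).op t', ?_⟩
  rw [map_add, map_add, NatTrans.naturality_apply, NatTrans.naturality_apply, ht, ht',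
    map_map_apply, map_map_apply]

lemma neg {s : S.X₂.obj.obj (op W)} (h : LocBd S s) : LocBd S (-s) := by
  intro y hy
  obtain ⟨N, hN, hyN, t, ht⟩ := h y hy
  exact ⟨N, hN, hyN, -t, by rw [map_neg, map_neg, ht]⟩

lemma map {s : S.X₂.obj.obj (op W)} (h : LocBd S s) {W' : Opens T} (hW : W' ≤ W) :
    LocBd S (S.X₂.obj.map (homOfLE hW).op s) := by
  intro y hy
  obtain ⟨N, hN, hyN, t, ht⟩ := h y (hW hy)
  refine ⟨N ⊓ W', inf_le_right, ⟨hyN, hy⟩, S.X₁.obj.map (homOfLE inf_le_left).op t, ?_⟩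
  rw [NatTrans.naturality_apply, ht, map_map_apply, map_map_apply]

end LocBd

variable {S : ShortComplex (CohTop.Ab T)} {V : Opens T}

/-- Good sections: the kernel of cycles to homology consists of boundaries. -/
theorem SecGood.exists_eq_of_eq_zero (hS : SecGood S V) {Z H : CohTop.Ab T} (i : Z ⟶ S.X₂)
    [Mono i] (wi : i ≫ S.g = 0) (a : S.X₁ ⟶ Z) (ha : a ≫ i = S.f) (π : Z ⟶ H) (w : a ≫ π = 0)
    (hex : (ShortComplex.mk a π w).Exact) (z : Z.obj.obj (op V))
    (hz : π.hom.app (op V) z = 0) : ∃ t, a.hom.app (op V) t = z := by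
  have e : ∀ (N : Opens T) t, i.hom.app (op N) (a.hom.app (op N) t) = S.f.hom.app (op N) t :=
    fun N t => congrArg (fun φ : S.X₁ ⟶ S.X₂ => φ.hom.app (op N) t) ha
  have hz' : LocBd S (i.hom.app (op V) z) := by
    intro y hy
    obtain ⟨N, hN, hyN, t, ht⟩ := exists_local_lift_of_exact hex z hz hy
    refine ⟨N, hN, hyN, t, ?_⟩
    rw [← NatTrans.naturality_apply, ← e N t]
    exact congrArg (i.hom.app (op N)) ht
  obtain ⟨t, ht⟩ := hS.isBd _
    (congrArg (fun φ : Z ⟶ S.X₃ => φ.hom.app (op V) z) wi) hz'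
  exact ⟨t, injective_app_of_mono i V ((e V t).trans ht)⟩

/-- Good sections: every section of homology comes from a cycle. -/
theorem SecGood.surjective (hS : SecGood S V) {Z H : CohTop.Ab T} (i : Z ⟶ S.X₂) [Mono i]
    (wi : i ≫ S.g = 0) (hi : (ShortComplex.mk i S.g wi).Exact) (a : S.X₁ ⟶ Z) (ha : a ≫ i = S.f)
    (π : Z ⟶ H) [Epi π] (w : a ≫ π = 0) (hex : (ShortComplex.mk a π w).Exact) :
    Function.Surjective (π.hom.app (op V)) := by
  have e : ∀ (N : Opens T) t, i.hom.app (op N) (a.hom.app (op N) t) = S.f.hom.app (op N) t :=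
    fun N t => congrArg (fun φ : S.X₁ ⟶ S.X₂ => φ.hom.app (op N) t) ha
  intro s
  choose W hW hyW z hz using fun y : V => locally_lift_of_epi π V s y.2
  obtain ⟨x, hx, hx'⟩ := hS.glue W hW hyW (fun y => i.hom.app (op (W y)) (z y))
    (fun y => congrArg (fun φ : Z ⟶ S.X₃ => φ.hom.app (op (W y)) (z y)) wi) fun y y' => by
      intro p hp
      obtain ⟨N, hN, hpN, t, ht⟩ := exists_local_lift_of_exact hex
        (Z.obj.map (homOfLE (inf_le_left : W y ⊓ W y' ≤ W y)).op (z y) -
          Z.obj.map (homOfLE (inf_le_right : W y ⊓ W y' ≤ W y')).op (z y'))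
        (by rw [map_sub, NatTrans.naturality_apply, NatTrans.naturality_apply, hz, hz,
          map_map_apply, map_map_apply, sub_self]) hp
      refine ⟨N, hN, hpN, t, ?_⟩
      rw [← e N t]
      refine (congrArg (i.hom.app (op N)) ht).trans ?_
      rw [map_sub, map_sub, NatTrans.naturality_apply, NatTrans.naturality_apply, map_sub,
        NatTrans.naturality_apply, NatTrans.naturality_apply]
  obtain ⟨c, hc⟩ := exact_app hi x hx
  change i.hom.app (op V) c = x at hc
  refine ⟨c, ?_⟩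
  choose N hN hpN t ht using fun p : V => hx' p p (hyW p)
  refine TopCat.Sheaf.eq_of_locally_eq' H N V (fun p => homOfLE ((hN p).trans (hW p))) ?_ _ _ ?_
  · exact fun p hp => Opens.mem_iSup.2 ⟨⟨p, hp⟩, hpN ⟨p, hp⟩⟩
  · intro p
    have h1 : a.hom.app (op (N p)) (t p) =
        Z.obj.map (homOfLE ((hN p).trans (hW p))).op c - Z.obj.map (homOfLE (hN p)).op (z p) := by
      apply injective_app_of_mono i (N p)
      rw [e, ht p, map_sub, map_sub, map_map_apply, NatTrans.naturality_apply,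
        NatTrans.naturality_apply, hc]
    have h2 : π.hom.app (op (N p)) (a.hom.app (op (N p)) (t p)) = 0 :=
      congrArg (fun φ : S.X₁ ⟶ H => φ.hom.app (op (N p)) (t p)) w
    rw [h1, map_sub, sub_eq_zero, NatTrans.naturality_apply, NatTrans.naturality_apply, hz p,
      map_map_apply] at h2
    exact h2

end Groth.Agent.CohFound
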