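import Groth.Agent.Lib.CohFound.AugCx
import Groth.Agent.Lib.CohFound.SecGood

/-!
# Sections of the homology of a pushed acyclic resolution

If `W ↦ H^q(f⁻¹ W, F)` is separated and glues on a suitable family of opens, then over such opens
the sections of `H^q(f_* K)` are cycles modulo boundaries, that is `H^q(f⁻¹ W, F)`.
-/

set_option maxHeartbeats 400000

universe u

open CategoryTheory TopologicalSpace Opposite CategoryTheory.Limits Abelian

namespace Groth.Agent.CohFound.AugCx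

variable {X Y : TopCat.{u}} {F : CohTop.Ab X} (R : AugCx F) (f : X ⟶ Y)

/-- The pushed complex around degree `q`. -/
noncomputable abbrev pushSC (i q : ℕ) : ShortComplex (CohTop.Ab Y) :=
  (((CohTop.push f).mapHomologicalComplex (ComplexShape.up ℕ)).obj R.K).sc' i q (q + 1)

lemma toHc_eq_zero_iff {U : Opens X} (hA : R.AcyclicOn U) {i q : ℕ}
    (hi : (ComplexShape.up ℕ).prev q = i) (z : (R.Z q).obj.obj (op U)) :
    R.toHc U q z = 0 ↔ ∃ t, (R.K.d i q).hom.app (op U) t =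
      (kernel.ι (R.K.d q (q + 1))).hom.app (op U) z := by
  subst hi
  cases q with
  | zero =>
    rw [CochainComplex.prev_nat_zero, R.K.shape 0 0 (by simp)]
    constructor
    · intro h
      obtain rfl : z = 0 := R.toHc_zero_bijective.1 (h.trans (map_zero _).symm)
      exact ⟨0, (map_zero _).trans (map_zero _).symm⟩
    · rintro ⟨t, ht⟩
      have : z = 0 := injective_app_of_mono (kernel.ι (R.K.d 0 (0 + 1))) U
        (ht.symm.trans (map_zero _).symm)
      rw [this, map_zero]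
  | succ n =>
    rw [CochainComplex.prev_nat_succ]
    exact toHc_succ_eq_zero_iff hA n z

variable {q : ℕ}

lemma exists_cycle {U : Opens X} (s : (R.K.X q).obj.obj (op U))
    (hs : (R.K.d q (q + 1)).hom.app (op U) s = 0) :
    ∃ z, (kernel.ι (R.K.d q (q + 1))).hom.app (op U) z = s :=
  exact_app (S := ShortComplex.mk (kernel.ι (R.K.d q (q + 1))) (R.K.d q (q + 1))
    (kernel.condition _)) (ShortComplex.exact_of_f_is_kernel _ (kernelIsKernel _)) s hs

/-- The class of a cycle. -/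
noncomputable def cls {U : Opens X} (s : (R.K.X q).obj.obj (op U))
    (hs : (R.K.d q (q + 1)).hom.app (op U) s = 0) : Hc F q U :=
  R.toHc U q (R.exists_cycle s hs).choose

lemma cls_eq {U : Opens X} (z : (R.Z q).obj.obj (op U)) (s : (R.K.X q).obj.obj (op U))
    (hs : (R.K.d q (q + 1)).hom.app (op U) s = 0)
    (h : (kernel.ι (R.K.d q (q + 1))).hom.app (op U) z = s) : R.cls s hs = R.toHc U q z :=
  congrArg (R.toHc U q) (injective_app_of_mono (kernel.ι (R.K.d q (q + 1))) U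
    ((R.exists_cycle s hs).choose_spec.trans h.symm))

lemma cls_sub {U : Opens X} (s s' : (R.K.X q).obj.obj (op U))
    (hs : (R.K.d q (q + 1)).hom.app (op U) s = 0) (hs' : (R.K.d q (q + 1)).hom.app (op U) s' = 0) :
    R.cls (s - s') (by rw [map_sub, hs, hs', sub_self]) = R.cls s hs - R.cls s' hs' := by
  obtain ⟨z, rfl⟩ := R.exists_cycle s hs
  obtain ⟨z', rfl⟩ := R.exists_cycle s' hs'
  rw [R.cls_eq z _ hs rfl, R.cls_eq z' _ hs' rfl, R.cls_eq (z - z') _ _ (map_sub _ _ _), map_sub]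

lemma rs_cls {U V : Opens X} (h : V ≤ U) (s : (R.K.X q).obj.obj (op U))
    (hs : (R.K.d q (q + 1)).hom.app (op U) s = 0) :
    rs F q h (R.cls s hs) = R.cls ((R.K.X q).obj.map (homOfLE h).op s)
      (by rw [NatTrans.naturality_apply, hs, map_zero]) := by
  obtain ⟨z, rfl⟩ := R.exists_cycle s hs
  rw [R.cls_eq z _ hs rfl, R.cls_eq ((R.Z q).obj.map (homOfLE h).op z) _ _
    (NatTrans.naturality_apply _ _ _), toHc_map]

lemma exists_cls_eq {U : Opens X} (hA : R.AcyclicOn U) (x : Hc F q U) :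
    ∃ s hs, R.cls (q := q) (U := U) s hs = x := by
  obtain ⟨z, rfl⟩ := toHc_surjective hA q x
  exact ⟨_, congrArg (fun φ : R.Z q ⟶ R.K.X (q + 1) => φ.hom.app (op U) z) (kernel.condition _),
    R.cls_eq z _ _ rfl⟩

lemma cls_eq_zero_iff {U : Opens X} (hA : R.AcyclicOn U) {i : ℕ}
    (hi : (ComplexShape.up ℕ).prev q = i) (s : (R.K.X q).obj.obj (op U))
    (hs : (R.K.d q (q + 1)).hom.app (op U) s = 0) :
    R.cls s hs = 0 ↔ ∃ t, (R.K.d i q).hom.app (op U) t = s := by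
  obtain ⟨z, rfl⟩ := R.exists_cycle s hs
  rw [R.cls_eq z _ hs rfl, R.toHc_eq_zero_iff hA hi z]

/-- Preimages are monotone. -/
lemma preLe {W V : Opens Y} (h : W ≤ V) : (Opens.map f).obj W ≤ (Opens.map f).obj V :=
  fun _ hp => h hp

variable {R f}

/-- The criterion: separatedness and gluing of `W ↦ H^q(f⁻¹ W, F)` on a family of opens. -/
theorem secGood_push (hA : ∀ W, R.AcyclicOn ((Opens.map f).obj W)) {i : ℕ}
    (hi : (ComplexShape.up ℕ).prev q = i) {Bas : Set (Opens Y)} {V : Opens Y} (hV : V ∈ Bas)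
    (hc : IsCompact (V : Set Y)) (hle : ∀ B ∈ Bas, B ≤ V)
    (hbasis : ∀ W ≤ V, ∀ y ∈ W, ∃ B ∈ Bas, y ∈ B ∧ B ≤ W)
    (hinf : ∀ B ∈ Bas, ∀ B' ∈ Bas, B ⊓ B' ∈ Bas)
    (hsep : ∀ B ∈ Bas, ∀ x : Hc F q ((Opens.map f).obj B),
      (∀ y ∈ B, ∃ B' ∈ Bas, ∃ h : B' ≤ B, y ∈ B' ∧ rs F q (preLe f h) x = 0) → x = 0)
    (hglue : ∀ (ι : Type u) [Finite ι] (B : ι → Opens Y) (hB : ∀ a, B a ∈ Bas), V ≤ ⨆ a, B a →
      ∀ x : ∀ a, Hc F q ((Opens.map f).obj (B a)),
      (∀ a b, rs F q (preLe f (inf_le_left : B a ⊓ B b ≤ B a)) (x a) =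
        rs F q (preLe f (inf_le_right : B a ⊓ B b ≤ B b)) (x b)) →
      ∃ y : Hc F q ((Opens.map f).obj V), ∀ a, rs F q (preLe f (hle _ (hB a))) y = x a) :
    SecGood (R.pushSC f i q) V := by
  -- classes of locally bounding cycles vanish
  have key : ∀ B ∈ Bas, ∀ (s : (R.K.X q).obj.obj (op ((Opens.map f).obj B)))
      (hs : (R.K.d q (q + 1)).hom.app (op ((Opens.map f).obj B)) s = 0),
      LocBd (R.pushSC f i q) (W := B) s → R.cls s hs = 0 := by
    intro B hB s hs hl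
    refine hsep B hB _ fun y hy => ?_
    obtain ⟨N, hN, hyN, t, ht⟩ := hl y hy
    obtain ⟨B', hB', hyB', hB'N⟩ := hbasis N (hN.trans (hle B hB)) y hyN
    refine ⟨B', hB', hB'N.trans hN, hyB', ?_⟩
    rw [rs_cls, R.cls_eq_zero_iff (hA _) hi]
    refine ⟨(R.K.X i).obj.map (homOfLE (preLe f hB'N)).op t, ?_⟩
    refine (NatTrans.naturality_apply (R.K.d i q).hom _ t).trans ?_
    refine (congrArg ((R.K.X q).obj.map (homOfLE (preLe f hB'N)).op) ht).trans ?_
    exact map_map_apply (R.K.X q) (preLe f hN) (preLe f hB'N) s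
  refine ⟨fun s hs hl => (R.cls_eq_zero_iff (hA V) hi s hs).1 (key V hV s hs hl), ?_⟩
  intro W hW hyW z hz hcompat
  choose C hC hyC hCW using fun y : V => hbasis (W y) (hW y) y (hyW y)
  obtain ⟨t, ht⟩ := hc.elim_finite_subcover (fun y : V => (C y : Set Y)) (fun y => (C y).isOpen)
    (fun y hy => Set.mem_iUnion.2 ⟨⟨y, hy⟩, hyC ⟨y, hy⟩⟩)
  let x : ∀ a : (t : Set V), Hc F q ((Opens.map f).obj (C a)) := fun a =>
    R.cls ((R.K.X q).obj.map (homOfLE (preLe f (hCW a.1))).op (z a.1))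
      ((NatTrans.naturality_apply (R.K.d q (q + 1)).hom _ _).trans
        ((congrArg _ (hz a.1)).trans (map_zero _)))
  obtain ⟨y, hy⟩ := hglue (t : Set V) (fun a => C a) (fun a => hC a.1) (fun p hp => by
    obtain ⟨a, ha, hpa⟩ := Set.mem_iUnion₂.1 (ht hp)
    exact Opens.mem_iSup.2 ⟨⟨a, ha⟩, hpa⟩) x fun a b => by
      rw [← sub_eq_zero, rs_cls, rs_cls, ← cls_sub]
      refine key _ (hinf _ (hC a.1) _ (hC b.1)) _ _ ?_
      have h := (hcompat a.1 b.1).map (inf_le_inf (hCW a.1) (hCW b.1))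
      rw [map_sub, map_map_apply, map_map_apply] at h
      erw [map_map_apply (R.K.X q) (preLe f (hCW a.1)) (preLe f (inf_le_left : C a.1 ⊓ C b.1 ≤ C a.1)),
        map_map_apply (R.K.X q) (preLe f (hCW b.1)) (preLe f (inf_le_right : C a.1 ⊓ C b.1 ≤ C b.1))]
      exact h
  obtain ⟨s, hs, rfl⟩ := R.exists_cls_eq (hA V) y
  refine ⟨s, hs, fun v p hp => ?_⟩
  obtain ⟨a, ha, hpa⟩ := Set.mem_iUnion₂.1 (ht (hW v hp))
  let u : (R.pushSC f i q).X₂.obj.obj (op (C a)) :=
    (R.pushSC f i q).X₂.obj.map (homOfLE (hle _ (hC a))).op s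
  let u' : (R.pushSC f i q).X₂.obj.obj (op (C a)) :=
    (R.pushSC f i q).X₂.obj.map (homOfLE (hCW a)).op (z a)
  have hu : (R.K.d q (q + 1)).hom.app (op ((Opens.map f).obj (C a))) u = 0 :=
    (NatTrans.naturality_apply (R.K.d q (q + 1)).hom _ s).trans
      ((congrArg _ hs).trans (map_zero _))
  have hu' : (R.K.d q (q + 1)).hom.app (op ((Opens.map f).obj (C a))) u' = 0 :=
    (NatTrans.naturality_apply (R.K.d q (q + 1)).hom _ (z a)).trans
      ((congrArg _ (hz a)).trans (map_zero _))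
  have h1 : R.cls (u - u') ((map_sub _ u u').trans ((congrArg₂ (· - ·) hu hu').trans (sub_zero 0))) = 0 :=
    (R.cls_sub u u' hu hu').trans
      (sub_eq_zero.2 ((R.rs_cls (preLe f (hle _ (hC a))) s hs).symm.trans (hy ⟨a, ha⟩)))
  obtain ⟨t₁, ht₁⟩ := (R.cls_eq_zero_iff (hA _) hi _ _).1 h1
  have h2 := LocBd.of_eq (S := R.pushSC f i q) (W := C a) t₁ ht₁
  have h3 := (h2.map (inf_le_left : C a ⊓ W v ≤ C a)).add
    ((hcompat a v).map (inf_le_inf_right (W v) (hCW a)))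
  obtain ⟨N, hN, hpN, t₂, ht₂⟩ := h3 p ⟨hpa, hp⟩
  refine ⟨N, hN.trans inf_le_right, hpN, t₂, ht₂.trans ?_⟩
  simp only [u, u', map_sub, map_add, map_map_apply]
  exact sub_add_sub_cancel _ _ _

end Groth.Agent.CohFound.AugCx
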