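import Groth.Agent.Lib.CohFound.SecSpec
import Groth.Agent.Lib.CohFound.ModRes

/-!
# Higher direct images to an affine scheme are quasi-coherent
-/

set_option maxHeartbeats 400000

universe u

open CategoryTheory TopologicalSpace Opposite CategoryTheory.Limits Abelian AlgebraicGeometry

namespace Groth.Agent.CohFound

variable {X : Scheme.{u}}

lemma ModRes.cls_gEnd {M : X.Modules} (R : ModRes M) (r : Γ(X, ⊤)) {U : Opens (sp X)} {q : ℕ}
    (s : (R.toAug.K.X q).obj.obj (op U))
    (hs : (R.toAug.K.d q (q + 1)).hom.app (op U) s = 0)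
    (hs' : (R.toAug.K.d q (q + 1)).hom.app (op U) (((R.smulK r).f q).hom.app (op U) s) = 0) :
    R.toAug.cls (((R.smulK r).f q).hom.app (op U) s) hs' = gMul M r q U (R.toAug.cls s hs) := by
  obtain ⟨z, hz⟩ := R.toAug.exists_cycle s hs
  refine (R.toAug.cls_eq ((AugCx.zMap R.toAug R.toAug (R.smulK r) q).hom.app (op U) z) _ hs' ?_).trans
    ((R.gMul_toHc r U q z).symm.trans (congrArg (gMul M r q U) (R.toAug.cls_eq z s hs hz).symm))
  refine (congrArg (fun φ : R.toAug.Z q ⟶ R.toAug.K.X q => φ.hom.app (op U) z)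
    (AugCx.zMap_ι R.toAug R.toAug (R.smulK r) q)).trans ?_
  exact congrArg (((R.smulK r).f q).hom.app (op U)) hz

variable {Y : Scheme.{u}} (f : X ⟶ Y) {M : X.Modules} (R : ModRes M)

/-- The direct image of the resolution around degree `q`. -/
noncomputable abbrev ModRes.pushSC (i q : ℕ) : ShortComplex Y.Modules :=
  (((Scheme.Modules.pushforward f).mapHomologicalComplex (ComplexShape.up ℕ)).obj R.K).sc' i q
    (q + 1)

lemma pushSC_map_f (i q : ℕ) :
    (abF Y).map (R.pushSC f i q).f = (R.toAug.pushSC (f.base : sp X ⟶ sp Y) i q).f := by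
  ext U s
  rfl

lemma pushSC_map_g (i q : ℕ) :
    (abF Y).map (R.pushSC f i q).g = (R.toAug.pushSC (f.base : sp X ⟶ sp Y) i q).g := by
  ext U s
  rfl

/-- The module homology as homology data of the underlying sheaves. -/
noncomputable def modHData (i q : ℕ) : HData (R.toAug.pushSC (f.base : sp X ⟶ sp Y) i q) where
  Z := (abF Y).obj (R.pushSC f i q).cycles
  H := (abF Y).obj (R.pushSC f i q).homology
  i := (abF Y).map (R.pushSC f i q).iCycles
  mono := inferInstanceAs (Mono ((abF Y).map (R.pushSC f i q).iCycles))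
  wi := by
    rw [← pushSC_map_g]
    exact (CategoryTheory.Functor.map_comp (abF Y) _ _).symm.trans
      ((congrArg (abF Y).map (R.pushSC f i q).iCycles_g).trans ((abF Y).map_zero _ _))
  exactI := by
    have h := (ShortComplex.exact_of_f_is_kernel (ShortComplex.mk _ _ (R.pushSC f i q).iCycles_g)
      (R.pushSC f i q).cyclesIsKernel).map (abF Y)
    exact ShortComplex.exact_of_iso (ShortComplex.isoMk (Iso.refl _) (Iso.refl _) (Iso.refl _)
      ((Category.id_comp _).trans (Category.comp_id _).symm)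
      ((Category.id_comp _).trans ((pushSC_map_g f R i q).symm.trans (Category.comp_id _).symm))) h
  a := (abF Y).map (R.pushSC f i q).toCycles
  ha := (CategoryTheory.Functor.map_comp (abF Y) _ _).symm.trans
    ((congrArg (abF Y).map (R.pushSC f i q).toCycles_i).trans (pushSC_map_f f R i q))
  π := (abF Y).map (R.pushSC f i q).homologyπ
  w := (CategoryTheory.Functor.map_comp (abF Y) _ _).symm.trans
    ((congrArg (abF Y).map (R.pushSC f i q).toCycles_comp_homologyπ).trans ((abF Y).map_zero _ _))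
  exactπ := (ShortComplex.exact_of_g_is_cokernel
    (ShortComplex.mk _ _ (R.pushSC f i q).toCycles_comp_homologyπ)
    (R.pushSC f i q).homologyIsCokernel).map (abF Y)
  epi := inferInstanceAs (Epi ((abF Y).map (R.pushSC f i q).homologyπ))

lemma dataCls_smul (i q : ℕ) (V : Y.Opens) (c : Γ(Y, V)) (r : Γ(X, ⊤))
    (hr : f.app V c = M1.ores (le_top : f ⁻¹ᵁ V ≤ ⊤) r)
    (z : Γ((R.pushSC f i q).cycles, V)) :
    AugCx.dataCls (modHData f R i q) V (c • z : Γ((R.pushSC f i q).cycles, V)) =
      gMul M r q ((Opens.map (f.base : sp X ⟶ sp Y)).obj V)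
        (AugCx.dataCls (modHData f R i q) V z) := by
  have e : (modHData f R i q).i.hom.app (op V) (c • z : Γ((R.pushSC f i q).cycles, V)) =
      ((R.smulK r).f q).hom.app (op ((Opens.map (f.base : sp X ⟶ sp Y)).obj V))
        ((modHData f R i q).i.hom.app (op V) z) := by
    refine (Scheme.Modules.Hom.app_smul (R.pushSC f i q).iCycles c z).trans ?_
    change (f.app V c) • (show Γ(R.K.X q, f ⁻¹ᵁ V) from (R.pushSC f i q).iCycles.app V z) = _
    rw [hr]
    rfl
  have hs : (R.toAug.K.d q (q + 1)).hom.app (op ((Opens.map (f.base : sp X ⟶ sp Y)).obj V))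
      ((modHData f R i q).i.hom.app (op V) z) = 0 := (modHData f R i q).g_i V z
  have hs' := (congrArg _ e.symm).trans ((modHData f R i q).g_i V (c • z : Γ((R.pushSC f i q).cycles, V)))
  refine Eq.trans ?_ (R.cls_gEnd r _ hs hs')
  obtain ⟨a, ha⟩ := R.toAug.exists_cycle _ hs'
  exact (R.toAug.cls_eq a _ ((modHData f R i q).g_i V _) (ha.trans e.symm)).trans
    (R.toAug.cls_eq a _ hs' ha).symm

section Spec

variable {A : CommRingCat.{u}} [CompactSpace X] [QuasiSeparatedSpace X]

/-- Over an affine base, the homology of the direct image of the resolution is quasi-coherent. -/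
theorem isQuasicoherent_homology_pushSC (f : X ⟶ Spec A) [M.IsQuasicoherent] {i q : ℕ}
    (hi : (ComplexShape.up ℕ).prev q = i) :
    (R.pushSC f i q).homology.IsQuasicoherent := by
  have hS : ∀ g, SecGood (R.toAug.pushSC (f.base : sp X ⟶ sp (Spec A)) i q) (M1.bo g) :=
    fun g => secGood_bo f M R.toAug R.acyclicOn hi g
  have htop : SecGood (R.toAug.pushSC (f.base : sp X ⟶ sp (Spec A)) i q)
      (⊤ : (Spec A).Opens) := M1.bo_one (R := A) ▸ hS 1
  have hW : ∀ a : A, SecGood (R.toAug.pushSC (f.base : sp X ⟶ sp (Spec A)) i q)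
      (⊤ ⊓ (Spec A).basicOpen (M1.gs a) : (Spec A).Opens) := fun a => by
    rw [M1.basicOpen_gs, top_inf_eq]
    exact hS a
  let D := modHData f R i q
  let θ := AugCx.secEquiv D htop (R.acyclicOn _) hi
  let θ' := fun a => AugCx.secEquiv D (hW a) (R.acyclicOn _) hi
  have hsmul : ∀ {V : (Spec A).Opens} (hV : SecGood _ V) (a : A) (k : ℕ)
      (s : Γ((R.pushSC f i q).homology, V)),
      AugCx.secEquiv D hV (R.acyclicOn _) hi
          (M1.rs V (M1.gs a) ^ k • s : Γ((R.pushSC f i q).homology, V)) =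
        gMul M (baseHom f a ^ k) q _ (AugCx.secEquiv D hV (R.acyclicOn _) hi s) := by
    intro V hV a k s
    obtain ⟨z, hz⟩ : ∃ z : Γ((R.pushSC f i q).cycles, V),
        (R.pushSC f i q).homologyπ.app V z = s := AugCx.π_surjective D hV s
    subst hz
    have e : AugCx.secEquiv D hV (R.acyclicOn _) hi
        (M1.rs V (M1.gs a) ^ k • (R.pushSC f i q).homologyπ.app V z :
          Γ((R.pushSC f i q).homology, V)) =
        AugCx.dataCls D V (M1.rs V (M1.gs a) ^ k • z : Γ((R.pushSC f i q).cycles, V)) := by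
      rw [← Scheme.Modules.Hom.app_smul]
      exact AugCx.secEquiv_π D hV (R.acyclicOn _) hi _
    refine e.trans ((dataCls_smul f R i q V _ _ ?_ z).trans
      (congrArg (gMul M (baseHom f a ^ k) q _) (AugCx.secEquiv_π D hV (R.acyclicOn _) hi z).symm))
    rw [map_pow, M1.app_rs, map_pow]
    rfl
  have hT : IsCompact
      ((Opens.map (f.base : sp X ⟶ sp (Spec A))).obj (⊤ : (Spec A).Opens) : Set X) := isCompact_univ
  have hpre : ∀ a : A, (Opens.map (f.base : sp X ⟶ sp (Spec A))).obj
        (⊤ ⊓ (Spec A).basicOpen (M1.gs a) : (Spec A).Opens) =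
      (Opens.map (f.base : sp X ⟶ sp (Spec A))).obj (⊤ : (Spec A).Opens) ⊓
        gOpen (baseHom f a) := fun a => by
    rw [← preimage_bo f a, ← M1.basicOpen_gs]
    rfl
  refine M1.isQuasicoherent_of_loc _ (fun a t ht => ?_) fun a s => ?_
  · have h1 := AugCx.rs_secEquiv D htop (R.acyclicOn _) hi (hW a) (R.acyclicOn _) inf_le_left t
    have h2 : θ' a (D.H.obj.map (homOfLE (inf_le_left : (⊤ : (Spec A).Opens) ⊓
        (Spec A).basicOpen (M1.gs a) ≤ ⊤)).op t) = 0 := (congrArg (θ' a) ht).trans (map_zero _)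
    have h3 := congrArg (rs ((abF X).obj M) q (hpre a).ge) (h1.trans h2)
    rw [rs_rs, map_zero] at h3
    obtain ⟨k, hk⟩ := (locAll_of_isCompact M (baseHom f a) hT q).1 _ h3
    exact ⟨k, θ.injective (((hsmul htop a k t).trans hk).trans (map_zero _).symm)⟩
  · obtain ⟨k, η, hη⟩ := (locAll_of_isCompact M (baseHom f a) hT q).2
      (rs ((abF X).obj M) q (hpre a).ge (θ' a s))
    refine ⟨k, θ.symm η, (θ' a).injective ?_⟩
    refine (AugCx.rs_secEquiv D htop (R.acyclicOn _) hi (hW a) (R.acyclicOn _) inf_le_left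
      (θ.symm η)).symm.trans ?_
    rw [AddEquiv.apply_symm_apply]
    refine Eq.trans ?_ (hsmul (hW a) a k s).symm
    have h3 := congrArg (rs ((abF X).obj M) q (hpre a).le) hη
    rw [rs_rs, ← mp_rs, rs_rs, rs_refl] at h3
    exact h3

/-- The global sections of the homology are the cohomology. -/
theorem nonempty_sections_homology_pushSC (f : X ⟶ Spec A) [M.IsQuasicoherent] {i q : ℕ}
    (hi : (ComplexShape.up ℕ).prev q = i) :
    Nonempty (Γ((R.pushSC f i q).homology, ⊤) ≃+ Hc ((abF X).obj M) q ⊤) :=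
  ⟨(AugCx.secEquiv (modHData f R i q) (V := (⊤ : (Spec A).Opens))
    (M1.bo_one (R := A) ▸ secGood_bo f M R.toAug R.acyclicOn hi 1) (R.acyclicOn _) hi :)⟩

end Spec

end Groth.Agent.CohFound
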