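import Groth.Agent.Lib.CohFound.SecEquiv
import Groth.Agent.Lib.CohFound.OpenEmb

/-!
# Good sections and open embeddings
-/

set_option maxHeartbeats 400000

universe u

open CategoryTheory TopologicalSpace Opposite CategoryTheory.Limits

namespace Groth.Agent.CohFound

variable {T T' : TopCat.{u}} {j : T' ⟶ T} (hj : Topology.IsOpenEmbedding j)

lemma image_preimage_le (N : Opens T) : hj.isOpenMap.functor.obj ((Opens.map j).obj N) ≤ N := by
  rintro _ ⟨y, hy, rfl⟩
  exact hy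

lemma locBd_resEmb_iff (S : ShortComplex (CohTop.Ab T)) {W : Opens T'}
    (s : S.X₂.obj.obj (op (hj.isOpenMap.functor.obj W))) :
    LocBd (S.map (resEmb hj)) (W := W) s ↔ LocBd S (W := hj.isOpenMap.functor.obj W) s := by
  constructor
  · intro h y hy
    obtain ⟨y', hy', rfl⟩ := hy
    obtain ⟨N, hN, hyN, t, ht⟩ := h y' hy'
    exact ⟨hj.isOpenMap.functor.obj N, leOfHom (hj.isOpenMap.functor.map (homOfLE hN)),
      ⟨y', hyN, rfl⟩, t, ht⟩
  · intro h y hy
    obtain ⟨N, hN, hyN, t, ht⟩ := h (j y) ⟨y, hy, rfl⟩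
    have hW : (Opens.map j).obj N ≤ W := fun p hp => by
      obtain ⟨p', hp', e⟩ := hN hp
      exact hj.injective e ▸ hp'
    refine ⟨(Opens.map j).obj N, hW, hyN,
      S.X₁.obj.map (homOfLE (image_preimage_le hj N)).op t, ?_⟩
    exact (NatTrans.naturality_apply S.f.hom _ t).trans
      ((congrArg (S.X₂.obj.map (homOfLE (image_preimage_le hj N)).op) ht).trans
        (map_map_apply S.X₂ hN (image_preimage_le hj N) s))

/-- Good sections descend along open embeddings. -/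
theorem SecGood.of_resEmb (S : ShortComplex (CohTop.Ab T)) {V' : Opens T'}
    (h : SecGood (S.map (resEmb hj)) V') : SecGood S (hj.isOpenMap.functor.obj V') := by
  refine ⟨fun s hs hl => h.isBd s hs ((locBd_resEmb_iff hj S s).2 hl), ?_⟩
  intro W hW hyW z hz hcompat
  let pt : V' → hj.isOpenMap.functor.obj V' := fun y' => ⟨j y', y', y'.2, rfl⟩
  have hW' : ∀ y' : V', (Opens.map j).obj (W (pt y')) ≤ V' := fun y' p hp => by
    obtain ⟨p', hp', e⟩ := hW _ hp
    exact hj.injective e ▸ hp'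
  obtain ⟨s, hs, hs'⟩ := h.glue (fun y' => (Opens.map j).obj (W (pt y'))) hW'
    (fun y' => hyW (pt y'))
    (fun y' => S.X₂.obj.map (homOfLE (image_preimage_le hj (W (pt y')))).op (z (pt y')))
    (fun y' => (NatTrans.naturality_apply S.g.hom _ (z (pt y'))).trans
      ((congrArg _ (hz (pt y'))).trans (map_zero _)))
    fun y y' => by
      refine (locBd_resEmb_iff hj S _).2 ?_
      have hle : hj.isOpenMap.functor.obj
          ((Opens.map j).obj (W (pt y)) ⊓ (Opens.map j).obj (W (pt y'))) ≤ W (pt y) ⊓ W (pt y') :=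
        image_preimage_le hj (W (pt y) ⊓ W (pt y'))
      have h1 := (hcompat (pt y) (pt y')).map hle
      rw [map_sub, map_map_apply, map_map_apply] at h1
      change LocBd S (S.X₂.obj.map (homOfLE (leOfHom (hj.isOpenMap.functor.map (homOfLE
            (inf_le_left : (Opens.map j).obj (W (pt y)) ⊓ (Opens.map j).obj (W (pt y')) ≤
              (Opens.map j).obj (W (pt y))))))).op
          (S.X₂.obj.map (homOfLE (image_preimage_le hj (W (pt y)))).op (z (pt y))) -
        S.X₂.obj.map (homOfLE (leOfHom (hj.isOpenMap.functor.map (homOfLE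
            (inf_le_right : (Opens.map j).obj (W (pt y)) ⊓ (Opens.map j).obj (W (pt y')) ≤
              (Opens.map j).obj (W (pt y'))))))).op
          (S.X₂.obj.map (homOfLE (image_preimage_le hj (W (pt y')))).op (z (pt y'))))
      rw [map_map_apply, map_map_apply]
      exact h1
  refine ⟨s, hs, fun y => ?_⟩
  obtain ⟨y', hy', e⟩ := y.2
  obtain rfl : pt ⟨y', hy'⟩ = y := Subtype.ext e
  intro p hp
  obtain ⟨p', -, rfl⟩ := hW _ hp
  have h1 := (locBd_resEmb_iff hj S _).1 (hs' ⟨y', hy'⟩)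
  obtain ⟨N, hN, hpN, t, ht⟩ := h1 (j p') ⟨p', hp, rfl⟩
  refine ⟨N, hN.trans (image_preimage_le hj _), hpN, t, ht.trans ?_⟩
  refine (map_sub _ _ _).trans ((congrArg₂ (· - ·)
    (map_map_apply S.X₂ (leOfHom (hj.isOpenMap.functor.map (homOfLE (hW' ⟨y', hy'⟩)))) hN s)
    (map_map_apply S.X₂ (image_preimage_le hj (W (pt ⟨y', hy'⟩))) hN (z (pt ⟨y', hy'⟩)))).trans ?_)
  exact ((map_sub _ _ _).trans (congrArg₂ (· - ·) (map_map_apply S.X₂ _ _ s) rfl)).symm

/-- Good sections are invariant under isomorphisms. -/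
theorem SecGood.of_iso {S S' : ShortComplex (CohTop.Ab T)} (e : S ≅ S') {V : Opens T}
    (h : SecGood S V) : SecGood S' V := by
  have hf : ∀ (N : Opens T) t, S'.f.hom.app (op N) (e.hom.τ₁.hom.app (op N) t) =
      e.hom.τ₂.hom.app (op N) (S.f.hom.app (op N) t) := fun N t =>
    congrArg (fun φ : S.X₁ ⟶ S'.X₂ => φ.hom.app (op N) t) e.hom.comm₁₂
  have hf' : ∀ (N : Opens T) t, S.f.hom.app (op N) (e.inv.τ₁.hom.app (op N) t) =
      e.inv.τ₂.hom.app (op N) (S'.f.hom.app (op N) t) := fun N t =>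
    congrArg (fun φ : S'.X₁ ⟶ S.X₂ => φ.hom.app (op N) t) e.inv.comm₁₂
  have he : ∀ (N : Opens T) s, e.hom.τ₂.hom.app (op N) (e.inv.τ₂.hom.app (op N) s) = s :=
    fun N s => congrArg (fun φ : S'.X₂ ⟶ S'.X₂ => φ.hom.app (op N) s)
      (congrArg ShortComplex.Hom.τ₂ e.inv_hom_id)
  have hl : ∀ {N : Opens T} (s : S'.X₂.obj.obj (op N)), LocBd S' s →
      LocBd S (e.inv.τ₂.hom.app (op N) s) := fun s hs y hy => by
    obtain ⟨N, hN, hyN, t, ht⟩ := hs y hy
    refine ⟨N, hN, hyN, e.inv.τ₁.hom.app (op N) t, ?_⟩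
    rw [hf', ht]
    exact NatTrans.naturality_apply e.inv.τ₂.hom _ s
  have hc : ∀ {N : Opens T} (s : S'.X₂.obj.obj (op N)), S'.g.hom.app (op N) s = 0 →
      S.g.hom.app (op N) (e.inv.τ₂.hom.app (op N) s) = 0 := fun {N} s hs => by
    refine (congrArg (fun φ : S'.X₂ ⟶ S.X₃ => φ.hom.app (op N) s) e.inv.comm₂₃).trans ?_
    exact (congrArg (e.inv.τ₃.hom.app (op N)) hs).trans (map_zero _)
  refine ⟨fun s hs hs' => ?_, fun W hW hyW z hz hcompat => ?_⟩
  · obtain ⟨t, ht⟩ := h.isBd _ (hc s hs) (hl s hs')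
    exact ⟨e.hom.τ₁.hom.app (op V) t, by rw [hf, ht, he]⟩
  · obtain ⟨s, hs, hs'⟩ := h.glue W hW hyW (fun y => e.inv.τ₂.hom.app (op (W y)) (z y))
      (fun y => hc _ (hz y)) fun y y' => by
        have h1 := hl _ (hcompat y y')
        rw [map_sub, NatTrans.naturality_apply, NatTrans.naturality_apply] at h1
        exact h1
    refine ⟨e.hom.τ₂.hom.app (op V) s,
      (congrArg (fun φ : S.X₂ ⟶ S'.X₃ => φ.hom.app (op V) s) e.hom.comm₂₃).trans
        ((congrArg (e.hom.τ₃.hom.app (op V)) hs).trans (map_zero _)), fun y p hp => ?_⟩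
    obtain ⟨N, hN, hpN, t, ht⟩ := hs' y p hp
    refine ⟨N, hN, hpN, e.hom.τ₁.hom.app (op N) t, ?_⟩
    rw [hf, ht, NatTrans.naturality_apply, map_sub, he, NatTrans.naturality_apply]

end Groth.Agent.CohFound
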