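import Groth.Agent.Lib.CohFound.SerreAffine
import Groth.Agent.Lib.CohFound.SerreVan

/-!
# Consequences of Serre's criterion for affineness
-/

set_option autoImplicit false

universe u

open CategoryTheory TopologicalSpace Opposite CategoryTheory.Limits AlgebraicGeometry

namespace Groth.Agent.CohFound

variable {X : Scheme.{u}}

theorem h1IdealVan_of_HH (h : ∀ (I : X.Modules) (i : I ⟶ Coh.structureModule X), Mono i →
    Coh.IsQCoh I → Subsingleton (Coh.HH X I 1)) : H1IdealVan X :=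
  fun I i hi hI => (subsingleton_HH_iff I 1).1 (h I i hi hI)

/-- Quasi-coherent ideals extend from quasi-compact open subschemes. -/
theorem exists_ideal_restrict_iso {Y : Scheme.{u}} (j : Y ⟶ X) [IsOpenImmersion j] [QuasiCompact j]
    (J : Y.Modules) (i : J ⟶ Coh.structureModule Y) [Mono i] (hJ : Coh.IsQCoh J) :
    ∃ (K : X.Modules) (k : K ⟶ Coh.structureModule X), Mono k ∧ Coh.IsQCoh K ∧
      Nonempty (K.restrict j ≅ J) := by
  let H : M1.Sub ((Coh.structureModule X).restrict j) :=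
    ⟨J, i ≫ (Scheme.Modules.restrictUnitIso j).inv, inferInstance⟩
  let p := M1.Sub.ext j H
  obtain ⟨e, -⟩ := M1.Sub.exists_iso (p.res j) H (M1.Sub.mem_res_ext j H)
  exact ⟨p.P, p.i, p.mono, M1.Sub.isQCoh_ext j (M1.isQCoh_structureModule X) H hJ, ⟨e⟩⟩

/-- The criterion on an open subscheme with quasi-compact inclusion. -/
theorem isAffineOpen_of_h1 (U : X.Opens) (hU : IsCompact (U : Set X)) [QuasiCompact U.ι]
    (h : ∀ (K : X.Modules) (k : K ⟶ Coh.structureModule X), Mono k → Coh.IsQCoh K →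
      Subsingleton (Hc ((abF X).obj K) 1 U)) : IsAffineOpen U := by
  have : CompactSpace (U : Scheme.{u}) := isCompact_iff_compactSpace.mp hU
  refine isAffine_of_h1IdealVan fun J i hi hJ => ?_
  obtain ⟨K, k, hk, hK, ⟨e⟩⟩ := exists_ideal_restrict_iso U.ι J i hJ
  obtain ⟨e'⟩ := nonempty_hc_abF_restrict U.ι K 1 ⊤
  rw [Scheme.Hom.image_top_eq_opensRange, Scheme.Opens.opensRange_ι] at e'
  exact subsingleton_hc_of_iso e 1 ⊤ (@Equiv.subsingleton _ _ e'.toEquiv (h K k hk hK))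

/-- A morphism whose `R¹` kills ideals is affine. -/
theorem isAffineHom_of_rpush_van {Y : Scheme.{u}} (f : X ⟶ Y) [QuasiCompact f]
    [QuasiSeparatedSpace X] [QuasiSeparatedSpace Y]
    (h : ∀ (I : X.Modules) (i : I ⟶ Coh.structureModule X), Mono i → Coh.IsQCoh I →
      IsZero ((Coh.RpushAb f 1).obj (Coh.toAb I))) : IsAffineHom f := by
  refine ⟨fun W hW => ?_⟩
  have : QuasiSeparated f := QuasiSeparated.of_quasiSeparatedSpace f
  have : QuasiCompact (f ⁻¹ᵁ W).ι :=
    M1.quasiCompact_ι _ fun V hV => QuasiSeparatedSpace.inter_isCompact _ _ (f ⁻¹ᵁ W).isOpen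
      (QuasiCompact.isCompact_preimage (f := f) _ W.isOpen hW.isCompact) V.isOpen hV.isCompact
  refine isAffineOpen_of_h1 _ (QuasiCompact.isCompact_preimage (f := f) _ W.isOpen hW.isCompact) fun K k hk hK => ?_
  obtain ⟨e⟩ := nonempty_sections_rpushAb f hK 1 hW
  have hz := AddCommGrpCat.subsingleton_of_isZero
    ((((sheafToPresheaf _ _) ⋙ (evaluation _ _).obj (op (W : Opens (sp Y))))).map_isZero (h K k hk hK))
  exact @Equiv.subsingleton _ _ e.toEquiv.symm hz

/-- Part (i) of the localised criterion. -/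
theorem exists_pow_smul_of_isAffineOpen [CompactSpace X] [QuasiSeparatedSpace X] (f : Γ(X, ⊤))
    (hf : IsAffineOpen (X.basicOpen f)) (M : X.Modules) [Coh.IsQCoh M] (i : ℕ) (hi : 0 < i)
    (ξ : Coh.HH X M i) : ∃ n : ℕ, f ^ n • ξ = 0 := by
  obtain ⟨e⟩ := nonempty_HHon_basicOpen M f i
  obtain ⟨e₂⟩ := nonempty_HHon_addEquiv M (X.basicOpen f) i
  obtain ⟨q, rfl⟩ := Nat.exists_eq_succ_of_ne_zero hi.ne'
  have : Subsingleton (Hc ((abF X).obj M) (q + 1) (X.basicOpen f)) :=
    subsingleton_hc_isAffineOpen M hf q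
  have hL : Subsingleton (LocalizedModule (Submonoid.powers f) (Coh.HH X M (q + 1))) :=
    @Equiv.subsingleton _ _ (e.symm.trans e₂).toEquiv this
  obtain ⟨s, ⟨n, rfl⟩, hs⟩ := LocalizedModule.subsingleton_iff.1 hL ξ
  exact ⟨n, hs⟩

/-- Part (ii) of the localised criterion. -/
theorem isAffineOpen_basicOpen_of_pow_smul [CompactSpace X] [QuasiSeparatedSpace X] (f : Γ(X, ⊤))
    (hc : IsCompact (X.basicOpen f : Set X))
    (h : ∀ (J : X.Modules) (ι : J ⟶ Coh.structureModule X), Mono ι → Coh.IsQCoh J →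
      ∀ ζ : Coh.HH X J 1, ∃ n : ℕ, f ^ n • ζ = 0) : IsAffineOpen (X.basicOpen f) := by
  have : QuasiCompact (X.basicOpen f).ι :=
    M1.quasiCompact_ι _ fun V hV => QuasiSeparatedSpace.inter_isCompact _ _ (X.basicOpen f).isOpen hc
      V.isOpen hV.isCompact
  refine isAffineOpen_of_h1 _ hc fun K k hk hK => ?_
  have := hK
  obtain ⟨e⟩ := nonempty_HHon_basicOpen K f 1
  obtain ⟨e₂⟩ := nonempty_HHon_addEquiv K (X.basicOpen f) 1
  have hL : Subsingleton (LocalizedModule (Submonoid.powers f) (Coh.HH X K 1)) :=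
    LocalizedModule.subsingleton_iff.2 fun ζ => by
      obtain ⟨n, hn⟩ := h K k hk hK ζ
      exact ⟨f ^ n, ⟨n, rfl⟩, hn⟩
  exact @Equiv.subsingleton _ _ (e.symm.trans e₂).toEquiv.symm hL

end Groth.Agent.CohFound
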